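import Cfsg.Agent.Lib.Components.Basic
import Cfsg.Agent.Lib.Thompson.Cores
import Cfsg.Agent.Lib.Fitting

/-!
# The generalized Fitting subgroup of a finite group
-/

set_option autoImplicit false
set_option linter.style.haveILetI false

namespace Cfsg.Agent.Components

open Subgroup
open scoped commutatorElement Pointwise

variable {G : Type*} [Group G]

/-! ### Characteristic subgroups -/

theorem layer_le_generalizedFitting : layer G ≤ generalizedFittingSubgroup G := le_sup_left

theorem fitting_le_generalizedFitting : fittingSubgroup G ≤ generalizedFittingSubgroup G :=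
  le_sup_right

theorem component_le_generalizedFitting {L : Subgroup G} (hL : IsComponent L) :
    L ≤ generalizedFittingSubgroup G :=
  (component_le_layer hL).trans layer_le_generalizedFitting

theorem map_fitting_equiv {G' : Type*} [Group G'] (f : G ≃* G') :
    (fittingSubgroup G).map f.toMonoidHom = fittingSubgroup G' :=
  Thompson.map_sSup_eq f (fun _ hN => ⟨hN.1.map _ f.surjective, Fitting.isNilpotent_map _ hN.2⟩)
    (fun _ hN => ⟨hN.1.map _ f.symm.surjective, Fitting.isNilpotent_map _ hN.2⟩)

theorem map_generalizedFitting_equiv {G' : Type*} [Group G'] (f : G ≃* G') :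
    (generalizedFittingSubgroup G).map f.toMonoidHom = generalizedFittingSubgroup G' := by
  rw [generalizedFittingSubgroup, Subgroup.map_sup, map_layer_equiv, map_fitting_equiv,
    generalizedFittingSubgroup]

instance generalizedFitting_characteristic : (generalizedFittingSubgroup G).Characteristic :=
  characteristic_iff_map_eq.mpr fun φ => map_generalizedFitting_equiv φ

/-! ### The centre of the layer -/

theorem mem_iSup_center_of_mem_sSup {T : Set (Subgroup G)} (hT : T.Finite)
    (hc : ∀ L ∈ T, IsComponent L) {x : G} (hx : x ∈ sSup T)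
    (hx' : x ∈ Subgroup.centralizer ((sSup T : Subgroup G) : Set G)) :
    x ∈ ⨆ L ∈ T, (center L).map L.subtype := by
  induction T, hT using Set.Finite.induction_on generalizing x with
  | empty => simpa using hx
  | @insert L T hmem _ ih =>
    rw [sSup_insert] at hx hx'
    have hL : IsComponent L := hc L (Set.mem_insert _ _)
    have hcomm : sSup T ≤ Subgroup.centralizer (L : Set G) :=
      sSup_le fun M hM => component_le_centralizer (hc M (Set.mem_insert_of_mem _ hM)) hL
        fun e => hmem (e ▸ hM)
    have hnorm : L ≤ Subgroup.normalizer ((sSup T : Subgroup G) : Set G) :=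
      (Subgroup.le_centralizer_iff.mp hcomm).trans (Subgroup.centralizer_le_normalizer _)
    have hset : x ∈ (L : Set G) * ((sSup T : Subgroup G) : Set G) := by
      rw [← coe_mul_of_left_le_normalizer_right _ _ hnorm]
      exact hx
    obtain ⟨l, hl, y, hy, rfl⟩ := hset
    simp only at hx hx' ⊢
    have hxL : l * y ∈ Subgroup.centralizer (L : Set G) :=
      Subgroup.centralizer_le (show (L : Set G) ⊆ ((L ⊔ sSup T : Subgroup G) : Set G) from
        le_sup_left (a := L)) hx'
    have hlc : l ∈ Subgroup.centralizer (L : Set G) := (mul_mem_cancel_right (hcomm hy)).mp hxL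
    have hlT : l ∈ Subgroup.centralizer ((sSup T : Subgroup G) : Set G) :=
      Subgroup.le_centralizer_iff.mp hcomm hl
    have hxT : l * y ∈ Subgroup.centralizer ((sSup T : Subgroup G) : Set G) :=
      Subgroup.centralizer_le (show ((sSup T : Subgroup G) : Set G) ⊆
        ((L ⊔ sSup T : Subgroup G) : Set G) from le_sup_right (a := L)) hx'
    have hyT := (mul_mem_cancel_left hlT).mp hxT
    rw [iSup_insert]
    refine mul_mem (mem_sup_left ?_) (mem_sup_right
      (ih (fun M hM => hc M (Set.mem_insert_of_mem _ hM)) hy hyT))
    exact ⟨⟨l, hl⟩, mem_center_iff.mpr fun z => Subtype.ext (mem_centralizer_iff.mp hlc z z.2),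
      rfl⟩

/-- The centre of the layer is generated by the centres of the components. -/
theorem map_center_layer [Finite G] :
    (center (layer G)).map (layer G).subtype =
      ⨆ L : {K : Subgroup G // IsComponent K},
        (center (L : Subgroup G)).map (L : Subgroup G).subtype := by
  apply le_antisymm
  · rintro x ⟨z, hz, rfl⟩
    have h := mem_iSup_center_of_mem_sSup (T := {K : Subgroup G | IsComponent K}) (Set.toFinite _)
      (fun _ h => h) z.2 (mem_centralizer_iff.mpr fun y hy =>
        congrArg Subtype.val (mem_center_iff.mp hz ⟨y, hy⟩))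
    rw [iSup_subtype]
    exact h
  · refine iSup_le fun ⟨L, hL⟩ => ?_
    rintro x ⟨z, hz, rfl⟩
    refine ⟨⟨z, component_le_layer hL z.2⟩, ?_, rfl⟩
    rw [SetLike.mem_coe, mem_center_iff]
    intro g
    have key : layer G ≤ Subgroup.centralizer ({(z : G)} : Set G) := by
      rw [layer_le_iff]
      intro M hM m hm
      rw [mem_centralizer_singleton_iff]
      rcases eq_or_ne M L with rfl | hne
      · exact congrArg Subtype.val (mem_center_iff.mp hz ⟨m, hm⟩)
      · exact (mem_centralizer_iff.mp (component_le_centralizer hM hL hne hm) z z.2).symm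
    exact Subtype.ext (mem_centralizer_singleton_iff.mp (key g.2))

/-! ### `C(F*) ≤ F*` -/

variable [Finite G]

theorem map_fitting_isSubnormal_le {H : Subgroup G} (hH : H.IsSubnormal) :
    (fittingSubgroup H).map H.subtype ≤ fittingSubgroup G := by
  rw [Fitting.fitting_eq_iSup_pCore, Subgroup.map_iSup]
  refine iSup_le fun p => ?_
  haveI : Fact (p : ℕ).Prime := ⟨p.2⟩
  exact (Thompson.map_pCore_isSubnormal_le hH).trans (Fitting.pCore_le_fitting _)

/-- A subnormal nilpotent subgroup lies in the Fitting subgroup. -/
theorem le_fitting_of_isSubnormal {H : Subgroup G} (hH : H.IsSubnormal)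
    (hnil : Group.IsNilpotent H) : H ≤ fittingSubgroup G := by
  have h := map_fitting_isSubnormal_le hH
  rwa [Fitting.fitting_eq_top_iff.mpr hnil, ← MonoidHom.range_eq_map, range_subtype] at h

theorem map_generalizedFitting_isSubnormal_le {H : Subgroup G} (hH : H.IsSubnormal) :
    (generalizedFittingSubgroup H).map H.subtype ≤ generalizedFittingSubgroup G := by
  rw [generalizedFittingSubgroup, Subgroup.map_sup, generalizedFittingSubgroup]
  exact sup_le_sup (map_layer_isSubnormal_le hH) (map_fitting_isSubnormal_le hH)

/-- The centralizer of the generalized Fitting subgroup lies in it. -/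
theorem centralizer_generalizedFitting_le :
    Subgroup.centralizer (generalizedFittingSubgroup G : Set G) ≤ generalizedFittingSubgroup G := by
  by_contra hC
  set C := Subgroup.centralizer (generalizedFittingSubgroup G : Set G) with hCdef
  obtain ⟨S, hS⟩ := exists_minimal_of_wellFoundedLT
    (fun S : Subgroup G => S.IsSubnormal ∧ S ≤ C ∧ ¬ S ≤ generalizedFittingSubgroup G)
    ⟨C, (inferInstance : C.Normal).isSubnormal, le_rfl, hC⟩
  obtain ⟨⟨hsn, hSC, hSF⟩, hmin⟩ := hS
  have hsmall : ∀ N : Subgroup S, N.Normal → N = ⊤ ∨ N ≤ center S := by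
    intro N hN
    by_cases hNF : N.map S.subtype ≤ generalizedFittingSubgroup G
    · right
      intro n hn
      rw [mem_center_iff]
      intro g
      exact Subtype.ext (mem_centralizer_iff.mp (hSC g.2) n (hNF ⟨n, hn, rfl⟩)).symm
    · left
      have h := hmin ⟨hN.isSubnormal.trans' hsn, (map_subtype_le _).trans hSC, hNF⟩
        (map_subtype_le _)
      rw [eq_top_iff]
      rintro x -
      obtain ⟨y, hy, he⟩ := h x.2
      exact Subtype.ext he ▸ hy
  have hne : S ≠ ⊥ := fun h => hSF (h.le.trans bot_le)
  haveI : Nontrivial S := (Subgroup.nontrivial_iff_ne_bot S).mpr hne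
  rcases hsmall (commutator S) inferInstance with h | h
  · haveI : Group.IsPerfect S := ⟨h⟩
    exact hSF (component_le_generalizedFitting ⟨hsn, isQuasisimple_of_forall_normal hsmall⟩)
  · have hnil : Group.IsNilpotent S := by
      rw [Subgroup.nilpotent_iff_lowerCentralSeries]
      refine ⟨2, ?_⟩
      rw [Subgroup.lowerCentralSeries_succ, Subgroup.top_lowerCentralSeries_one,
        commutator_top_right_eq_bot_iff_le_center]
      exact h
    exact hSF ((le_fitting_of_isSubnormal hsn hnil).trans fitting_le_generalizedFitting)

omit [Finite G] in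
theorem generalizedFitting_eq_fitting_of_isSolvable (h : Group.IsSolvable G) :
    generalizedFittingSubgroup G = fittingSubgroup G := by
  rw [generalizedFittingSubgroup, layer_eq_bot_of_isSolvable h, bot_sup_eq]

theorem generalizedFitting_eq_bot_iff : generalizedFittingSubgroup G = ⊥ ↔ Subsingleton G := by
  constructor
  · intro h
    have h1 := centralizer_generalizedFitting_le (G := G)
    rw [h, le_bot_iff, centralizer_eq_top_iff_subset.mpr (by simp)] at h1
    exact Subgroup.subsingleton_iff.mp (subsingleton_iff_bot_eq_top.mp h1.symm)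
  · intro h
    exact Subgroup.eq_bot_of_subsingleton _

/-- A component of order prime to `p` lies in `O_{p'}`. -/
theorem component_le_pPrimeCore {p : ℕ} {L : Subgroup G} (hL : IsComponent L)
    (h : (Nat.card L).Coprime p) : L ≤ pPrimeCore p G :=
  Thompson.le_pPrimeCore_of_isSubnormal hL.1 h

/-- If `O_{p'}(G) = 1` then `p` divides the order of each component. -/
theorem dvd_card_component {p : ℕ} [hp : Fact p.Prime] (hO : pPrimeCore p G = ⊥) {L : Subgroup G}
    (hL : IsComponent L) : p ∣ Nat.card L := by
  by_contra h
  refine component_ne_bot hL (le_bot_iff.mp (hO ▸ component_le_pPrimeCore hL ?_))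
  exact ((hp.out.coprime_iff_not_dvd).mpr h).symm

end Cfsg.Agent.Components

namespace Cfsg.Agent.Components

open Subgroup

variable {X : Type*} [Group X]

/-- For a finite quasisimple group, a prime dividing the order divides the order of the central
quotient. -/
theorem dvd_card_quotient_center_of_isQuasisimple [Finite X] {p : ℕ} [hp : Fact p.Prime]
    (hX : IsQuasisimple X) (h : p ∣ Nat.card X) : p ∣ Nat.card (X ⧸ center X) := by
  by_contra hndvd
  have hker : (MonoidHom.transferCenterPow X).ker = ⊤ := by
    rw [eq_top_iff, ← hX.1.commutator_eq_top, _root_.commutator_def, commutator_le]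
    intro a _ b _
    rw [MonoidHom.mem_ker, map_commutatorElement, commutatorElement_eq_one_iff_mul_comm]
    exact Subtype.ext (mem_center_iff.mp (MonoidHom.transferCenterPow X b).2 _)
  obtain ⟨g, hg⟩ := exists_prime_orderOf_dvd_card' p h
  have h1 : MonoidHom.transferCenterPow X g = 1 := by
    rw [← MonoidHom.mem_ker, hker]
    exact mem_top g
  have h2 : g ^ (center X).index = 1 := by
    rw [← MonoidHom.transferCenterPow_apply, h1]; rfl
  exact hndvd (hg ▸ orderOf_dvd_of_pow_eq_one h2)

end Cfsg.Agent.Components

namespace Cfsg.Agent.Components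

open Subgroup
open scoped commutatorElement IsMulCommutative

variable {G : Type*} [Group G]

/-- The image of a component under an epimorphism is trivial or a component. -/
theorem component_map_or_eq_bot {G' : Type*} [Group G'] (f : G →* G') (hf : Function.Surjective f)
    {L : Subgroup G} (hL : IsComponent L) : L.map f = ⊥ ∨ IsComponent (L.map f) := by
  by_cases h : L.map f = ⊥
  · exact Or.inl h
  · haveI := (Subgroup.nontrivial_iff_ne_bot _).mpr h
    exact Or.inr ⟨hL.1.map hf,
      isQuasisimple_of_surjective hL.2 (f.subgroupMap L) (f.subgroupMap_surjective L)⟩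

/-- An epimorphism maps the layer into the layer. -/
theorem map_layer_le {G' : Type*} [Group G'] (f : G →* G') (hf : Function.Surjective f) :
    (layer G).map f ≤ layer G' := by
  rw [map_le_iff_le_comap, layer_le_iff]
  intro L hL
  rw [← map_le_iff_le_comap]
  rcases component_map_or_eq_bot f hf hL with h | h
  · rw [h]; exact bot_le
  · exact component_le_layer h

/-- An element acting on a perfect subgroup `L` centrally centralizes it. -/
theorem mem_centralizer_of_commutator_mem_centralizer {L : Subgroup G} (hL : ⁅L, L⁆ = L) {y : G}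
    (hy : y ∈ Subgroup.normalizer (L : Set G))
    (h : ∀ l ∈ L, y * l * y⁻¹ * l⁻¹ ∈ Subgroup.centralizer (L : Set G)) :
    y ∈ Subgroup.centralizer (L : Set G) := by
  let f : L →* G := (MulAut.conj y).toMonoidHom.comp L.subtype
  have key : (⊤ : Subgroup L) ≤ MonoidHom.eqLocus f L.subtype := by
    rw [← (Subgroup.isPerfect_iff.mpr hL).commutator_eq_top, _root_.commutator_def,
      Subgroup.commutator_le]
    intro a _ b _
    show f ⁅a, b⁆ = L.subtype ⁅a, b⁆
    have hmem : ∀ a : L, y * (a : G) * y⁻¹ * (a : G)⁻¹ ∈
        L ⊓ Subgroup.centralizer (L : Set G) := fun a =>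
      ⟨mul_mem ((Subgroup.mem_normalizer_iff.mp hy (a : G)).mp a.2) (L.inv_mem a.2), h a a.2⟩
    let z : L → L := fun a => ⟨y * (a : G) * y⁻¹ * (a : G)⁻¹, (hmem a).1⟩
    have hz : ∀ a : L, z a ∈ center L := fun a => mem_center_iff.mpr fun g =>
      Subtype.ext (mem_centralizer_iff.mp (hmem a).2 g g.2)
    have hf : ∀ a : L, f a = L.subtype (z a * a) := fun a => by
      simp [f, z]
    have e : ⁅z a * a, z b * b⁆ = ⁅a, b⁆ := by
      have ca : z a * a = a * z a := (mem_center_iff.mp (hz a) a).symm
      have cb : z b * b = b * z b := (mem_center_iff.mp (hz b) b).symm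
      rw [ca, cb]
      exact commutator_mul_center (hz a) (hz b)
    rw [map_commutatorElement, hf, hf, ← map_commutatorElement, e]
  refine mem_centralizer_iff.mpr fun l hl => ?_
  have hk : y * l * y⁻¹ = l := key (mem_top (⟨l, hl⟩ : L))
  exact (mul_inv_eq_iff_eq_mul.mp hk).symm

section FiniteGroup

variable [Finite G]

theorem fitting_eq_pCore_of_pPrimeCore_eq_bot {p : ℕ} [hp : Fact p.Prime]
    (hO : pPrimeCore p G = ⊥) : fittingSubgroup G = pCore p G := by
  refine le_antisymm ?_ (Fitting.pCore_le_fitting p)
  rw [Fitting.fitting_eq_iSup_pCore]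
  refine iSup_le fun q => ?_
  haveI : Fact (q : ℕ).Prime := ⟨q.2⟩
  rcases eq_or_ne (q : ℕ) p with h | h
  · rw [h]
  · refine le_trans ?_ (hO.le.trans bot_le)
    refine Thompson.le_pPrimeCore inferInstance ?_
    obtain ⟨n, hn⟩ := IsPGroup.iff_card.mp (Thompson.isPGroup_pCore (p := (q : ℕ)) (G := G))
    rw [hn]
    exact Nat.Coprime.pow_left n ((Nat.coprime_primes q.2 hp.out).mpr h)

/-- If `O_{p'}(G) = 1` then the centre of the layer lies in `O_p(G)`. -/
theorem map_center_layer_le_pCore {p : ℕ} [Fact p.Prime] (hO : pPrimeCore p G = ⊥) :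
    (center (layer G)).map (layer G).subtype ≤ pCore p G := by
  rw [← fitting_eq_pCore_of_pPrimeCore_eq_bot hO]
  have : ((center (layer G)).map (layer G).subtype).Normal := inferInstance
  exact Fitting.le_fitting this (Fitting.isNilpotent_map _ inferInstance)

end FiniteGroup

end Cfsg.Agent.Components
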