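import Cfsg.Prelude.Def_Local

/-!
# Quasisimple groups, components and the layer

Everything in this file holds for arbitrary (possibly infinite) groups.
-/

set_option autoImplicit false
set_option linter.style.haveILetI false

namespace Cfsg.Agent.Components

open Subgroup
open scoped commutatorElement

section Commutators

variable {G : Type*} [Group G]

/-- If `L` is perfect and `⁅⁅N, L⁆, L⁆ = 1` then `⁅L, N⁆ = 1`. -/
theorem commutator_eq_bot_of_perfect {L N : Subgroup G} (hL : ⁅L, L⁆ = L)
    (h : ⁅⁅N, L⁆, L⁆ = ⊥) : ⁅L, N⁆ = ⊥ := by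
  have h' : ⁅⁅L, N⁆, L⁆ = ⊥ := by rwa [commutator_comm L N]
  have := commutator_commutator_eq_bot_of_rotate (H₁ := L) (H₂ := L) (H₃ := N) h' h
  rwa [hL] at this

theorem map_conj_eq_iff_mem_normalizer {L : Subgroup G} {g : G} :
    L.map (MulAut.conj g).toMonoidHom = L ↔ g ∈ Subgroup.normalizer (L : Set G) := by
  rw [mem_normalizer_iff]
  constructor
  · intro h x
    constructor
    · intro hx
      rw [← h]
      exact ⟨x, hx, rfl⟩
    · intro hx
      rw [← h] at hx
      obtain ⟨y, hy, he⟩ := hx
      obtain rfl : y = x := (MulAut.conj g).injective he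
      exact hy
  · intro h
    ext x
    constructor
    · rintro ⟨y, hy, rfl⟩
      exact (h y).mp hy
    · intro hx
      refine ⟨g⁻¹ * x * g, (h _).mpr ?_, ?_⟩ <;> simp [mul_assoc, hx]

end Commutators

section Quasisimple

variable {X : Type*} [Group X]

theorem isPerfect_of_isQuasisimple (hX : IsQuasisimple X) : Group.IsPerfect X := hX.1

theorem nontrivial_of_isQuasisimple (hX : IsQuasisimple X) : Nontrivial X := by
  have := hX.2
  obtain ⟨a, b, hab⟩ := exists_pair_ne (X ⧸ center X)
  obtain ⟨x, rfl⟩ := QuotientGroup.mk'_surjective _ a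
  obtain ⟨y, rfl⟩ := QuotientGroup.mk'_surjective _ b
  exact ⟨x, y, fun h => hab (by rw [h])⟩

theorem center_ne_top_of_isQuasisimple (hX : IsQuasisimple X) : center X ≠ ⊤ := by
  intro h
  have := hX.2
  have := (QuotientGroup.subsingleton_iff).mpr h
  exact not_subsingleton (X ⧸ center X) this

theorem not_isSolvable_of_isQuasisimple (hX : IsQuasisimple X) : ¬ Group.IsSolvable X := by
  have := nontrivial_of_isQuasisimple hX
  have := hX.1
  exact Group.IsPerfect.not_isSolvable X

theorem not_isMulCommutative_of_isQuasisimple (hX : IsQuasisimple X) : ¬ IsMulCommutative X := by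
  have := nontrivial_of_isQuasisimple hX
  have := hX.1
  exact Group.IsPerfect.not_isMulCommutative X

/-- A supplement of the centre in a perfect group is everything. -/
theorem eq_top_of_sup_center_eq_top [hX : Group.IsPerfect X] {H : Subgroup X}
    (h : H ⊔ center X = ⊤) : H = ⊤ := by
  rw [eq_top_iff, ← hX.commutator_eq_top, _root_.commutator_def, commutator_le]
  intro a _ b _
  have ha : a ∈ H ⊔ center X := h.ge (mem_top a)
  have hb : b ∈ H ⊔ center X := h.ge (mem_top b)
  obtain ⟨y, hy, z, hz, rfl⟩ := mem_sup_of_normal_right.mp ha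
  obtain ⟨y', hy', z', hz', rfl⟩ := mem_sup_of_normal_right.mp hb
  have e : ⁅y * z, y' * z'⁆ = ⁅y, y'⁆ := by
    have c1 : ∀ t, t * z = z * t := mem_center_iff.mp hz
    have c2 : ∀ t, t * z' = z' * t := mem_center_iff.mp hz'
    simp only [commutatorElement_def]
    calc y * z * (y' * z') * (y * z)⁻¹ * (y' * z')⁻¹
        = y * (z * y') * (z' * z⁻¹) * (y⁻¹ * z'⁻¹) * y'⁻¹ := by group
      _ = y * (y' * z) * (z⁻¹ * z') * (z'⁻¹ * y⁻¹) * y'⁻¹ := by
          rw [c1 y', c2 z⁻¹]
          congr 2
          exact ((Commute.inv_right (c2 y⁻¹ : Commute y⁻¹ z'))).eq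
      _ = y * y' * y⁻¹ * y'⁻¹ := by group
  rw [e]
  exact H.mul_mem (H.mul_mem (H.mul_mem hy hy') (H.inv_mem hy)) (H.inv_mem hy')

/-- A normal subgroup of a quasisimple group is everything or central. -/
theorem normal_eq_top_or_le_center (hX : IsQuasisimple X) (N : Subgroup X) [N.Normal] :
    N = ⊤ ∨ N ≤ center X := by
  have := hX.1
  have := hX.2
  have hn : (N.map (QuotientGroup.mk' (center X))).Normal :=
    Subgroup.Normal.map inferInstance _ (QuotientGroup.mk'_surjective _)
  rcases hn.eq_bot_or_eq_top with h | h
  · right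
    rwa [Subgroup.map_eq_bot_iff, QuotientGroup.ker_mk'] at h
  · left
    refine eq_top_of_sup_center_eq_top ?_
    have := congrArg (Subgroup.comap (QuotientGroup.mk' (center X))) h
    rwa [comap_map_eq, QuotientGroup.ker_mk', comap_top] at this

/-- A subnormal subgroup of a quasisimple group is everything or central. -/
theorem isSubnormal_eq_top_or_le_center (hX : IsQuasisimple X) {H : Subgroup X}
    (hH : H.IsSubnormal) : H = ⊤ ∨ H ≤ center X := by
  rcases eq_or_ne H ⊤ with h | h
  · exact Or.inl h
  · obtain ⟨K, hK, hle, hlt⟩ := hH.exists_normal_and_le_and_lt_top_of_ne h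
    haveI := hK
    exact Or.inr (hle.trans ((normal_eq_top_or_le_center hX K).resolve_left hlt.ne))

/-- A nontrivial perfect group in which every proper normal subgroup is central is quasisimple. -/
theorem isQuasisimple_of_forall_normal [Nontrivial X] [Group.IsPerfect X]
    (h : ∀ N : Subgroup X, N.Normal → N = ⊤ ∨ N ≤ center X) : IsQuasisimple X := by
  refine ⟨inferInstance, ?_⟩
  have hne : center X ≠ ⊤ := fun hc =>
    Group.IsPerfect.not_isMulCommutative X ⟨⟨fun a b => (mem_center_iff.mp (hc ▸ mem_top b) a)⟩⟩
  have : Nontrivial (X ⧸ center X) := by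
    rw [← not_subsingleton_iff_nontrivial, QuotientGroup.subsingleton_iff]
    exact hne
  refine ⟨fun N hN => ?_⟩
  rcases h (N.comap (QuotientGroup.mk' (center X))) inferInstance with h1 | h1
  · right
    rw [← map_comap_eq_self_of_surjective (QuotientGroup.mk'_surjective (center X)) N, h1,
      map_top_of_surjective _ (QuotientGroup.mk'_surjective _)]
  · left
    rw [← map_comap_eq_self_of_surjective (QuotientGroup.mk'_surjective (center X)) N,
      Subgroup.map_eq_bot_iff, QuotientGroup.ker_mk']
    exact h1

/-- A nontrivial image of a quasisimple group is quasisimple. -/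
theorem isQuasisimple_of_surjective {Y : Type*} [Group Y] [Nontrivial Y] (hX : IsQuasisimple X)
    (f : X →* Y) (hf : Function.Surjective f) : IsQuasisimple Y := by
  have := hX.1
  have : Group.IsPerfect Y := Group.IsPerfect.ofSurjective hf
  refine isQuasisimple_of_forall_normal fun N hN => ?_
  rcases normal_eq_top_or_le_center hX (N.comap f) with h | h
  · left
    rw [← map_comap_eq_self_of_surjective hf N, h, map_top_of_surjective _ hf]
  · right
    intro y hy
    obtain ⟨x, rfl⟩ := hf y
    rw [mem_center_iff]
    intro z
    obtain ⟨w, rfl⟩ := hf z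
    rw [← map_mul, ← map_mul, mem_center_iff.mp (h hy) w]

theorem isQuasisimple_of_mulEquiv {Y : Type*} [Group Y] (e : X ≃* Y) (hX : IsQuasisimple X) :
    IsQuasisimple Y := by
  have := nontrivial_of_isQuasisimple hX
  have : Nontrivial Y := e.symm.toEquiv.nontrivial
  exact isQuasisimple_of_surjective hX e.toMonoidHom e.surjective

theorem isQuasisimple_congr {Y : Type*} [Group Y] (e : X ≃* Y) :
    IsQuasisimple X ↔ IsQuasisimple Y :=
  ⟨isQuasisimple_of_mulEquiv e, isQuasisimple_of_mulEquiv e.symm⟩

theorem isPerfect_of_isSimpleGroup [IsSimpleGroup X] (h : ¬ IsMulCommutative X) :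
    Group.IsPerfect X := by
  rw [Group.isPerfect_def]
  rcases (inferInstance : (commutator X).Normal).eq_bot_or_eq_top with h1 | h1
  · exact absurd ((commutator_eq_bot_iff (G := X)).mp h1) h
  · exact h1

/-- A non-abelian simple group is quasisimple. -/
theorem isQuasisimple_of_isSimpleGroup [IsSimpleGroup X] (h : ¬ IsMulCommutative X) :
    IsQuasisimple X := by
  have := isPerfect_of_isSimpleGroup h
  exact isQuasisimple_of_forall_normal fun N hN =>
    hN.eq_bot_or_eq_top.symm.imp id fun (h : N = ⊥) => h.le.trans bot_le

/-- If `X / Z(X)` is non-abelian simple then `X = X' Z(X)`. -/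
theorem commutator_sup_center_eq_top (hs : IsSimpleGroup (X ⧸ center X))
    (hna : ¬ IsMulCommutative (X ⧸ center X)) : commutator X ⊔ center X = ⊤ := by
  have h := (isPerfect_of_isSimpleGroup hna).commutator_eq_top
  have hsurj := QuotientGroup.mk'_surjective (center X)
  have hm : (commutator X).map (QuotientGroup.mk' (center X)) = ⊤ := by
    rw [_root_.commutator_def, map_commutator, map_top_of_surjective _ hsurj,
      ← _root_.commutator_def, h]
  have := congrArg (Subgroup.comap (QuotientGroup.mk' (center X))) hm
  rwa [comap_map_eq, QuotientGroup.ker_mk', comap_top] at this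

theorem commutator_mul_center {a b z z' : X} (hz : z ∈ center X) (hz' : z' ∈ center X) :
    ⁅a * z, b * z'⁆ = ⁅a, b⁆ := by
  have c1 : ∀ t, t * z = z * t := mem_center_iff.mp hz
  have c2 : ∀ t, t * z' = z' * t := mem_center_iff.mp hz'
  simp only [commutatorElement_def]
  calc a * z * (b * z') * (a * z)⁻¹ * (b * z')⁻¹
      = a * (z * b) * (z' * z⁻¹) * (a⁻¹ * z'⁻¹) * b⁻¹ := by group
    _ = a * (b * z) * (z⁻¹ * z') * (z'⁻¹ * a⁻¹) * b⁻¹ := by
        rw [c1 b, c2 z⁻¹]
        congr 2
        exact ((Commute.inv_right (c2 a⁻¹ : Commute a⁻¹ z'))).eq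
    _ = a * b * a⁻¹ * b⁻¹ := by group

/-- If `X / Z(X)` is non-abelian simple then `X'` is quasisimple. -/
theorem isQuasisimple_commutator (hs : IsSimpleGroup (X ⧸ center X))
    (hna : ¬ IsMulCommutative (X ⧸ center X)) : IsQuasisimple ↥(commutator X) := by
  have hsup := commutator_sup_center_eq_top hs hna
  have hgen : ∀ N : Subgroup X, N ⊔ center X = ⊤ → commutator X ≤ ⁅N, N⁆ := by
    intro N hN
    rw [_root_.commutator_def, commutator_le]
    intro a _ b _
    obtain ⟨y, hy, z, hz, rfl⟩ := mem_sup_of_normal_right.mp (hN.ge (mem_top a))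
    obtain ⟨y', hy', z', hz', rfl⟩ := mem_sup_of_normal_right.mp (hN.ge (mem_top b))
    rw [commutator_mul_center hz hz']
    exact commutator_mem_commutator hy hy'
  have hperf : Group.IsPerfect ↥(commutator X) :=
    Subgroup.isPerfect_iff.mpr (le_antisymm (commutator_le.mpr fun _ ha _ hb =>
      mul_mem (mul_mem (mul_mem ha hb) (inv_mem ha)) (inv_mem hb)) (hgen _ hsup))
  have : Nontrivial ↥(commutator X) := by
    rw [Subgroup.nontrivial_iff_ne_bot]
    intro h
    rw [h, bot_sup_eq] at hsup
    exact not_subsingleton (X ⧸ center X) (QuotientGroup.subsingleton_iff.mpr hsup)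
  refine isQuasisimple_of_forall_normal fun N hN => ?_
  set M := N.map (commutator X).subtype with hMdef
  have hM : M.Normal := by
    rw [← normalizer_eq_top_iff, eq_top_iff, ← hsup, sup_le_iff]
    refine ⟨?_, Subgroup.center_le_normalizer _⟩
    have := le_normalizer_map (H := N) (commutator X).subtype
    rwa [normalizer_eq_top_iff.mpr hN, ← MonoidHom.range_eq_map, range_subtype] at this
  rcases (hM.map (QuotientGroup.mk' (center X))
      (QuotientGroup.mk'_surjective _)).eq_bot_or_eq_top with h | h
  · right
    rw [Subgroup.map_eq_bot_iff, QuotientGroup.ker_mk'] at h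
    intro n hn
    rw [mem_center_iff]
    intro g
    exact Subtype.ext (mem_center_iff.mp (h ⟨n, hn, rfl⟩) g)
  · left
    have h' := congrArg (Subgroup.comap (QuotientGroup.mk' (center X))) h
    rw [comap_map_eq, QuotientGroup.ker_mk', comap_top] at h'
    have hle : commutator X ≤ M := (hgen M h').trans (commutator_le.mpr fun _ ha _ hb =>
      mul_mem (mul_mem (mul_mem ha hb) (inv_mem ha)) (inv_mem hb))
    rw [eq_top_iff]
    rintro x -
    obtain ⟨y, hy, he⟩ := hle x.2
    exact Subtype.ext he ▸ hy

end Quasisimple

section Component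

variable {G : Type*} [Group G]

theorem isComponent_iff {L : Subgroup G} : IsComponent L ↔ L.IsSubnormal ∧ IsQuasisimple L :=
  Iff.rfl

/-- A component is perfect, as a commutator equation in `G`. -/
theorem component_commutator_eq_self {L : Subgroup G} (hL : IsComponent L) : ⁅L, L⁆ = L :=
  Subgroup.isPerfect_iff.mp hL.2.1

theorem component_ne_bot {L : Subgroup G} (hL : IsComponent L) : L ≠ ⊥ :=
  (Subgroup.nontrivial_iff_ne_bot L).mp (nontrivial_of_isQuasisimple hL.2)

theorem component_not_isSolvable {L : Subgroup G} (hL : IsComponent L) : ¬ Group.IsSolvable L :=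
  not_isSolvable_of_isQuasisimple hL.2

theorem component_not_le_isSolvable {L H : Subgroup G} (hL : IsComponent L)
    (hH : Group.IsSolvable H) : ¬ L ≤ H := fun h => component_not_isSolvable hL <|
  Group.isSolvable_of_isSolvable_injective (Subgroup.inclusion_injective h)

/-- Components of a subnormal subgroup are exactly the components of `G` inside it. -/
theorem isComponent_map_subtype_iff {H : Subgroup G} (hH : H.IsSubnormal) (K : Subgroup H) :
    IsComponent K ↔ IsComponent (K.map H.subtype) := by
  have e : K ≃* K.map H.subtype := K.equivMapOfInjective _ H.subtype_injective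
  constructor
  · exact fun h => ⟨h.1.trans' hH, isQuasisimple_of_mulEquiv e h.2⟩
  · intro h
    refine ⟨?_, isQuasisimple_of_mulEquiv e.symm h.2⟩
    have := h.1.subgroupOf (K := H)
    rwa [Subgroup.subgroupOf, comap_map_eq_self_of_injective H.subtype_injective] at this

/-- A component is a component of every subgroup containing it. -/
theorem component_subgroupOf {L H : Subgroup G} (hL : IsComponent L) (hLH : L ≤ H) :
    IsComponent (L.subgroupOf H) :=
  ⟨hL.1.subgroupOf, isQuasisimple_of_mulEquiv (Subgroup.subgroupOfEquivOfLe hLH).symm hL.2⟩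

theorem component_map_equiv {G' : Type*} [Group G'] (f : G ≃* G') {L : Subgroup G}
    (hL : IsComponent L) : IsComponent (L.map f.toMonoidHom) :=
  ⟨hL.1.map f.surjective,
    isQuasisimple_of_mulEquiv (L.equivMapOfInjective _ f.injective) hL.2⟩

theorem component_map_conj (g : G) {L : Subgroup G} (hL : IsComponent L) :
    IsComponent (L.map (MulAut.conj g).toMonoidHom) :=
  component_map_equiv (MulAut.conj g) hL

/-- A component lies in, or centralizes, every normal subgroup. -/
theorem component_le_or_commutator_eq_bot_of_normal {L : Subgroup G} (hL : IsComponent L)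
    (N : Subgroup G) [hN : N.Normal] : L ≤ N ∨ ⁅L, N⁆ = ⊥ := by
  obtain ⟨n, f, hmono, hnorm, h0, hn⟩ := Subgroup.IsSubnormal.exists_chain hL.1
  suffices ∀ i, ∀ M : Subgroup G, M ≤ f i → f i ≤ Subgroup.normalizer (M : Set G) →
      L ≤ M ∨ ⁅L, M⁆ = ⊥ by
    refine this n N (hn ▸ le_top) ?_
    rw [normalizer_eq_top_iff.mpr hN]
    exact le_top
  intro i
  induction i with
  | zero =>
    rw [h0]
    intro M hM hnM
    have hMn : (M.subgroupOf L).Normal := (normal_subgroupOf_iff_le_normalizer hM).mpr hnM
    rcases normal_eq_top_or_le_center hL.2 (M.subgroupOf L) with h | h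
    · exact Or.inl (subgroupOf_eq_top.mp h)
    · right
      rw [commutator_eq_bot_iff_le_centralizer]
      intro l hl
      rw [mem_centralizer_iff]
      intro m hm
      exact (congrArg Subtype.val
        (mem_center_iff.mp (h (show (⟨m, hM hm⟩ : L) ∈ M.subgroupOf L from hm)) ⟨l, hl⟩)).symm
  | succ i ih =>
    intro M hM hnM
    have hLi : L ≤ f i := h0 ▸ hmono (Nat.zero_le i)
    have hii : f i ≤ f (i + 1) := hmono (Nat.le_succ i)
    have hfn : f (i + 1) ≤ Subgroup.normalizer (f i : Set G) :=
      (normal_subgroupOf_iff_le_normalizer hii).mp (hnorm i)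
    have hnMi : f i ≤ Subgroup.normalizer ((M ⊓ f i : Subgroup G) : Set G) := by
      intro x hx
      rw [mem_normalizer_iff]
      intro y
      simp only [mem_inf]
      rw [← mem_normalizer_iff.mp (hnM (hii hx)) y, mul_mem_cancel_right (inv_mem hx),
        mul_mem_cancel_left hx]
    rcases ih (M ⊓ f i) inf_le_right hnMi with h | h
    · exact Or.inl (h.trans inf_le_left)
    · refine Or.inr (commutator_eq_bot_of_perfect (component_commutator_eq_self hL) ?_)
      rw [eq_bot_iff, ← h, commutator_comm L]
      refine commutator_mono ?_ le_rfl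
      rw [commutator_le]
      intro m hm l hl
      refine ⟨?_, ?_⟩
      · have h1 : l * m⁻¹ * l⁻¹ ∈ M :=
          (mem_normalizer_iff.mp (hnM (hii (hLi hl))) m⁻¹).mp (inv_mem hm)
        simpa [commutatorElement_def, mul_assoc] using mul_mem hm h1
      · have h1 : m * l * m⁻¹ ∈ f i :=
          (mem_normalizer_iff.mp (hfn (hM hm)) l).mp (hLi hl)
        simpa [commutatorElement_def, mul_assoc] using mul_mem h1 (inv_mem (hLi hl))

/-- A component lies in, or centralizes, every subgroup it normalizes. -/
theorem component_le_or_commutator_eq_bot_of_le_normalizer {L H : Subgroup G}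
    (hL : IsComponent L) (hinv : L ≤ Subgroup.normalizer (H : Set G)) : L ≤ H ∨ ⁅L, H⁆ = ⊥ := by
  have hn : (H.subgroupOf (L ⊔ H)).Normal :=
    (normal_subgroupOf_iff_le_normalizer le_sup_right).mpr (sup_le hinv le_normalizer)
  have hLc := component_subgroupOf hL (le_sup_left : L ≤ L ⊔ H)
  rcases component_le_or_commutator_eq_bot_of_normal hLc (H.subgroupOf (L ⊔ H)) with h | h
  · left
    have := Subgroup.map_mono (f := (L ⊔ H).subtype) h
    rwa [map_subgroupOf_eq_of_le le_sup_left, map_subgroupOf_eq_of_le le_sup_right] at this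
  · right
    have := congrArg (Subgroup.map (L ⊔ H).subtype) h
    rwa [map_commutator, map_subgroupOf_eq_of_le le_sup_left,
      map_subgroupOf_eq_of_le le_sup_right, Subgroup.map_bot] at this

/-- A component lies in, or centralizes, every subnormal subgroup. -/
theorem component_le_or_commutator_eq_bot {L H : Subgroup G} (hL : IsComponent L)
    (hH : H.IsSubnormal) : L ≤ H ∨ ⁅L, H⁆ = ⊥ := by
  induction hH with
  | top => exact Or.inl le_top
  | step H K h_le _ hN ih =>
    rcases ih with h | h
    · exact component_le_or_commutator_eq_bot_of_le_normalizer hL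
        (h.trans ((normal_subgroupOf_iff_le_normalizer h_le).mp hN))
    · exact Or.inr (le_bot_iff.mp ((commutator_mono le_rfl h_le).trans h.le))

/-- A component centralizes every solvable subgroup it normalizes. -/
theorem component_commutator_solvable {L H : Subgroup G} (hL : IsComponent L)
    (hsolv : Group.IsSolvable H) (hinv : L ≤ Subgroup.normalizer (H : Set G)) : ⁅L, H⁆ = ⊥ :=
  (component_le_or_commutator_eq_bot_of_le_normalizer hL hinv).resolve_left
    (component_not_le_isSolvable hL hsolv)

/-- A component contains no other component. -/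
theorem component_eq_of_le {L M : Subgroup G} (hL : IsComponent L) (hM : IsComponent M)
    (h : L ≤ M) : L = M := by
  rcases isSubnormal_eq_top_or_le_center hM.2 (hL.1.subgroupOf (K := M)) with h1 | h1
  · exact le_antisymm h (subgroupOf_eq_top.mp h1)
  · refine absurd ?_ (component_ne_bot hL)
    rw [← component_commutator_eq_self hL, commutator_eq_bot_iff_le_centralizer]
    intro x hx
    rw [mem_centralizer_iff]
    intro y hy
    exact congrArg Subtype.val
      (mem_center_iff.mp (h1 (show (⟨x, h hx⟩ : M) ∈ L.subgroupOf M from hx)) ⟨y, h hy⟩)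

/-- Distinct components commute. -/
theorem component_eq_or_commutator_eq_bot {L M : Subgroup G} (hL : IsComponent L)
    (hM : IsComponent M) : L = M ∨ ⁅L, M⁆ = ⊥ :=
  (component_le_or_commutator_eq_bot hL hM.1).imp (component_eq_of_le hL hM) id

theorem component_le_centralizer {L M : Subgroup G} (hL : IsComponent L)
    (hM : IsComponent M) (hne : L ≠ M) : L ≤ Subgroup.centralizer (M : Set G) :=
  (commutator_eq_bot_iff_le_centralizer).mp
    ((component_eq_or_commutator_eq_bot hL hM).resolve_left hne)

/-- The meet of two distinct components centralizes both of them. -/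
theorem component_inf_le_centralizer {L M : Subgroup G} (hL : IsComponent L)
    (hM : IsComponent M) (hne : L ≠ M) : L ⊓ M ≤ Subgroup.centralizer (L : Set G) :=
  inf_le_right.trans (component_le_centralizer hM hL hne.symm)

end Component

section Layer

variable {G : Type*} [Group G]

theorem component_le_layer {L : Subgroup G} (hL : IsComponent L) : L ≤ layer G := le_sSup hL

theorem layer_le_iff {K : Subgroup G} : layer G ≤ K ↔ ∀ L, IsComponent L → L ≤ K := sSup_le_iff

theorem map_layer_equiv {G' : Type*} [Group G'] (f : G ≃* G') :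
    (layer G).map f.toMonoidHom = layer G' := by
  apply le_antisymm
  · rw [map_le_iff_le_comap, layer_le_iff]
    intro L hL
    rw [← map_le_iff_le_comap]
    exact component_le_layer (component_map_equiv f hL)
  · rw [layer_le_iff]
    intro L hL y hy
    exact ⟨f.symm y, component_le_layer (component_map_equiv f.symm hL) ⟨y, hy, rfl⟩,
      f.apply_symm_apply y⟩

instance layer_characteristic : (layer G).Characteristic :=
  characteristic_iff_map_eq.mpr fun φ => map_layer_equiv φ

/-- Every component is normalized by the layer. -/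
theorem layer_le_normalizer {L : Subgroup G} (hL : IsComponent L) :
    layer G ≤ Subgroup.normalizer (L : Set G) := by
  rw [layer_le_iff]
  intro M hM
  rcases component_eq_or_commutator_eq_bot hM hL with rfl | h
  · exact le_normalizer
  · exact (commutator_eq_bot_iff_le_centralizer.mp h).trans
      (Subgroup.centralizer_le_normalizer _)

theorem component_subgroupOf_layer_normal {L : Subgroup G} (hL : IsComponent L) :
    (L.subgroupOf (layer G)).Normal :=
  (normal_subgroupOf_iff_le_normalizer (component_le_layer hL)).mpr (layer_le_normalizer hL)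

theorem layer_commutator_eq_self : ⁅layer G, layer G⁆ = layer G := by
  refine le_antisymm (commutator_le.mpr fun _ ha _ hb =>
    mul_mem (mul_mem (mul_mem ha hb) (inv_mem ha)) (inv_mem hb)) (layer_le_iff.mpr fun L hL => ?_)
  calc L = ⁅L, L⁆ := (component_commutator_eq_self hL).symm
    _ ≤ _ := commutator_mono (component_le_layer hL) (component_le_layer hL)

theorem layer_isPerfect : Group.IsPerfect ↥(layer G) :=
  Subgroup.isPerfect_iff.mpr layer_commutator_eq_self

/-- The layer centralizes every solvable normal subgroup. -/
theorem layer_le_centralizer_of_isSolvable (N : Subgroup G) [N.Normal] (hN : Group.IsSolvable N) :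
    layer G ≤ Subgroup.centralizer (N : Set G) :=
  layer_le_iff.mpr fun L hL => commutator_eq_bot_iff_le_centralizer.mp
    (component_commutator_solvable hL hN (normalizer_eq_top_iff.mpr ‹N.Normal› ▸ le_top))

/-- The layer centralizes the Fitting subgroup. -/
theorem layer_le_centralizer_fitting :
    layer G ≤ Subgroup.centralizer (fittingSubgroup G : Set G) := by
  rw [Subgroup.le_centralizer_iff]
  refine sSup_le fun N hN => ?_
  haveI := hN.1
  haveI := hN.2
  exact Subgroup.le_centralizer_iff.mp (layer_le_centralizer_of_isSolvable N inferInstance)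

theorem fitting_le_centralizer_layer :
    fittingSubgroup G ≤ Subgroup.centralizer (layer G : Set G) :=
  Subgroup.le_centralizer_iff.mp layer_le_centralizer_fitting

/-- A component inside the join of a set of components is one of them. -/
theorem component_mem_of_le_sSup {L : Subgroup G} (hL : IsComponent L) {T : Set (Subgroup G)}
    (hT : ∀ M ∈ T, IsComponent M) (h : L ≤ sSup T) : L ∈ T := by
  by_contra hmem
  have h1 : sSup T ≤ Subgroup.centralizer (L : Set G) :=
    sSup_le fun M hM => component_le_centralizer (hT M hM) hL fun e => hmem (e ▸ hM)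
  exact component_ne_bot hL (by
    rw [← component_commutator_eq_self hL, commutator_eq_bot_iff_le_centralizer]
    exact h.trans h1)

/-- The layer of a subnormal subgroup lies in the layer of the group. -/
theorem map_layer_isSubnormal_le {H : Subgroup G} (hH : H.IsSubnormal) :
    (layer H).map H.subtype ≤ layer G := by
  rw [map_le_iff_le_comap, layer_le_iff]
  intro L hL
  rw [← map_le_iff_le_comap]
  exact component_le_layer ((isComponent_map_subtype_iff hH L).mp hL)

theorem layer_eq_bot_iff : layer G = ⊥ ↔ ∀ L : Subgroup G, ¬ IsComponent L :=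
  ⟨fun h _ hL => component_ne_bot hL (le_bot_iff.mp (h ▸ component_le_layer hL)),
    fun h => le_bot_iff.mp (layer_le_iff.mpr fun L hL => absurd hL (h L))⟩

theorem layer_eq_bot_of_isSolvable (h : Group.IsSolvable G) : layer G = ⊥ :=
  layer_eq_bot_iff.mpr fun L hL => component_not_isSolvable hL
    (Group.isSolvable_of_isSolvable_injective L.subtype_injective)

end Layer

end Cfsg.Agent.Components
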