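import Cfsg.Agent.Lib.Components.CentralizerCore

/-!
# The preimage of `E(N / O_{p'}(N))`, `N` a `p`-local subgroup, normalizes every component

If `O_{p'}(G) = 1`, `P` is a `p`-subgroup and `N = N_G(P)`, then the preimage in `N` of
`E(N/O_{p'}(N))` normalizes every component of `G`.
-/

set_option autoImplicit false
set_option linter.style.haveILetI false

namespace Cfsg.Agent.Components

open Subgroup
open scoped commutatorElement

theorem commutatorElement_mul_mul_eq {Q : Type*} [Group Q] {m₁ m₂ k₁ k₂ : Q}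
    (h11 : Commute m₁ k₁) (h12 : Commute m₁ k₂) (h21 : Commute m₂ k₁) (h22 : Commute m₂ k₂)
    (hmm : Commute m₁ m₂) : ⁅m₁ * k₁, m₂ * k₂⁆ = ⁅k₁, k₂⁆ := by
  simp only [commutatorElement_def]
  have c1 : Commute m₁ (k₁ * (m₂ * k₂) * k₁⁻¹) :=
    (h11.mul_right (hmm.mul_right h12)).mul_right h11.inv_right
  calc m₁ * k₁ * (m₂ * k₂) * (m₁ * k₁)⁻¹ * (m₂ * k₂)⁻¹
      = m₁ * (k₁ * (m₂ * k₂) * k₁⁻¹) * m₁⁻¹ * (m₂ * k₂)⁻¹ := by group
    _ = k₁ * (m₂ * k₂) * k₁⁻¹ * (m₂ * k₂)⁻¹ := by rw [c1.eq]; group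
    _ = (k₁ * m₂) * k₂ * k₁⁻¹ * (k₂⁻¹ * m₂⁻¹) := by group
    _ = m₂ * (k₁ * k₂ * k₁⁻¹ * k₂⁻¹) * m₂⁻¹ := by rw [← h21.eq]; group
    _ = k₁ * k₂ * k₁⁻¹ * k₂⁻¹ := by
        rw [(((h21.mul_right h22).mul_right h21.inv_right).mul_right h22.inv_right).eq]
        group

/-- Lifts fixed by an endomorphism: if `α` acts on `C` trivially modulo `M̄`, and the perfect
subgroup `K̄` of `q(C)` centralizes `M̄`, then every element of `K̄` has a lift fixed modulo
`ker q`. -/
theorem exists_lift_fixed {H Q : Type*} [Group H] [Group Q] (q : H →* Q) (C : Subgroup H)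
    {K Mq : Subgroup Q} (hK : ⁅K, K⁆ = K) (hKC : K ≤ C.map q)
    (hKM : K ≤ Subgroup.centralizer (Mq : Set Q)) (α : C →* C)
    (hker : ∀ c : C, q c = 1 → q (α c) = 1)
    (hM : ∀ c : C, q (α c) * (q c)⁻¹ ∈ Mq)
    (hMinv : ∀ m ∈ Mq, ∃ c : C, q (α c) = m ∧ q c ∈ Mq) :
    ∀ k ∈ K, ∃ c : C, q c = k ∧ q (α c) = q c := by
  let g : C →* Q := q.comp C.subtype
  have key : K ≤ (MonoidHom.eqLocus (g.comp α) g).map g := by
    rw [← hK, commutator_le]
    intro k₁ hk₁ k₂ hk₂
    obtain ⟨c₁, hc₁, e₁⟩ := hKC hk₁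
    obtain ⟨c₂, hc₂, e₂⟩ := hKC hk₂
    refine ⟨⁅(⟨c₁, hc₁⟩ : C), ⟨c₂, hc₂⟩⁆, ?_, ?_⟩
    · show g (α _) = g _
      rw [map_commutatorElement, map_commutatorElement, map_commutatorElement]
      obtain ⟨m₁, hm₁, h₁⟩ : ∃ m ∈ Mq, g (α ⟨c₁, hc₁⟩) = m * k₁ :=
        ⟨_, hM ⟨c₁, hc₁⟩, by simp [g, e₁]⟩
      obtain ⟨m₂, hm₂, h₂⟩ : ∃ m ∈ Mq, g (α ⟨c₂, hc₂⟩) = m * k₂ :=
        ⟨_, hM ⟨c₂, hc₂⟩, by simp [g, e₂]⟩
      have hkm : ∀ k ∈ K, ∀ m ∈ Mq, Commute m k := fun k hk m hm =>
        mem_centralizer_iff.mp (hKM hk) m hm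
      have hmm : Commute m₁ m₂ := by
        obtain ⟨c', hc', hc'M⟩ := hMinv m₂ hm₂
        have h0 : g ⁅(⟨c₁, hc₁⟩ : C), c'⁆ = 1 := by
          rw [map_commutatorElement, commutatorElement_eq_one_iff_commute]
          show Commute (q c₁) (q c')
          rw [e₁]
          exact (hkm k₁ hk₁ _ hc'M).symm
        have h0' : g (α ⁅(⟨c₁, hc₁⟩ : C), c'⁆) = 1 := hker _ h0
        rw [map_commutatorElement, map_commutatorElement,
          commutatorElement_eq_one_iff_commute] at h0'
        have : Commute (m₁ * k₁) m₂ := by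
          rw [← h₁, ← hc']
          exact h0'
        simpa using this.mul_left ((hkm k₁ hk₁ _ hm₂).symm.inv_left)
      rw [h₁, h₂, show g ⟨c₁, hc₁⟩ = k₁ from e₁, show g ⟨c₂, hc₂⟩ = k₂ from e₂]
      exact commutatorElement_mul_mul_eq (hkm _ hk₁ _ hm₁) (hkm _ hk₂ _ hm₁) (hkm _ hk₁ _ hm₂)
        (hkm _ hk₂ _ hm₂) hmm
    · rw [map_commutatorElement]
      simp [g, e₁, e₂]
  intro k hk
  obtain ⟨c, hc, e⟩ := key hk
  exact ⟨c, e, hc⟩

section Orbit

variable {G : Type*} [Group G]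

/-- The set of `P`-conjugates of `L`. -/
def orbitSet (P L : Subgroup G) : Set (Subgroup G) :=
  {M | ∃ y ∈ P, M = L.map (MulAut.conj y).toMonoidHom}

theorem map_conj_map_conj (L : Subgroup G) (a b : G) :
    (L.map (MulAut.conj b).toMonoidHom).map (MulAut.conj a).toMonoidHom =
      L.map (MulAut.conj (a * b)).toMonoidHom := by
  rw [Subgroup.map_map]
  congr 1
  ext g
  simp [mul_assoc]

theorem map_conj_one (L : Subgroup G) : L.map (MulAut.conj (1 : G)).toMonoidHom = L :=
  map_conj_eq_iff_mem_normalizer.mpr (one_mem _)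

theorem self_mem_orbitSet (P L : Subgroup G) : L ∈ orbitSet P L :=
  ⟨1, one_mem P, (map_conj_one L).symm⟩

theorem orbitSet_eq_of_mem {P L M : Subgroup G} (h : M ∈ orbitSet P L) :
    orbitSet P M = orbitSet P L := by
  obtain ⟨y, hy, rfl⟩ := h
  ext K
  constructor
  · rintro ⟨z, hz, rfl⟩
    exact ⟨z * y, mul_mem hz hy, map_conj_map_conj L z y⟩
  · rintro ⟨z, hz, rfl⟩
    exact ⟨z * y⁻¹, mul_mem hz (inv_mem hy), by rw [map_conj_map_conj]; simp⟩

theorem isComponent_of_mem_orbitSet {P L M : Subgroup G} (hL : IsComponent L)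
    (h : M ∈ orbitSet P L) : IsComponent M := by
  obtain ⟨y, _, rfl⟩ := h
  exact component_map_conj y hL

/-- The subgroup generated by the `P`-conjugates of `L`. -/
def orbitJoin (P L : Subgroup G) : Subgroup G := sSup (orbitSet P L)

theorem le_orbitJoin (P L : Subgroup G) : L ≤ orbitJoin P L := le_sSup (self_mem_orbitSet P L)

theorem orbitJoin_le_layer {P L : Subgroup G} (hL : IsComponent L) : orbitJoin P L ≤ layer G :=
  sSup_le fun _ hM => component_le_layer (isComponent_of_mem_orbitSet hL hM)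

theorem layer_le_normalizer_orbitJoin {P L : Subgroup G} (hL : IsComponent L) :
    layer G ≤ Subgroup.normalizer (orbitJoin P L : Set G) := by
  intro e he
  rw [← map_conj_eq_iff_mem_normalizer, orbitJoin]
  have hfix : ∀ M ∈ orbitSet P L, M.map (MulAut.conj e).toMonoidHom = M := fun M hM =>
    map_conj_eq_iff_mem_normalizer.mpr
      (layer_le_normalizer (isComponent_of_mem_orbitSet hL hM) he)
  apply le_antisymm
  · rw [map_le_iff_le_comap]
    refine sSup_le fun M hM => ?_
    rw [← map_le_iff_le_comap, hfix M hM]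
    exact le_sSup hM
  · refine sSup_le fun M hM => ?_
    calc M = M.map (MulAut.conj e).toMonoidHom := (hfix M hM).symm
      _ ≤ _ := Subgroup.map_mono (le_sSup hM)

theorem map_conj_orbitJoin {P L : Subgroup G} {n : G}
    (hn : n ∈ Subgroup.normalizer (P : Set G)) :
    (orbitJoin P L).map (MulAut.conj n).toMonoidHom =
      orbitJoin P (L.map (MulAut.conj n).toMonoidHom) := by
  apply le_antisymm
  · rw [orbitJoin, map_le_iff_le_comap]
    refine sSup_le ?_
    rintro M ⟨y, hy, rfl⟩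
    rw [← map_le_iff_le_comap, map_conj_map_conj]
    refine le_sSup ⟨n * y * n⁻¹, (mem_normalizer_iff.mp hn y).mp hy, ?_⟩
    rw [map_conj_map_conj]
    simp
  · refine sSup_le ?_
    rintro M ⟨y, hy, rfl⟩
    rw [map_conj_map_conj]
    have h : n⁻¹ * y * n ∈ P := by
      rw [mem_normalizer_iff.mp hn]
      simpa [mul_assoc] using hy
    calc L.map (MulAut.conj (y * n)).toMonoidHom
        = (L.map (MulAut.conj (n⁻¹ * y * n)).toMonoidHom).map (MulAut.conj n).toMonoidHom := by
          rw [map_conj_map_conj]; simp [mul_assoc]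
      _ ≤ _ := Subgroup.map_mono (le_sSup (show _ ∈ orbitSet P L from ⟨_, h, rfl⟩))

theorem orbitJoin_le_centralizer_of_notMem {P L M : Subgroup G} (hL : IsComponent L)
    (hM : IsComponent M) (h : M ∉ orbitSet P L) :
    orbitJoin P M ≤ Subgroup.centralizer (orbitJoin P L : Set G) := by
  refine sSup_le fun M' hM' => ?_
  rw [Subgroup.le_centralizer_iff]
  refine sSup_le fun L' hL' => ?_
  refine component_le_centralizer (isComponent_of_mem_orbitSet hL hL')
    (isComponent_of_mem_orbitSet hM hM') fun e => h ?_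
  rw [← orbitSet_eq_of_mem hL', e, orbitSet_eq_of_mem hM']
  exact self_mem_orbitSet P M

end Orbit

section Main

variable {G : Type*} [Group G] [Finite G] {p : ℕ} [hp : Fact p.Prime]

/-- A quasisimple group of order divisible by `p` has a non-central `p`-element. -/
theorem exists_noncentral_pElement {X : Type*} [Group X] [Finite X] (hX : IsQuasisimple X)
    (h : p ∣ Nat.card X) : ∃ a : X, a ∉ center X ∧ ∃ k, orderOf a = p ^ k := by
  obtain ⟨b, hb⟩ := exists_prime_orderOf_dvd_card' p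
    (dvd_card_quotient_center_of_isQuasisimple hX h)
  obtain ⟨x, rfl⟩ := QuotientGroup.mk'_surjective _ b
  obtain ⟨k, m, hm, hkm⟩ :=
    Nat.exists_eq_pow_mul_and_not_dvd (orderOf_pos x).ne' p hp.out.ne_one
  refine ⟨x ^ m, fun hc => ?_, k, ?_⟩
  · rw [← QuotientGroup.eq_one_iff, ← QuotientGroup.mk'_apply, map_pow] at hc
    exact hm (hb ▸ orderOf_dvd_of_pow_eq_one hc)
  · have hm0 : m ≠ 0 := by
      rintro rfl
      exact hm (dvd_zero p)
    rw [orderOf_pow_of_dvd hm0 ⟨p ^ k, by rw [hkm]; ring⟩, hkm,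
      Nat.mul_div_cancel _ (Nat.pos_of_ne_zero hm0)]

/-- The witness: a `p`-element of an orbit product, not centralizing it, commuting with `P`
modulo its centre. -/
theorem exists_orbit_witness {P L : Subgroup G} (hP : IsPGroup p P) (hL : IsComponent L)
    (hLp : p ∣ Nat.card L) :
    ∃ u ∈ orbitJoin P L, u ∉ Subgroup.centralizer (orbitJoin P L : Set G) ∧
      (∃ k, orderOf u = p ^ k) ∧
      ∀ y ∈ P, u * y * u⁻¹ * y⁻¹ ∈
        orbitJoin P L ⊓ Subgroup.centralizer (orbitJoin P L : Set G) := by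
  set E := orbitJoin P L with hE
  have hPE : P ≤ Subgroup.normalizer (E : Set G) := by
    intro y hy
    rw [← map_conj_eq_iff_mem_normalizer, hE, map_conj_orbitJoin (Subgroup.le_normalizer hy),
      orbitJoin, orbitSet_eq_of_mem (show _ ∈ orbitSet P L from ⟨y, hy, rfl⟩)]
    rfl
  set K := P ⊔ E with hK
  have hKE : K ≤ Subgroup.normalizer (E : Set G) := sup_le hPE Subgroup.le_normalizer
  obtain ⟨S, hS⟩ :=
    (hP.of_equiv (Subgroup.subgroupOfEquivOfLe (le_sup_left : P ≤ K)).symm).exists_le_sylow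
  obtain ⟨a, ha, ka, hka⟩ := exists_noncentral_pElement hL.2 hLp
  have haE : (a : G) ∈ E := le_orbitJoin P L a.2
  have hA : IsPGroup p ↥(Subgroup.zpowers (⟨a, le_sup_right (a := P) haE⟩ : K)) := by
    refine IsPGroup.of_card (n := ka) ?_
    rw [Nat.card_zpowers, Subgroup.orderOf_mk, Subgroup.orderOf_coe, hka]
  obtain ⟨T, hT⟩ := hA.exists_le_sylow
  obtain ⟨g, hg⟩ := MulAction.exists_smul_eq K T S
  -- the conjugate of `a` inside `S`
  have hbS : g * (⟨a, le_sup_right (a := P) haE⟩ : K) * g⁻¹ ∈ (S : Subgroup K) := by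
    rw [← hg]
    exact ⟨_, hT (Subgroup.mem_zpowers _), rfl⟩
  set b : G := (g : G) * a * (g : G)⁻¹ with hb
  have hbE : b ∈ E := (mem_normalizer_iff.mp (hKE g.2) _).mp haE
  have hbC : b ∉ Subgroup.centralizer (E : Set G) := fun hc => ha <| by
    have haC : (a : G) ∈ Subgroup.centralizer (E : Set G) := by
      have := (mem_normalizer_iff.mp (Coprime.le_normalizer_centralizer hKE g.2) (a : G)).mpr hc
      exact this
    exact mem_center_iff.mpr fun l => Subtype.ext
      (mem_centralizer_iff.mp haC l (le_orbitJoin P L l.2))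
  haveI : Group.IsNilpotent ↥(S : Subgroup K) := S.isPGroup'.isNilpotent
  by_contra hcon
  have key : ∀ n, ∀ s : ↥(S : Subgroup K), s ∈ Subgroup.upperCentralSeries (↥(S : Subgroup K)) n →
      ((s : K) : G) ∈ E → ((s : K) : G) ∈ Subgroup.centralizer (E : Set G) := by
    intro n
    induction n with
    | zero =>
      intro s hs _
      rw [Subgroup.upperCentralSeries_zero, Subgroup.mem_bot] at hs
      rw [hs]
      exact one_mem _
    | succ n ih =>
      intro s hs hsE
      by_contra hsC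
      refine hcon ⟨_, hsE, hsC, ?_, fun y hy => ?_⟩
      · obtain ⟨j, hj⟩ := IsPGroup.iff_orderOf.mp S.isPGroup' s
        exact ⟨j, by rw [← hj]; simp [Subgroup.orderOf_coe]⟩
      · have hyS : (⟨y, le_sup_left (b := E) hy⟩ : K) ∈ (S : Subgroup K) := hS hy
        have hmem := Subgroup.mem_upperCentralSeries_succ_iff.mp hs ⟨_, hyS⟩
        have hcE : ((s : K) : G) * y * ((s : K) : G)⁻¹ * y⁻¹ ∈ E := by
          have h1 : y * ((s : K) : G)⁻¹ * y⁻¹ ∈ E :=
            (mem_normalizer_iff.mp (hPE hy) _).mp (inv_mem hsE)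
          simpa [mul_assoc] using mul_mem hsE h1
        exact ⟨hcE, ih _ hmem hcE⟩
  obtain ⟨n, hn⟩ := Group.IsNilpotent.nilpotent ↥(S : Subgroup K)
  exact hbC (key n ⟨_, hbS⟩ (hn ▸ mem_top _) hbE)

/-- If `O_{p'}(G) = 1` then the preimage of `E(N/O_{p'}(N))` in `N = N_G(P)` normalizes every
component. -/
theorem localLayerCover_le_normalizer_component (hO : pPrimeCore p G = ⊥) {P : Subgroup G}
    (hP : IsPGroup p P) {L : Subgroup G} (hL : IsComponent L) :
    localLayerCover p P ≤ Subgroup.normalizer (L : Set G) := by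
  classical
  set N := Subgroup.normalizer (P : Set G) with hN
  set Z := (center (layer G)).map (layer G).subtype with hZ
  haveI : Z.Normal := inferInstance
  set C₁ := Subgroup.centralizer (P : Set G) ⊓ Subgroup.centralizer (Z : Set G) with hC₁
  have hC₁N : C₁ ≤ N := inf_le_left.trans (Subgroup.centralizer_le_normalizer _)
  have hNC₁ : N ≤ Subgroup.normalizer (C₁ : Set G) :=
    Coprime.le_normalizer_inf (Coprime.le_normalizer_centralizer le_rfl)
      (Coprime.le_normalizer_centralizer (le_of_le_of_eq le_top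
        (normalizer_eq_top_iff.mpr ‹Z.Normal›).symm))
  have hXC : localLayerCover p P ≤ C₁ := le_inf (localLayerCover_le_centralizer_self hP)
    ((localLayerCover_le_centralizer_pCore hP).trans
      (Subgroup.centralizer_le (map_center_layer_le_pCore hO)))
  set R := (pPrimeCore p ↥N).map N.subtype with hR
  have hRC : R ≤ C₁ := map_pPrimeCore_le_localLayerCover.trans hXC
  set M₀ : Subgroup G :=
    ⨅ L' : {K : Subgroup G // IsComponent K}, Subgroup.normalizer (orbitJoin P L'.1 : Set G) with hM₀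
  have hlayerM : layer G ≤ M₀ := le_iInf fun L' => layer_le_normalizer_orbitJoin L'.2
  set M : Subgroup ↥N := (C₁ ⊓ M₀).subgroupOf N with hM
  set q := QuotientGroup.mk' (pPrimeCore p ↥N) with hq
  -- the main claim, for a fixed component `L₁`
  have main : ∀ L₁ : Subgroup G, IsComponent L₁ →
      (∀ r ∈ pPrimeCore p ↥N, (r : G) ∈ Subgroup.normalizer (orbitJoin P L₁ : Set G)) ∧
      ∀ K : Subgroup (↥N ⧸ pPrimeCore p ↥N), IsComponent K →
        K ≤ Subgroup.centralizer (M.map q : Set (↥N ⧸ pPrimeCore p ↥N)) →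
        ∀ c : ↥N, q c ∈ K →
          (c : G) ∈ Subgroup.normalizer (orbitJoin P L₁ : Set G) := by
    intro L₁ hL₁
    obtain ⟨u, huE, huC, ⟨ku, hku⟩, huP⟩ :=
      exists_orbit_witness hP hL₁ (dvd_card_component hO hL₁)
    have hulayer : u ∈ layer G := orbitJoin_le_layer hL₁ huE
    have hZu : ∀ y ∈ P, u * y * u⁻¹ * y⁻¹ ∈ Z := by
      intro y hy
      obtain ⟨h1, h2⟩ := huP y hy
      refine ⟨⟨_, orbitJoin_le_layer hL₁ h1⟩, mem_center_iff.mpr fun e => Subtype.ext ?_, rfl⟩
      have : layer G ≤ Subgroup.centralizer ({u * y * u⁻¹ * y⁻¹} : Set G) := by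
        rw [layer_le_iff]
        intro L' hL' l hl
        rw [mem_centralizer_singleton_iff]
        by_cases hL'O : L' ∈ orbitSet P L₁
        · exact mem_centralizer_iff.mp h2 l ((le_sSup hL'O : L' ≤ orbitJoin P L₁) hl)
        · exact (mem_centralizer_iff.mp (orbitJoin_le_centralizer_of_notMem hL₁ hL' hL'O
            (le_orbitJoin P L' hl)) _ h1).symm
      exact mem_centralizer_singleton_iff.mp (this e.2)
    -- conjugation by `u^{±1}` preserves `C₁`
    have hconj : ∀ v : G, v ∈ layer G → (∀ y ∈ P, v⁻¹ * y * v * y⁻¹ ∈ Z) →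
        ∀ c ∈ C₁, v * c * v⁻¹ ∈ C₁ := by
      intro v hv hvy c hc
      refine Subgroup.mem_inf.mpr
        ⟨?_, (inferInstance : (Subgroup.centralizer (Z : Set G)).Normal).conj_mem c hc.2 v⟩
      rw [mem_centralizer_iff]
      intro y hy
      have hz : v⁻¹ * y * v = (v⁻¹ * y * v * y⁻¹) * y := by group
      have hcomm : Commute (v⁻¹ * y * v) c := by
        rw [hz]
        exact Commute.mul_left (mem_centralizer_iff.mp hc.2 _ (hvy y hy))
          (mem_centralizer_iff.mp hc.1 y hy)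
      have := Commute.map hcomm (MulAut.conj v).toMonoidHom
      simpa [mul_assoc] using this.eq
    have hcentral : ∀ z ∈ Z, Commute u z := by
      rintro z ⟨z', hz', rfl⟩
      exact congrArg Subtype.val (mem_center_iff.mp hz' ⟨u, hulayer⟩)
    have hu1 : ∀ c ∈ C₁, u * c * u⁻¹ ∈ C₁ := hconj u hulayer fun y hy => by
      have h := hcentral _ (hZu y hy)
      have h2 : u⁻¹ * y * u * y⁻¹ = (u * y * u⁻¹ * y⁻¹)⁻¹ := by
        have e : u * y * u⁻¹ = (u * y * u⁻¹ * y⁻¹) * y := by group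
        have : y = (u⁻¹ * (u * y * u⁻¹ * y⁻¹) * u) * (u⁻¹ * y * u) := by
          calc y = u⁻¹ * (u * y * u⁻¹) * u := by group
            _ = _ := by rw [e]; group
        rw [h.inv_left.eq, inv_mul_cancel_right] at this
        calc u⁻¹ * y * u * y⁻¹
            = (u * y * u⁻¹ * y⁻¹)⁻¹ * ((u * y * u⁻¹ * y⁻¹) * (u⁻¹ * y * u)) * y⁻¹ := by group
          _ = _ := by rw [← this]; group
      rw [h2]
      exact inv_mem (hZu y hy)
    have hu2 : ∀ c ∈ C₁, u⁻¹ * c * u ∈ C₁ := fun c hc => by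
      have := hconj u⁻¹ (inv_mem hulayer) (fun y hy => by simpa using hZu y hy) c hc
      simpa using this
    -- conjugation by `u` preserves `R`
    have huR : ∀ r ∈ R, u * r * u⁻¹ ∈ R := by
      intro r hr
      set R' := R.map (MulAut.conj u).toMonoidHom with hR'
      have hR'C : R' ≤ C₁ := by
        rintro _ ⟨x, hx, rfl⟩
        exact hu1 x (hRC hx)
      have hR'n : C₁ ≤ Subgroup.normalizer (R' : Set G) := by
        refine Coprime.le_normalizer_of_conj_mem fun c hc x hx => ?_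
        obtain ⟨y, hy, rfl⟩ := hx
        have hcN := hC₁N (hu2 c hc)
        obtain ⟨y', hy', rfl⟩ := hy
        refine ⟨u⁻¹ * c * u * (y' : G) * (u⁻¹ * c * u)⁻¹,
          ⟨⟨_, hcN⟩ * y' * ⟨_, hcN⟩⁻¹, (inferInstance : (pPrimeCore p ↥N).Normal).conj_mem y' hy' _,
            rfl⟩, ?_⟩
        simp [mul_assoc]
      have hsub : (R'.subgroupOf N).IsSubnormal := by
        refine Subgroup.IsSubnormal.step _ (C₁.subgroupOf N) (Subgroup.comap_mono hR'C)
          (((normal_subgroupOf_iff_le_normalizer hC₁N).mpr hNC₁).isSubnormal) ?_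
        refine (normal_subgroupOf_iff_le_normalizer (Subgroup.comap_mono hR'C)).mpr ?_
        exact (Subgroup.comap_mono hR'n).trans (le_normalizer_comap _)
      have hcard : (Nat.card ↥(R'.subgroupOf N)).Coprime p := by
        rw [Nat.card_congr (Subgroup.subgroupOfEquivOfLe (hR'C.trans hC₁N)).toEquiv]
        exact Thompson.card_pPrimeCore_coprime.coprime_dvd_left
          ((Subgroup.card_map_dvd _ _).trans (Subgroup.card_map_dvd _ _))
      have hmem : u * r * u⁻¹ ∈ R' := ⟨r, hr, rfl⟩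
      exact ⟨⟨_, hC₁N (hR'C hmem)⟩, Thompson.le_pPrimeCore_of_isSubnormal hsub hcard hmem, rfl⟩
    -- an element of `C₁` fixed by `u` modulo `R` normalizes the orbit
    have claim : ∀ c ∈ C₁, u * c * u⁻¹ * c⁻¹ ∈ R →
        c ∈ Subgroup.normalizer (orbitJoin P L₁ : Set G) := by
      intro c hc hcR
      have hcN := hC₁N hc
      rw [← map_conj_eq_iff_mem_normalizer, map_conj_orbitJoin hcN]
      by_cases hmem : L₁.map (MulAut.conj c).toMonoidHom ∈ orbitSet P L₁
      · rw [orbitJoin, orbitSet_eq_of_mem hmem]; rfl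
      exfalso
      set v := c * u * c⁻¹ with hv
      have hvC : v ∈ Subgroup.centralizer (orbitJoin P L₁ : Set G) := by
        apply orbitJoin_le_centralizer_of_notMem hL₁ (component_map_conj c hL₁) hmem
        rw [← map_conj_orbitJoin hcN]
        exact ⟨u, huE, rfl⟩
      have huv : Commute u v := mem_centralizer_iff.mp hvC u huE
      have h1 : u * v⁻¹ ∈ R := by
        simpa [hv, mul_assoc] using hcR
      have h2 : (u * v⁻¹) ^ (p ^ ku) = 1 := by
        rw [huv.inv_right.mul_pow, ← hku, pow_orderOf_eq_one, inv_pow, hv, conj_pow,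
          pow_orderOf_eq_one]
        simp
      have h3 : u * v⁻¹ = 1 := by
        obtain ⟨w, hw, hwe⟩ := h1
        have hd1 : orderOf (u * v⁻¹) ∣ p ^ ku := orderOf_dvd_of_pow_eq_one h2
        have hd2 : (orderOf (u * v⁻¹)).Coprime p := by
          rw [← hwe, Subgroup.coe_subtype, Subgroup.orderOf_coe]
          exact Thompson.card_pPrimeCore_coprime.coprime_dvd_left
            (Subgroup.orderOf_dvd_natCard _ hw)
        rw [← orderOf_eq_one_iff]
        exact Nat.eq_one_of_dvd_coprimes (hd2.pow_right ku) dvd_rfl hd1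
      exact huC ((mul_inv_eq_one.mp h3) ▸ hvC)
    -- lifts
    let α : ↥(C₁.subgroupOf N) →* ↥(C₁.subgroupOf N) :=
      { toFun := fun c => ⟨⟨u * ((c : ↥N) : G) * u⁻¹, hC₁N (hu1 _ c.2)⟩, hu1 _ c.2⟩
        map_one' := by ext; simp
        map_mul' := fun a b => by ext; simp [mul_assoc] }
    have hαR : ∀ c : ↥(C₁.subgroupOf N), (c : ↥N) ∈ pPrimeCore p ↥N →
        (α c : ↥N) ∈ pPrimeCore p ↥N := by
      intro c hc
      obtain ⟨w, hw, hwe⟩ := huR _ ⟨c, hc, rfl⟩
      have : w = (α c : ↥N) := Subtype.ext hwe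
      exact this ▸ hw
    have hclaim : ∀ c : ↥(C₁.subgroupOf N), q (α c : ↥N) = q (c : ↥N) →
        ((c : ↥N) : G) ∈ Subgroup.normalizer (orbitJoin P L₁ : Set G) := fun c hc => by
      refine claim _ c.2 ⟨(α c : ↥N) * (c : ↥N)⁻¹, ?_, rfl⟩
      rw [SetLike.mem_coe, ← QuotientGroup.ker_mk' (pPrimeCore p ↥N), MonoidHom.mem_ker, map_mul,
        map_inv, mul_inv_eq_one]
      exact hc
    have hRfix : ∀ r ∈ pPrimeCore p ↥N,
        (r : G) ∈ Subgroup.normalizer (orbitJoin P L₁ : Set G) := fun r hr => by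
      refine hclaim ⟨r, hRC ⟨r, hr, rfl⟩⟩ ?_
      rw [hq, QuotientGroup.mk'_apply, QuotientGroup.mk'_apply,
        (QuotientGroup.eq_one_iff _).mpr (hαR ⟨r, hRC ⟨r, hr, rfl⟩⟩ hr),
        (QuotientGroup.eq_one_iff _).mpr hr]
    refine ⟨hRfix, fun K hK hKM c hc => ?_⟩
    have hKC : K ≤ (C₁.subgroupOf N).map q := by
      intro k hk
      obtain ⟨w, rfl⟩ := QuotientGroup.mk'_surjective _ k
      exact ⟨w, hXC ⟨w, component_le_layer hK hk, rfl⟩, rfl⟩
    obtain ⟨c', hc', hfix⟩ := exists_lift_fixed q (C₁.subgroupOf N)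
      (component_commutator_eq_self hK) hKC hKM α
      (fun c hc => by
        have h0 : (c : ↥N) ∈ pPrimeCore p ↥N := by
          rwa [← QuotientGroup.ker_mk' (pPrimeCore p ↥N), MonoidHom.mem_ker]
        rw [hq, QuotientGroup.mk'_apply, QuotientGroup.eq_one_iff]
        exact hαR c h0)
      (fun c => ⟨(α c : ↥N) * (c : ↥N)⁻¹, mem_subgroupOf.mpr
        (Subgroup.mem_inf.mpr ⟨mul_mem (hu1 _ c.2) (C₁.inv_mem c.2), hlayerM (by
          have h := mul_mem hulayer ((inferInstance : (layer G).Normal).conj_mem _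
            (inv_mem hulayer) ((c : ↥N) : G))
          simpa [α, mul_assoc] using h)⟩), by simp⟩)
      (fun m hm => by
        obtain ⟨w, hw, rfl⟩ := hm
        obtain ⟨hw1, hw2⟩ := Subgroup.mem_inf.mp (mem_subgroupOf.mp hw)
        refine ⟨⟨⟨_, hC₁N (hu2 _ hw1)⟩, hu2 _ hw1⟩, congrArg q (Subtype.ext ?_),
          ⟨⟨_, hC₁N (hu2 _ hw1)⟩, mem_subgroupOf.mpr (Subgroup.mem_inf.mpr ⟨hu2 _ hw1, ?_⟩), rfl⟩⟩
        · simp [α, mul_assoc]
        · exact M₀.mul_mem (M₀.mul_mem (M₀.inv_mem (hlayerM hulayer)) hw2) (hlayerM hulayer))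
      (q c) hc
    have hr : c * (c' : ↥N)⁻¹ ∈ pPrimeCore p ↥N := by
      rw [← QuotientGroup.ker_mk' (pPrimeCore p ↥N), MonoidHom.mem_ker, map_mul, map_inv]
      exact mul_inv_eq_one.mpr hc'.symm
    have := mul_mem (hRfix _ hr) (hclaim c' hfix)
    simpa using this
  -- `M` is normal in `N`
  haveI : M.Normal := by
    refine (normal_subgroupOf_iff_le_normalizer (inf_le_left.trans hC₁N)).mpr
      (Coprime.le_normalizer_inf hNC₁ (Coprime.le_normalizer_of_conj_mem fun n hn x hx => ?_))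
    rw [hM₀, Subgroup.mem_iInf] at hx ⊢
    intro L'
    have hxn := map_conj_eq_iff_mem_normalizer.mpr
      (hx ⟨L'.1.map (MulAut.conj n⁻¹).toMonoidHom, component_map_conj _ L'.2⟩)
    have hbase : orbitJoin P L'.1 =
        (orbitJoin P (L'.1.map (MulAut.conj n⁻¹).toMonoidHom)).map (MulAut.conj n).toMonoidHom := by
      rw [map_conj_orbitJoin hn, map_conj_map_conj, mul_inv_cancel, map_conj_one]
    rw [← map_conj_eq_iff_mem_normalizer, hbase, map_conj_map_conj,
      show n * x * n⁻¹ * n = n * x by group, ← map_conj_map_conj, hxn]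
  -- the cover lies in `M`
  have hcover : layerCover p ↥N ≤ M := by
    have hstep : ∀ K : Subgroup (↥N ⧸ pPrimeCore p ↥N), IsComponent K → K ≤ M.map q := by
      intro K hK
      haveI : (M.map q).Normal := ‹M.Normal›.map q (QuotientGroup.mk'_surjective _)
      rcases component_le_or_commutator_eq_bot_of_normal hK (M.map q) with h | h
      · exact h
      · intro k hk
        obtain ⟨c, rfl⟩ := QuotientGroup.mk'_surjective _ k
        refine ⟨c, mem_subgroupOf.mpr (Subgroup.mem_inf.mpr ⟨hXC ⟨c, component_le_layer hK hk, rfl⟩, ?_⟩), rfl⟩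
        rw [hM₀, Subgroup.mem_iInf]
        exact fun L' => (main L'.1 L'.2).2 K hK (commutator_eq_bot_iff_le_centralizer.mp h) c hk
    intro c hc
    obtain ⟨w, hw, hwe⟩ := (layer_le_iff.mpr hstep) hc
    have hr : c * w⁻¹ ∈ pPrimeCore p ↥N := by
      rw [← QuotientGroup.ker_mk' (pPrimeCore p ↥N), MonoidHom.mem_ker, map_mul, map_inv]
      exact mul_inv_eq_one.mpr hwe.symm
    have hrM : c * w⁻¹ ∈ M := by
      refine mem_subgroupOf.mpr (Subgroup.mem_inf.mpr ⟨hRC ⟨_, hr, rfl⟩, ?_⟩)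
      rw [hM₀, Subgroup.mem_iInf]
      exact fun L' => (main L'.1 L'.2).1 _ hr
    simpa using mul_mem hrM hw
  refine localLayerCover_le_of_forall_coprime fun x hx hcop => ?_
  have hxP : ∀ y ∈ P, Commute y x :=
    mem_centralizer_iff.mp (localLayerCover_le_centralizer_self hP hx)
  have hxO : x ∈ Subgroup.normalizer (orbitJoin P L : Set G) := by
    obtain ⟨w, hw, rfl⟩ := hx
    have h := (Subgroup.mem_inf.mp (mem_subgroupOf.mp (hcover hw))).2
    rw [hM₀, Subgroup.mem_iInf] at h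
    exact h ⟨L, hL⟩
  have hmem : L.map (MulAut.conj x).toMonoidHom ∈ orbitSet P L := by
    refine component_mem_of_le_sSup (component_map_conj x hL)
      (fun M hM => isComponent_of_mem_orbitSet hL hM) ?_
    show _ ≤ orbitJoin P L
    rw [← map_conj_eq_iff_mem_normalizer.mpr hxO]
    exact Subgroup.map_mono (le_orbitJoin P L)
  obtain ⟨y, hy, he⟩ := hmem
  have hyx : y⁻¹ * x ∈ Subgroup.normalizer (L : Set G) := map_conj_eq_map_conj_iff.mp he
  have h1 : y⁻¹ ^ orderOf x ∈ Subgroup.normalizer (L : Set G) := by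
    have := pow_mem hyx (orderOf x)
    rwa [((hxP y hy).inv_left).mul_pow, pow_orderOf_eq_one, mul_one] at this
  have h2 : (orderOf x).Coprime (orderOf y⁻¹) := by
    obtain ⟨k, hk⟩ := IsPGroup.iff_orderOf.mp hP ⟨y, hy⟩
    rw [orderOf_inv, ← Subgroup.orderOf_mk y hy, hk]
    exact hcop.pow_right k
  obtain ⟨m, hm⟩ := exists_pow_eq_self_of_coprime h2
  exact (mul_mem_cancel_left (hm ▸ pow_mem h1 m : y⁻¹ ∈ Subgroup.normalizer (L : Set G))).mp hyx

end Main

end Cfsg.Agent.Components
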