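import Cfsg.Prelude.Def_Balance
import Cfsg.Agent.Lib.Components.PermuteComponents

/-!
# Balance from balance of the components
-/

set_option autoImplicit false
set_option linter.style.haveILetI false

namespace Cfsg.Agent.Components

open Subgroup
open scoped commutatorElement IsMulCommutative Pointwise

variable {G : Type*} [Group G]

/-- The normalizer of `C` normalizes every characteristic subgroup of `C`. -/
theorem normalizer_le_normalizer_map_characteristic (C : Subgroup G) (K : Subgroup C)
    [hK : K.Characteristic] :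
    Subgroup.normalizer (C : Set G) ≤ Subgroup.normalizer (K.map C.subtype : Set G) := by
  refine Coprime.le_normalizer_of_conj_mem fun g hg x hx => ?_
  obtain ⟨k, hk, rfl⟩ := hx
  let e : C ≃* C :=
    { toFun := fun c => ⟨g * c * g⁻¹, (mem_normalizer_iff.mp hg (c : G)).mp c.2⟩
      invFun := fun c => ⟨g⁻¹ * c * g, (mem_normalizer_iff.mp hg _).mpr (by simp [mul_assoc])⟩
      left_inv := fun c => by ext; simp [mul_assoc]
      right_inv := fun c => by ext; simp [mul_assoc]
      map_mul' := fun a b => by ext; simp [mul_assoc] }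
  exact ⟨e k, (characteristic_iff_map_eq.mp hK e) ▸ ⟨k, hk, rfl⟩, rfl⟩

variable [Finite G] {p : ℕ} [hp : Fact p.Prime]

omit [Finite G] hp in
theorem centralizerPPrimeCore_le_centralizer (x : G) :
    centralizerPPrimeCore p x ≤ Subgroup.centralizer ({x} : Set G) := Subgroup.map_subtype_le _

omit hp in
/-- A subnormal `p'`-subgroup of `C_G(x)` lies in `O_{p'}(C_G(x))`. -/
theorem le_centralizerPPrimeCore {x : G} {D : Subgroup G}
    (hD : D ≤ Subgroup.centralizer ({x} : Set G))
    (hsn : (D.subgroupOf (Subgroup.centralizer ({x} : Set G))).IsSubnormal)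
    (hc : (Nat.card D).Coprime p) : D ≤ centralizerPPrimeCore p x := by
  rw [centralizerPPrimeCore, ← map_subgroupOf_eq_of_le hD]
  refine Subgroup.map_mono (Thompson.le_pPrimeCore_of_isSubnormal hsn ?_)
  rwa [Nat.card_congr (Subgroup.subgroupOfEquivOfLe hD).toEquiv]

omit hp in
/-- If `x` has order `p` then `O_{p'}(C_G(x))` lies in the preimage of the layer of `N_G(⟨x⟩)`. -/
theorem centralizerPPrimeCore_le_localLayerCover (x : G) :
    centralizerPPrimeCore p x ≤ localLayerCover p (Subgroup.zpowers x) := by
  set N := Subgroup.normalizer (Subgroup.zpowers x : Set G) with hN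
  have hC : Subgroup.centralizer ({x} : Set G) = Subgroup.centralizer (Subgroup.zpowers x : Set G) := by
    rw [Subgroup.zpowers_eq_closure, Subgroup.centralizer_closure]
  have hDN : centralizerPPrimeCore p x ≤ N := (centralizerPPrimeCore_le_centralizer x).trans
    (hC.le.trans (Subgroup.centralizer_le_normalizer _))
  have hn : N ≤ Subgroup.normalizer (centralizerPPrimeCore p x : Set G) := by
    refine le_trans ?_ (normalizer_le_normalizer_map_characteristic _ _)
    rw [hC]
    exact Coprime.le_normalizer_centralizer le_rfl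
  refine le_trans ?_ map_pPrimeCore_le_localLayerCover
  rw [← map_subgroupOf_eq_of_le hDN]
  refine Subgroup.map_mono (Thompson.le_pPrimeCore
    ((normal_subgroupOf_iff_le_normalizer hDN).mpr hn) ?_)
  rw [Nat.card_congr (Subgroup.subgroupOfEquivOfLe hDN).toEquiv]
  exact centralizerPPrimeCore_coprime x

/-- If all `H/C_H(L)`, `L` a component normal in `H`, are balanced and `O_{p'}(G) = 1`, then `G` is
balanced. -/
theorem isBalancedFor_of_components (hO : pPrimeCore p G = ⊥)
    (h : ∀ L : Subgroup G, IsComponent L → ∀ H : Subgroup G, L ≤ H → (L.subgroupOf H).Normal →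
      ∀ [((Subgroup.centralizer (L : Set G)).subgroupOf H).Normal],
        IsBalancedFor p (↥H ⧸ (Subgroup.centralizer (L : Set G)).subgroupOf H)) :
    IsBalancedFor p G := by
  intro x hx
  set D := centralizerPPrimeCore p x with hD
  have hXp : IsPGroup p ↥(Subgroup.zpowers x) := by
    refine IsPGroup.of_card (n := 1) ?_
    rw [Nat.card_zpowers, hx, pow_one]
  have hDcover : D ≤ localLayerCover p (Subgroup.zpowers x) :=
    centralizerPPrimeCore_le_localLayerCover x
  have hDU : D ≤ Subgroup.centralizer (pCore p G : Set G) :=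
    hDcover.trans (localLayerCover_le_centralizer_pCore hXp)
  set Z := (center (layer G)).map (layer G).subtype with hZ
  haveI : Z.Normal := inferInstance
  have hDZ : D ≤ Subgroup.centralizer (Z : Set G) :=
    hDU.trans (Subgroup.centralizer_le (map_center_layer_le_pCore hO))
  have hcomp : ∀ L, IsComponent L → L ≤ Subgroup.centralizer (D : Set G) := by
    intro L hL
    by_cases hne : ⁅L, Subgroup.zpowers x⁆ = L
    swap
    · exact commutator_eq_bot_iff_le_centralizer.mp
        (component_commutator_centralizerPPrimeCore hO hx hL hne)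
    have hxN : x ∈ Subgroup.normalizer (L : Set G) := by
      refine Coprime.le_normalizer_of_conj_mem (fun a ha l hl => ?_) (Subgroup.mem_zpowers x)
      have h1 : ⁅l⁻¹, a⁆ ∈ L := hne.le (commutator_mem_commutator (inv_mem hl) ha)
      simpa [commutatorElement_def, mul_assoc] using mul_mem hl h1
    have hDL : D ≤ Subgroup.normalizer (L : Set G) :=
      hDcover.trans (localLayerCover_le_normalizer_component hO hXp hL)
    set W := Subgroup.zpowers x ⊔ D with hW
    have hWL : W ≤ Subgroup.normalizer (L : Set G) := sup_le (Subgroup.zpowers_le.mpr hxN) hDL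
    have hWC : W ≤ Subgroup.centralizer ({x} : Set G) := sup_le
      (Subgroup.zpowers_le.mpr (mem_centralizer_singleton_iff.mpr rfl))
      (centralizerPPrimeCore_le_centralizer x)
    set H := L ⊔ W with hH
    have hLH : L ≤ H := le_sup_left
    have hDH : D ≤ H := le_sup_right.trans le_sup_right
    have hHL : H ≤ Subgroup.normalizer (L : Set G) := sup_le Subgroup.le_normalizer hWL
    have hLn : (L.subgroupOf H).Normal := (normal_subgroupOf_iff_le_normalizer hLH).mpr hHL
    haveI hCn : ((Subgroup.centralizer (L : Set G)).subgroupOf H).Normal := by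
      refine ⟨fun c hc g => mem_subgroupOf.mpr ?_⟩
      have hg := Coprime.le_normalizer_centralizer hHL g.2
      simpa using (mem_normalizer_iff.mp hg (c : G)).mp (mem_subgroupOf.mp hc)
    set q := QuotientGroup.mk' ((Subgroup.centralizer (L : Set G)).subgroupOf H) with hq
    have hq1 : ∀ g : H, q g = 1 ↔ (g : G) ∈ Subgroup.centralizer (L : Set G) := fun g => by
      rw [hq, QuotientGroup.mk'_apply, QuotientGroup.eq_one_iff, mem_subgroupOf]
    let xH : H := ⟨x, Subgroup.mem_sup_right (Subgroup.mem_sup_left (Subgroup.mem_zpowers x))⟩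
    have hxbar : orderOf (q xH) = p := by
      refine orderOf_eq_prime ?_ ?_
      · rw [← map_pow]
        have : xH ^ p = 1 := Subtype.ext (by simp [xH, hx ▸ pow_orderOf_eq_one x])
        rw [this, map_one]
      · intro hc
        refine component_ne_bot hL (hne ▸ ?_)
        rw [commutator_eq_bot_iff_le_centralizer, Subgroup.le_centralizer_iff, Subgroup.zpowers_le]
        exact (hq1 xH).mp hc
    set Db := (D.subgroupOf H).map q with hDb
    -- `D` is normalized by the elements centralizing `x` modulo `C_H(L)`
    have hconj : ∀ g : H, Commute (q g) (q xH) → ∀ d ∈ D, (g : G) * d * (g : G)⁻¹ ∈ D := by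
      rintro ⟨g, hg⟩ hcomm d hd
      have hg' : g ∈ (L : Set G) * (W : Set G) := by
        rw [← coe_mul_of_right_le_normalizer_left L W hWL]
        exact hg
      obtain ⟨l, hl, w, hw, rfl⟩ := hg'
      have hwD : w * d * w⁻¹ ∈ D :=
        (mem_normalizer_iff.mp ((normalizer_le_normalizer_map_characteristic _
          (pPrimeCore p ↥(Subgroup.centralizer ({x} : Set G))))
            (Subgroup.le_normalizer (hWC hw))) d).mp hd
      have hwx : Commute (q ⟨w, le_sup_right (a := L) hw⟩) (q xH) := by
        refine Commute.map (Subtype.ext ?_) q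
        exact mem_centralizer_singleton_iff.mp (hWC hw)
      have hlx : Commute (q ⟨l, hLH hl⟩) (q xH) := by
        have h1 := hcomm.mul_left hwx.inv_left
        have e : q ⟨_, hg⟩ * (q ⟨w, le_sup_right (a := L) hw⟩)⁻¹ = q ⟨l, hLH hl⟩ := by
          rw [← map_inv, ← map_mul]
          exact congrArg q (Subtype.ext (mul_inv_cancel_right l w))
        rwa [e] at h1
      have hz : l * x * l⁻¹ * x⁻¹ ∈ Z := by
        have h1 : q (⟨l, hLH hl⟩ * xH * (⟨l, hLH hl⟩ : H)⁻¹ * xH⁻¹) = 1 := by
          simp only [map_mul, map_inv]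
          rw [hlx.eq]
          group
        have h2 : l * x * l⁻¹ * x⁻¹ ∈ Subgroup.centralizer (L : Set G) := (hq1 _).mp h1
        have h3 : l * x * l⁻¹ * x⁻¹ ∈ L := by
          have h4 : x * l⁻¹ * x⁻¹ ∈ L := (mem_normalizer_iff.mp hxN _).mp (inv_mem hl)
          simpa [mul_assoc] using mul_mem hl h4
        rw [hZ, map_center_layer]
        exact le_iSup (fun K : {K : Subgroup G // IsComponent K} =>
          (center (K.1 : Subgroup G)).map (K.1 : Subgroup G).subtype) ⟨L, hL⟩
          ⟨⟨_, h3⟩, mem_center_iff.mpr fun b => Subtype.ext (mem_centralizer_iff.mp h2 b b.2), rfl⟩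
      set CS := Subgroup.centralizer ({x} : Set G) ⊓ Subgroup.centralizer (Z : Set G) with hCS
      have hlayer : l ∈ layer G := component_le_layer hL hl
      have hcentral : ∀ v ∈ layer G, ∀ z ∈ Z, Commute v z := by
        rintro v hv z ⟨z', hz', rfl⟩
        exact congrArg Subtype.val (mem_center_iff.mp hz' ⟨v, hv⟩)
      have hl1 : ∀ v ∈ layer G, v⁻¹ * x * v * x⁻¹ ∈ Z → ∀ c ∈ CS, v * c * v⁻¹ ∈ CS := by
        intro v hv hvx c hc
        obtain ⟨hc1, hc2⟩ := Subgroup.mem_inf.mp hc
        refine Subgroup.mem_inf.mpr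
          ⟨?_, (inferInstance : (Subgroup.centralizer (Z : Set G)).Normal).conj_mem c hc2 v⟩
        rw [mem_centralizer_singleton_iff] at hc1 ⊢
        have hcomm' : Commute (v⁻¹ * x * v) c := by
          rw [show v⁻¹ * x * v = (v⁻¹ * x * v * x⁻¹) * x by group]
          exact Commute.mul_left (mem_centralizer_iff.mp hc2 _ hvx) hc1.symm
        have := Commute.map hcomm' (MulAut.conj v).toMonoidHom
        simpa [mul_assoc] using this.eq.symm
      have hlinv : l⁻¹ * x * l * x⁻¹ ∈ Z := by
        have h1 := hcentral l hlayer _ hz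
        have h2 : l⁻¹ * x * l * x⁻¹ = (l * x * l⁻¹ * x⁻¹)⁻¹ := by
          have e : x = (l⁻¹ * (l * x * l⁻¹ * x⁻¹) * l) * (l⁻¹ * x * l) := by group
          rw [h1.inv_left.eq, inv_mul_cancel_right] at e
          calc l⁻¹ * x * l * x⁻¹
              = (l * x * l⁻¹ * x⁻¹)⁻¹ * ((l * x * l⁻¹ * x⁻¹) * (l⁻¹ * x * l)) * x⁻¹ := by group
            _ = _ := by rw [← e]; group
        rw [h2]
        exact inv_mem hz
      have hl2 : ∀ c ∈ CS, l⁻¹ * c * l ∈ CS := fun c hc => by
        simpa using hl1 l⁻¹ (inv_mem hlayer) (by simpa using hz) c hc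
      have hDCS : D ≤ CS := le_inf (centralizerPPrimeCore_le_centralizer x) hDZ
      set D' := D.map (MulAut.conj l).toMonoidHom with hD'
      have hD'CS : D' ≤ CS := by
        rintro _ ⟨e, he, rfl⟩
        exact hl1 l hlayer hlinv e (hDCS he)
      have hCSn : CS ≤ Subgroup.normalizer (D' : Set G) := by
        refine Coprime.le_normalizer_of_conj_mem fun c hc e he => ?_
        obtain ⟨d', hd', rfl⟩ := he
        refine ⟨(l⁻¹ * c * l) * d' * (l⁻¹ * c * l)⁻¹,
          (mem_normalizer_iff.mp ((normalizer_le_normalizer_map_characteristic _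
            (pPrimeCore p ↥(Subgroup.centralizer ({x} : Set G))))
              (Subgroup.le_normalizer (Subgroup.mem_inf.mp (hl2 c hc)).1)) d').mp hd', ?_⟩
        simp [mul_assoc]
      have hle : D' ≤ D := by
        refine le_centralizerPPrimeCore (hD'CS.trans inf_le_left) ?_ ?_
        · refine Subgroup.IsSubnormal.step _ (CS.subgroupOf _) (Subgroup.comap_mono hD'CS) ?_ ?_
          · refine Subgroup.Normal.isSubnormal ?_
            rw [hCS, Subgroup.inf_subgroupOf_left]
            exact inferInstance
          · exact (normal_subgroupOf_iff_le_normalizer (Subgroup.comap_mono hD'CS)).mpr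
              ((Subgroup.comap_mono hCSn).trans (le_normalizer_comap _))
        · exact (centralizerPPrimeCore_coprime x).coprime_dvd_left (Subgroup.card_map_dvd _ _)
      have := hle ⟨_, hwD, rfl⟩
      simpa [mul_assoc] using this
    have hDb1 : Db ≤ centralizerPPrimeCore p (q xH) := by
      have hle : Db ≤ Subgroup.centralizer ({q xH} : Set _) := by
        rintro _ ⟨d, hd, rfl⟩
        rw [mem_centralizer_singleton_iff]
        refine (Commute.map (Subtype.ext ?_) q).eq
        exact mem_centralizer_singleton_iff.mp (centralizerPPrimeCore_le_centralizer x hd)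
      refine le_centralizerPPrimeCore hle (Subgroup.Normal.isSubnormal
        ((normal_subgroupOf_iff_le_normalizer hle).mpr
          (Coprime.le_normalizer_of_conj_mem fun b hb e he => ?_))) ?_
      · obtain ⟨g, rfl⟩ := QuotientGroup.mk'_surjective _ b
        obtain ⟨d, hd, rfl⟩ := he
        refine ⟨g * d * g⁻¹, ?_, by simp [hq]⟩
        exact hconj g (mem_centralizer_singleton_iff.mp hb) d hd
      · refine Nat.Coprime.coprime_dvd_left (Subgroup.card_map_dvd _ _) ?_
        rw [Nat.card_congr (Subgroup.subgroupOfEquivOfLe hDH).toEquiv]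
        exact centralizerPPrimeCore_coprime x
    have hDb2 : Db ≤ pPrimeCore p _ := hDb1.trans (h L hL H hLH hLn (q xH) hxbar)
    have hLb : IsComponent ((L.subgroupOf H).map q) := by
      refine (component_map_or_eq_bot q (QuotientGroup.mk'_surjective _)
        (component_subgroupOf hL hLH)).resolve_left fun h0 => component_ne_bot hL ?_
      rw [← component_commutator_eq_self hL, commutator_eq_bot_iff_le_centralizer]
      intro l hl
      exact (hq1 ⟨l, hLH hl⟩).mp (Subgroup.mem_bot.mp (h0 ▸ ⟨⟨l, hLH hl⟩, hl, rfl⟩))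
    have hLbp : p ∣ Nat.card ↥((L.subgroupOf H).map q) := by
      let f : L →* ↥H ⧸ (Subgroup.centralizer (L : Set G)).subgroupOf H :=
        q.comp (Subgroup.inclusion hLH)
      have hr : f.range = (L.subgroupOf H).map q := by
        ext y
        constructor
        · rintro ⟨l, rfl⟩
          exact ⟨Subgroup.inclusion hLH l, l.2, rfl⟩
        · rintro ⟨g, hg, rfl⟩
          exact ⟨⟨g, hg⟩, rfl⟩
      rw [← hr, ← Subgroup.index_ker]
      refine (dvd_card_quotient_center_of_isQuasisimple hL.2 (dvd_card_component hO hL)).trans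
        (Subgroup.index_dvd_of_le ?_)
      intro l hl
      exact mem_center_iff.mpr fun b => Subtype.ext
        (mem_centralizer_iff.mp ((hq1 _).mp hl) b b.2)
    have hcommL := commutator_eq_bot_iff_le_centralizer.mp
      (component_commutator_pPrimeCore hLb hLbp)
    rw [Subgroup.le_centralizer_iff]
    intro d hd
    refine mem_centralizer_of_commutator_mem_centralizer (component_commutator_eq_self hL)
      (hDL hd) fun l hl => ?_
    have hc : q ⟨d, hDH hd⟩ * q ⟨l, hLH hl⟩ = q ⟨l, hLH hl⟩ * q ⟨d, hDH hd⟩ :=
      mem_centralizer_iff.mp (hcommL ⟨_, hl, rfl⟩) _ (hDb2 ⟨_, hd, rfl⟩)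
    have : q (⟨d, hDH hd⟩ * ⟨l, hLH hl⟩ * (⟨d, hDH hd⟩ : H)⁻¹ * (⟨l, hLH hl⟩ : H)⁻¹) = 1 := by
      simp only [map_mul, map_inv]
      rw [hc]
      group
    exact (hq1 _).mp this
  have hDF : D ≤ Subgroup.centralizer (generalizedFittingSubgroup G : Set G) := by
    rw [Subgroup.le_centralizer_iff, generalizedFittingSubgroup]
    refine sup_le (layer_le_iff.mpr hcomp) ?_
    rw [fitting_eq_pCore_of_pPrimeCore_eq_bot hO, Subgroup.le_centralizer_iff]
    exact hDU
  set A := Subgroup.centralizer (generalizedFittingSubgroup G : Set G) ⊓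
    generalizedFittingSubgroup G with hA
  haveI : IsMulCommutative A := ⟨⟨fun a b => Subtype.ext
    (mem_centralizer_iff.mp (Subgroup.mem_inf.mp b.2).1 a (Subgroup.mem_inf.mp a.2).2)⟩⟩
  have hAU : A ≤ pCore p G := by
    rw [← fitting_eq_pCore_of_pPrimeCore_eq_bot hO]
    exact Fitting.le_fitting inferInstance inferInstance
  have hDA : D ≤ A := le_inf hDF (hDF.trans centralizer_generalizedFitting_le)
  rw [hO]
  have := Thompson.inf_eq_bot_of_isPGroup_of_coprime (Thompson.isPGroup_pCore (p := p) (G := G))
    (centralizerPPrimeCore_coprime (p := p) x)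
  rw [← this]
  exact le_inf (hDA.trans hAU) le_rfl

end Cfsg.Agent.Components
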