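import Cfsg.Agent.Lib.Components.Basic
import Cfsg.Prelude.Def_Local

/-!
# Components of subgroups, seen inside the ambient group
-/

set_option autoImplicit false

namespace Cfsg.Agent.Components

open Subgroup
open scoped commutatorElement

variable {G : Type*} [Group G]

theorem map_conj_centralizer (g : G) (S : Subgroup G) :
    (Subgroup.centralizer (S : Set G)).map (MulAut.conj g).toMonoidHom =
      Subgroup.centralizer ((S.map (MulAut.conj g).toMonoidHom : Subgroup G) : Set G) := by
  ext x
  constructor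
  · rintro ⟨c, hc, rfl⟩
    rw [mem_centralizer_iff]
    rintro _ ⟨s, hs, rfl⟩
    have := mem_centralizer_iff.mp hc s hs
    simp only [MulEquiv.coe_toMonoidHom, MulAut.conj_apply]
    calc g * s * g⁻¹ * (g * c * g⁻¹) = g * (s * c) * g⁻¹ := by group
      _ = g * (c * s) * g⁻¹ := by rw [this]
      _ = g * c * g⁻¹ * (g * s * g⁻¹) := by group
  · intro hx
    refine ⟨g⁻¹ * x * g, mem_centralizer_iff.mpr fun s hs => ?_, by simp [mul_assoc]⟩
    have := mem_centralizer_iff.mp hx (g * s * g⁻¹) ⟨s, hs, rfl⟩
    calc s * (g⁻¹ * x * g) = g⁻¹ * (g * s * g⁻¹ * x) * g := by group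
      _ = g⁻¹ * (x * (g * s * g⁻¹)) * g := by rw [this]
      _ = g⁻¹ * x * g * s := by group

theorem map_conj_centralizer_singleton (g y : G) :
    (Subgroup.centralizer ({y} : Set G)).map (MulAut.conj g).toMonoidHom =
      Subgroup.centralizer ({g * y * g⁻¹} : Set G) := by
  ext x
  simp only [mem_map, mem_centralizer_singleton_iff, MulEquiv.coe_toMonoidHom, MulAut.conj_apply]
  constructor
  · rintro ⟨c, hc, rfl⟩
    calc g * c * g⁻¹ * (g * y * g⁻¹) = g * (c * y) * g⁻¹ := by group
      _ = g * (y * c) * g⁻¹ := by rw [hc]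
      _ = g * y * g⁻¹ * (g * c * g⁻¹) := by group
  · intro hx
    refine ⟨g⁻¹ * x * g, ?_, by group⟩
    calc g⁻¹ * x * g * y = g⁻¹ * (x * (g * y * g⁻¹)) * g := by group
      _ = g⁻¹ * (g * y * g⁻¹ * x) * g := by rw [hx]
      _ = y * (g⁻¹ * x * g) := by group

theorem isQuasisimple_of_componentIn {L H : Subgroup G} (hLH : L ≤ H)
    (hL : IsComponent (L.subgroupOf H)) : IsQuasisimple L :=
  isQuasisimple_of_mulEquiv (Subgroup.subgroupOfEquivOfLe hLH) hL.2

/-- Components are transported by isomorphisms of the ambient group. -/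
theorem componentIn_map_equiv {G' : Type*} [Group G'] (f : G ≃* G') {L H : Subgroup G}
    (hL : IsComponent (L.subgroupOf H)) :
    IsComponent ((L.map f.toMonoidHom).subgroupOf (H.map f.toMonoidHom)) := by
  have h := component_map_equiv (f.subgroupMap H) hL
  suffices heq : (L.map f.toMonoidHom).subgroupOf (H.map f.toMonoidHom) =
      (L.subgroupOf H).map (f.subgroupMap H).toMonoidHom by
    rw [heq]; exact h
  ext ⟨x, hx⟩
  constructor
  · intro hxL
    obtain ⟨l, hl, hle⟩ : x ∈ L.map f.toMonoidHom := hxL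
    obtain ⟨h', hh', he⟩ := hx
    obtain rfl : l = h' := f.injective (hle.trans he.symm)
    exact ⟨⟨l, hh'⟩, hl, Subtype.ext hle⟩
  · rintro ⟨⟨l, hlH⟩, hl, hle⟩
    show x ∈ L.map f.toMonoidHom
    exact ⟨l, hl, congrArg Subtype.val hle⟩

theorem componentIn_map_conj (g y : G) {L : Subgroup G}
    (hL : IsComponent (L.subgroupOf (Subgroup.centralizer ({y} : Set G)))) :
    IsComponent ((L.map (MulAut.conj g).toMonoidHom).subgroupOf
      (Subgroup.centralizer ({g * y * g⁻¹} : Set G))) := by
  rw [← map_conj_centralizer_singleton]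
  exact componentIn_map_equiv (MulAut.conj g) hL

theorem componentIn_eq_or_commutator_eq_bot {L M H : Subgroup G} (hLH : L ≤ H) (hMH : M ≤ H)
    (hL : IsComponent (L.subgroupOf H)) (hM : IsComponent (M.subgroupOf H)) :
    L = M ∨ ⁅L, M⁆ = ⊥ := by
  rcases component_eq_or_commutator_eq_bot hL hM with h | h
  · left
    have := congrArg (Subgroup.map H.subtype) h
    rwa [Subgroup.map_subgroupOf_eq_of_le hLH, Subgroup.map_subgroupOf_eq_of_le hMH] at this
  · right
    have := congrArg (Subgroup.map H.subtype) h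
    rwa [Subgroup.map_commutator, Subgroup.map_subgroupOf_eq_of_le hLH,
      Subgroup.map_subgroupOf_eq_of_le hMH, Subgroup.map_bot] at this

theorem componentIn_subgroupOf_iff {K H A : Subgroup G} (hHA : H ≤ A) :
    IsComponent ((K.subgroupOf A).subgroupOf (H.subgroupOf A)) ↔ IsComponent (K.subgroupOf H) := by
  let e := Subgroup.subgroupOfEquivOfLe hHA
  have key : ((K.subgroupOf A).subgroupOf (H.subgroupOf A)).map e.toMonoidHom = K.subgroupOf H := by
    ext ⟨x, hx⟩
    constructor
    · rintro ⟨y, hy, hye⟩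
      show x ∈ K
      rw [← show ((e y : H) : G) = x from congrArg Subtype.val hye]
      exact hy
    · intro hxK
      exact ⟨⟨⟨x, hHA hx⟩, hx⟩, hxK, rfl⟩
  constructor
  · intro h
    rw [← key]
    exact component_map_equiv e h
  · intro h
    have h' := component_map_equiv e.symm (key ▸ h)
    rwa [Subgroup.map_map, show e.symm.toMonoidHom.comp e.toMonoidHom = MonoidHom.id _ from
      MonoidHom.ext fun y => e.symm_apply_apply y, Subgroup.map_id] at h'

end Cfsg.Agent.Components
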