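import Cfsg.Agent.Lib.Components.GenFitting
import Cfsg.Agent.Lib.Coprime.Action

/-!
# Layers of local subgroups: the preimage of `E(N / O_{p'}(N))`
-/

set_option autoImplicit false
set_option linter.style.haveILetI false

namespace Cfsg.Agent.Components

open Subgroup
open scoped commutatorElement

/-- The preimage in `H` of `E(H / O_{p'}(H))`. -/
def layerCover (p : ℕ) (H : Type*) [Group H] : Subgroup H :=
  (layer (H ⧸ pPrimeCore p H)).comap (QuotientGroup.mk' (pPrimeCore p H))

/-- The preimage in `N_G(P)` of `E(N_G(P) / O_{p'}(N_G(P)))`, as a subgroup of `G`. -/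
def localLayerCover {G : Type*} [Group G] (p : ℕ) (P : Subgroup G) : Subgroup G :=
  (layerCover p ↥(Subgroup.normalizer (P : Set G))).map (Subgroup.normalizer (P : Set G)).subtype

section LayerCover

variable {p : ℕ} {H : Type*} [Group H]

theorem pPrimeCore_le_layerCover : pPrimeCore p H ≤ layerCover p H := fun x hx => by
  show QuotientGroup.mk' (pPrimeCore p H) x ∈ layer (H ⧸ pPrimeCore p H)
  rw [QuotientGroup.mk'_apply, (QuotientGroup.eq_one_iff x).mpr hx]
  exact one_mem _

theorem layer_le_layerCover : layer H ≤ layerCover p H :=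
  Subgroup.map_le_iff_le_comap.mp (map_layer_le _ (QuotientGroup.mk'_surjective _))

variable [Finite H] [hp : Fact p.Prime]

/-- `E(H / O_{p'}(H))`'s preimage centralizes `O_p(H)`. -/
theorem layerCover_le_centralizer_pCore :
    layerCover p H ≤ Subgroup.centralizer (pCore p H : Set H) := by
  rw [← commutator_eq_bot_iff_le_centralizer, ← le_bot_iff,
    ← Thompson.pCore_inf_pPrimeCore (p := p) (G := H)]
  refine le_inf (Subgroup.commutator_le_right _ _) ?_
  rw [← QuotientGroup.ker_mk' (pPrimeCore p H), ← Subgroup.map_eq_bot_iff, Subgroup.map_commutator,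
    commutator_eq_bot_iff_le_centralizer]
  have h1 : (layerCover p H).map (QuotientGroup.mk' (pPrimeCore p H)) ≤
      layer (H ⧸ pPrimeCore p H) := Subgroup.map_comap_le _ _
  exact h1.trans (layer_le_centralizer_fitting.trans (Subgroup.centralizer_le
    ((Thompson.map_pCore_le_of_surjective _ (QuotientGroup.mk'_surjective _)).trans
      (Fitting.pCore_le_fitting p))))

/-- The preimage of `E(H / O_{p'}(H))` is generated by its `p'`-elements. -/
theorem pResidual_layerCover_eq_top : pResidual p ↥(layerCover p H) = ⊤ := by
  set X := layerCover p H with hX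
  set Q := ↥X ⧸ pResidual p ↥X
  have hsurj : Function.Surjective
      (((QuotientGroup.mk' (pPrimeCore p H)).comp X.subtype).codRestrict
        (layer (H ⧸ pPrimeCore p H)) (fun x => x.2)) := by
    rintro ⟨y, hy⟩
    obtain ⟨x, rfl⟩ := QuotientGroup.mk'_surjective _ y
    exact ⟨⟨x, hy⟩, rfl⟩
  set φ := ((QuotientGroup.mk' (pPrimeCore p H)).comp X.subtype).codRestrict
        (layer (H ⧸ pPrimeCore p H)) (fun x => x.2) with hφ
  have hker : φ.ker ≤ pResidual p ↥X := by
    intro x hx
    refine Thompson.mem_pResidual_of_coprime ?_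
    have hx' : QuotientGroup.mk' (pPrimeCore p H) (x : H) = 1 :=
      congrArg Subtype.val (MonoidHom.mem_ker.mp hx)
    rw [QuotientGroup.mk'_apply, QuotientGroup.eq_one_iff] at hx'
    rw [← Subgroup.orderOf_coe]
    exact Thompson.card_pPrimeCore_coprime.coprime_dvd_left
      (Subgroup.orderOf_dvd_natCard _ hx')
  haveI : Group.IsPerfect ↥(layer (H ⧸ pPrimeCore p H)) := layer_isPerfect
  let ψ := φ.liftOfSurjective hsurj ⟨QuotientGroup.mk' (pResidual p ↥X),
    by rw [QuotientGroup.ker_mk']; exact hker⟩
  have hψ : Function.Surjective ψ := by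
    intro q
    obtain ⟨x, rfl⟩ := QuotientGroup.mk'_surjective _ q
    exact ⟨φ x, MonoidHom.liftOfRightInverse_comp_apply φ _ _ _ x⟩
  haveI : Group.IsPerfect Q := Group.IsPerfect.ofSurjective hψ
  haveI : Group.IsNilpotent Q := (Thompson.isPGroup_quotient_pResidual).isNilpotent
  have : Subsingleton Q := not_nontrivial_iff_subsingleton.mp fun h =>
    Group.IsPerfect.not_isNilpotent Q inferInstance
  exact QuotientGroup.subsingleton_iff.mp this

/-- A subgroup containing all `p'`-elements of the preimage of `E(H / O_{p'}(H))` contains it. -/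
theorem layerCover_le_of_forall_coprime {K : Subgroup H}
    (h : ∀ x ∈ layerCover p H, Nat.Coprime (orderOf x) p → x ∈ K) : layerCover p H ≤ K := by
  intro x hx
  have : (⊤ : Subgroup ↥(layerCover p H)) ≤ K.subgroupOf _ := by
    rw [← pResidual_layerCover_eq_top, pResidual, Subgroup.closure_le]
    intro y hy
    exact h y y.2 (by rw [Subgroup.orderOf_coe]; exact hy)
  exact this (mem_top ⟨x, hx⟩)

end LayerCover

section Local

variable {G : Type*} [Group G] [Finite G] {p : ℕ} [hp : Fact p.Prime] {P : Subgroup G}

omit [Finite G] hp in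
theorem localLayerCover_le_normalizer :
    localLayerCover p P ≤ Subgroup.normalizer (P : Set G) := Subgroup.map_subtype_le _

/-- A `p`-subgroup of `G` inside `N_G(P)` and normalized by it is centralized by the preimage
of `E(N/O_{p'}(N))`. -/
theorem localLayerCover_le_centralizer {Q : Subgroup G} (hQ : IsPGroup p Q)
    (hQN : Q ≤ Subgroup.normalizer (P : Set G))
    (hn : Subgroup.normalizer (P : Set G) ≤ Subgroup.normalizer (Q : Set G)) :
    localLayerCover p P ≤ Subgroup.centralizer (Q : Set G) := by
  have h1 : Q.subgroupOf (Subgroup.normalizer (P : Set G)) ≤ pCore p _ :=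
    Thompson.le_pCore ((normal_subgroupOf_iff_le_normalizer hQN).mpr hn)
      hQ.comap_subtype
  rintro x ⟨y, hy, rfl⟩
  rw [mem_centralizer_iff]
  intro q hq
  exact congrArg Subtype.val
    (mem_centralizer_iff.mp (layerCover_le_centralizer_pCore hy) ⟨q, hQN hq⟩ (h1 hq))

theorem localLayerCover_le_centralizer_self (hP : IsPGroup p P) :
    localLayerCover p P ≤ Subgroup.centralizer (P : Set G) :=
  localLayerCover_le_centralizer hP Subgroup.le_normalizer le_rfl

/-- A subgroup containing the `p'`-elements of the preimage of `E(N/O_{p'}(N))` contains it. -/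
theorem localLayerCover_le_of_forall_coprime {K : Subgroup G}
    (h : ∀ x ∈ localLayerCover p P, Nat.Coprime (orderOf x) p → x ∈ K) :
    localLayerCover p P ≤ K := by
  rw [localLayerCover, map_le_iff_le_comap]
  exact layerCover_le_of_forall_coprime fun x hx hc =>
    h x ⟨x, hx, rfl⟩ (by rw [Subgroup.orderOf_coe]; exact hc)

/-- The preimage in `N_G(P)` of `E(N/O_{p'}(N))` centralizes `O_p(G)`. -/
theorem localLayerCover_le_centralizer_pCore (hP : IsPGroup p P) :
    localLayerCover p P ≤ Subgroup.centralizer (pCore p G : Set G) := by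
  set N := Subgroup.normalizer (P : Set G) with hN
  refine localLayerCover_le_of_forall_coprime fun x hx hc => ?_
  have hQ : Subgroup.zpowers x ≤ localLayerCover p P := by rwa [Subgroup.zpowers_le]
  have hnU : ∀ K : Subgroup G, K ≤ Subgroup.normalizer (pCore p G : Set G) := fun K => by
    rw [normalizer_eq_top_iff.mpr (inferInstance : (pCore p G).Normal)]
    exact le_top
  have hfix : N ⊓ pCore p G ≤ Subgroup.centralizer (Subgroup.zpowers x : Set G) := by
    rw [Subgroup.le_centralizer_iff]
    refine hQ.trans (localLayerCover_le_centralizer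
      (Thompson.isPGroup_pCore.to_le inf_le_right) inf_le_left ?_)
    exact Coprime.le_normalizer_inf Subgroup.le_normalizer (hnU _)
  refine (Coprime.thompson_pxq p P (Subgroup.zpowers x) (pCore p G) hP ?_ Thompson.isPGroup_pCore
    (Subgroup.le_centralizer_iff.mp (hQ.trans (localLayerCover_le_centralizer_self hP)))
    (hnU _) (hnU _) ?_) (Subgroup.mem_zpowers x)
  · rwa [Nat.card_zpowers]
  · refine le_trans ?_ hfix
    exact le_inf (inf_le_right.trans (Subgroup.centralizer_le_normalizer _)) inf_le_left

omit [Finite G] hp in
theorem map_pPrimeCore_le_localLayerCover :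
    (pPrimeCore p ↥(Subgroup.normalizer (P : Set G))).map (Subgroup.normalizer (P : Set G)).subtype
      ≤ localLayerCover p P :=
  Subgroup.map_mono pPrimeCore_le_layerCover

omit [Finite G] hp in
theorem map_layer_le_localLayerCover :
    (layer ↥(Subgroup.normalizer (P : Set G))).map (Subgroup.normalizer (P : Set G)).subtype
      ≤ localLayerCover p P :=
  Subgroup.map_mono layer_le_layerCover

/-- For `P ≤ O_p(G)`, the layers of `N_G(P)` and `G` agree. -/
theorem map_layer_normalizer_eq (hP : P ≤ pCore p G) :
    (layer ↥(Subgroup.normalizer (P : Set G))).map (Subgroup.normalizer (P : Set G)).subtype =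
      layer G := by
  set N := Subgroup.normalizer (P : Set G) with hN
  set C := Subgroup.centralizer (pCore p G : Set G) with hC
  have hCN : C ≤ N := (Subgroup.centralizer_le hP).trans (Subgroup.centralizer_le_normalizer _)
  apply le_antisymm
  · rw [map_le_iff_le_comap, layer_le_iff]
    intro L hL
    rw [← map_le_iff_le_comap]
    have hLC : L.map N.subtype ≤ C :=
      (Subgroup.map_mono (component_le_layer hL)).trans (map_layer_le_localLayerCover.trans
        (localLayerCover_le_centralizer_pCore (Thompson.isPGroup_pCore.to_le hP)))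
    refine component_le_layer ⟨?_, isQuasisimple_of_mulEquiv
      (L.equivMapOfInjective _ N.subtype_injective) hL.2⟩
    refine Subgroup.IsSubnormal.trans hLC ?_ (inferInstance : C.Normal).isSubnormal
    have h := hL.1.comap (Subgroup.inclusion hCN)
    convert h using 1
    ext c
    simp only [Subgroup.mem_subgroupOf, Subgroup.mem_comap, Subgroup.mem_map]
    constructor
    · rintro ⟨y, hy, he⟩
      have hye : y = Subgroup.inclusion hCN c := Subtype.ext he
      exact hye ▸ hy
    · intro hc
      exact ⟨_, hc, rfl⟩
  · rw [layer_le_iff]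
    intro L hL
    have hLN : L ≤ N := ((component_le_layer hL).trans (layer_le_centralizer_fitting.trans
      (Subgroup.centralizer_le (Fitting.pCore_le_fitting p)))).trans hCN
    rw [← map_subgroupOf_eq_of_le hLN]
    exact Subgroup.map_mono (component_le_layer (component_subgroupOf hL hLN))

/-- If `F*(G) = O_p(G)` then `F*(N_G(P)) = O_p(N_G(P))` for `p`-subgroups `P`. -/
theorem generalizedFitting_normalizer_eq (h : generalizedFittingSubgroup G = pCore p G)
    (hP : IsPGroup p P) :
    generalizedFittingSubgroup ↥(Subgroup.normalizer (P : Set G)) =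
      pCore p ↥(Subgroup.normalizer (P : Set G)) := by
  have hX : localLayerCover p P ≤ pCore p G := by
    have h1 := centralizer_generalizedFitting_le (G := G)
    rw [h] at h1
    exact (localLayerCover_le_centralizer_pCore hP).trans h1
  set N := Subgroup.normalizer (P : Set G) with hN
  have hXp : IsPGroup p ↥(layerCover p ↥N) :=
    (Thompson.isPGroup_pCore.to_le hX).of_equiv
      ((layerCover p ↥N).equivMapOfInjective _ N.subtype_injective).symm
  have hO : pPrimeCore p ↥N = ⊥ := by
    have := Thompson.inf_eq_bot_of_isPGroup_of_coprime (hXp.to_le pPrimeCore_le_layerCover)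
      (Thompson.card_pPrimeCore_coprime (p := p) (G := ↥N))
    rwa [inf_idem] at this
  have hE : layer ↥N = ⊥ := layer_eq_bot_iff.mpr fun L hL =>
    component_not_isSolvable hL <| Coprime.isSolvable_of_isNilpotent'
      (hXp.to_le ((component_le_layer hL).trans layer_le_layerCover)).isNilpotent
  rw [generalizedFittingSubgroup, hE, bot_sup_eq, fitting_eq_pCore_of_pPrimeCore_eq_bot hO]

end Local

end Cfsg.Agent.Components
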