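import Cfsg.Agent.Lib.Components.GenFitting

/-!
# `p`-components and the `p`-layer
-/

set_option autoImplicit false
set_option linter.style.haveILetI false

namespace Cfsg.Agent.Components

open Subgroup
open scoped commutatorElement

variable {G : Type*} [Group G]

/-- A subnormal subgroup of index prime to `p` contains every `p`-element. -/
theorem mem_of_isSubnormal_of_coprime_index {p : ℕ} {H : Subgroup G} (hH : H.IsSubnormal)
    (hi : H.index.Coprime p) {g : G} {k : ℕ} (hg : g ^ p ^ k = 1) : g ∈ H := by
  induction hH with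
  | top => exact mem_top g
  | step H K h_le _ hN ih =>
    have hgK : g ∈ K := ih (hi.coprime_dvd_left (Subgroup.index_dvd_of_le h_le))
    have hrel : (H.relIndex K).Coprime p := by
      refine hi.coprime_dvd_left ?_
      rw [← Subgroup.relIndex_mul_index h_le]
      exact dvd_mul_right _ _
    haveI := hN
    have h1 : orderOf (QuotientGroup.mk' (H.subgroupOf K) ⟨g, hgK⟩) ∣ p ^ k := by
      refine orderOf_dvd_of_pow_eq_one ?_
      rw [← map_pow, show (⟨g, hgK⟩ : K) ^ p ^ k = 1 from Subtype.ext (by simpa using hg), map_one]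
    have h2 : orderOf (QuotientGroup.mk' (H.subgroupOf K) ⟨g, hgK⟩) ∣ H.relIndex K :=
      orderOf_dvd_natCard _
    have h3 := Nat.eq_one_of_dvd_coprimes (hrel.pow_right k) h2 h1
    rw [orderOf_eq_one_iff, QuotientGroup.mk'_apply, QuotientGroup.eq_one_iff] at h3
    exact h3

/-- `O^{p'}(M)`: the subgroup generated by the `p`-elements of `M`. -/
def pElementsClosure (p : ℕ) (M : Subgroup G) : Subgroup G :=
  Subgroup.closure {g : G | g ∈ M ∧ ∃ k, g ^ p ^ k = 1}

theorem pElementsClosure_le (p : ℕ) (M : Subgroup G) : pElementsClosure p M ≤ M :=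
  (Subgroup.closure_le M).mpr fun _ h => h.1

theorem normalizer_le_normalizer_pElementsClosure (p : ℕ) (M : Subgroup G) :
    Subgroup.normalizer (M : Set G) ≤ Subgroup.normalizer (pElementsClosure p M : Set G) := by
  have key : ∀ g ∈ Subgroup.normalizer (M : Set G),
      (pElementsClosure p M).map (MulAut.conj g).toMonoidHom ≤ pElementsClosure p M := by
    intro g hg
    rw [pElementsClosure, map_le_iff_le_comap, Subgroup.closure_le]
    rintro x ⟨hx, k, hk⟩
    exact Subgroup.subset_closure ⟨(mem_normalizer_iff.mp hg x).mp hx, k, by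
      simp [conj_pow, hk]⟩
  intro g hg
  rw [mem_normalizer_iff]
  intro x
  refine ⟨fun hx => key g hg ⟨x, hx, rfl⟩, fun hx => ?_⟩
  have := key g⁻¹ (inv_mem hg) ⟨_, hx, rfl⟩
  simpa [mul_assoc] using this

theorem pElementsClosure_normal_subgroupOf (p : ℕ) (M : Subgroup G) :
    ((pElementsClosure p M).subgroupOf M).Normal :=
  (normal_subgroupOf_iff_le_normalizer (pElementsClosure_le p M)).mpr
    (Subgroup.le_normalizer.trans (normalizer_le_normalizer_pElementsClosure p M))

/-- The minimal subnormal cover of a component of `G / O_{p'}(G)`. -/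
def pComponentOf (p : ℕ) (Kb : Subgroup (G ⧸ pPrimeCore p G)) : Subgroup G :=
  pElementsClosure p (Kb.comap (QuotientGroup.mk' (pPrimeCore p G)))

variable [Finite G] {p : ℕ} [hp : Fact p.Prime]

omit [Finite G] hp in
theorem pComponentOf_isSubnormal {Kb : Subgroup (G ⧸ pPrimeCore p G)} (hKb : Kb.IsSubnormal) :
    (pComponentOf p Kb).IsSubnormal :=
  Subgroup.IsSubnormal.step _ _ (pElementsClosure_le p _) (hKb.comap _)
    (pElementsClosure_normal_subgroupOf p _)

omit hp in
/-- A subnormal subgroup covering `Kb` contains the canonical cover. -/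
theorem pComponentOf_le {Kb : Subgroup (G ⧸ pPrimeCore p G)} {H : Subgroup G}
    (hH : H.IsSubnormal) (hmap : H.map (QuotientGroup.mk' (pPrimeCore p G)) = Kb) :
    pComponentOf p Kb ≤ H := by
  set π := QuotientGroup.mk' (pPrimeCore p G) with hπ
  set M := Kb.comap π with hM
  have hHM : H ≤ M := map_le_iff_le_comap.mp hmap.le
  have h1 : Nat.card M = Nat.card Kb * Nat.card (pPrimeCore p G) :=
    Thompson.card_comap_quotient _ _
  have h2 : Nat.card Kb * Nat.card (π.comp H.subtype).ker = Nat.card H := by
    rw [← Subgroup.card_mul_index (π.comp H.subtype).ker, Subgroup.index_ker, mul_comm]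
    congr 2
    rw [MonoidHom.range_comp, Subgroup.range_subtype, hmap]
  have h3 : (H.subgroupOf M).index * Nat.card (π.comp H.subtype).ker =
      Nat.card (pPrimeCore p G) := by
    have h4 : Nat.card H * (H.subgroupOf M).index = Nat.card M := by
      rw [← Nat.card_congr (Subgroup.subgroupOfEquivOfLe hHM).toEquiv, Subgroup.card_mul_index]
    rw [h1, ← h2, mul_assoc, mul_comm (Nat.card (π.comp H.subtype).ker)] at h4
    exact Nat.eq_of_mul_eq_mul_left Nat.card_pos h4
  have hcop : (H.subgroupOf M).index.Coprime p :=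
    Thompson.card_pPrimeCore_coprime.coprime_dvd_left ⟨_, h3.symm⟩
  rw [pComponentOf, pElementsClosure, Subgroup.closure_le]
  rintro g ⟨hg, k, hk⟩
  exact mem_subgroupOf.mp (mem_of_isSubnormal_of_coprime_index hH.subgroupOf hcop
    (g := ⟨g, hg⟩) (k := k) (Subtype.ext (by simpa using hk)))

/-- The canonical cover maps onto the component. -/
theorem map_pComponentOf {Kb : Subgroup (G ⧸ pPrimeCore p G)} (hKb : IsComponent Kb) :
    (pComponentOf p Kb).map (QuotientGroup.mk' (pPrimeCore p G)) = Kb := by
  set π := QuotientGroup.mk' (pPrimeCore p G) with hπ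
  set M := Kb.comap π with hM
  set T := (pComponentOf p Kb).map π with hT
  have hTK : T ≤ Kb := map_le_iff_le_comap.mpr (pElementsClosure_le p M)
  have hTn : Kb ≤ Subgroup.normalizer (T : Set _) := by
    rw [← map_comap_eq_self_of_surjective (QuotientGroup.mk'_surjective _) Kb]
    exact (Subgroup.map_mono (Subgroup.le_normalizer.trans
      (normalizer_le_normalizer_pElementsClosure p M))).trans (le_normalizer_map _)
  haveI : (T.subgroupOf Kb).Normal := (normal_subgroupOf_iff_le_normalizer hTK).mpr hTn
  rcases normal_eq_top_or_le_center hKb.2 (T.subgroupOf Kb) with h | h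
  · exact le_antisymm hTK (subgroupOf_eq_top.mp h)
  · exfalso
    have hpK : p ∣ Nat.card Kb :=
      dvd_card_component Thompson.pPrimeCore_quotient_pPrimeCore hKb
    obtain ⟨b, hb⟩ := exists_prime_orderOf_dvd_card' p
      (dvd_card_quotient_center_of_isQuasisimple hKb.2 hpK)
    obtain ⟨x, rfl⟩ := QuotientGroup.mk'_surjective _ b
    obtain ⟨w, hw⟩ := QuotientGroup.mk'_surjective (pPrimeCore p G) x.1
    have hwM : w ∈ M := by
      show π w ∈ Kb
      rw [hπ, hw]
      exact x.2
    obtain ⟨k, m, hm, hkm⟩ :=
      Nat.exists_eq_pow_mul_and_not_dvd (orderOf_pos w).ne' p hp.out.ne_one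
    have hmem : w ^ m ∈ pComponentOf p Kb := Subgroup.subset_closure
      ⟨pow_mem hwM m, k, by rw [← pow_mul, mul_comm, ← hkm, pow_orderOf_eq_one]⟩
    have hxm : x ^ m ∈ center Kb := h (mem_subgroupOf.mpr ⟨_, hmem, by
      rw [map_pow, hπ, hw]; simp⟩)
    rw [← QuotientGroup.eq_one_iff, ← QuotientGroup.mk'_apply, map_pow] at hxm
    exact hm (hb ▸ orderOf_dvd_of_pow_eq_one hxm)

theorem isPComponent_pComponentOf {Kb : Subgroup (G ⧸ pPrimeCore p G)} (hKb : IsComponent Kb) :
    IsPComponent p (pComponentOf p Kb) := by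
  refine ⟨pComponentOf_isSubnormal hKb.1, ?_, fun H hH hle hmap => le_antisymm hle ?_⟩
  · rwa [map_pComponentOf hKb]
  · exact pComponentOf_le hH (hmap.trans (map_pComponentOf hKb))

/-- A `p`-component is the canonical cover of its image. -/
theorem isPComponent_eq {K : Subgroup G} (hK : IsPComponent p K) :
    K = pComponentOf p (K.map (QuotientGroup.mk' (pPrimeCore p G))) :=
  (hK.2.2 _ (pComponentOf_isSubnormal hK.2.1.1) (pComponentOf_le hK.1 rfl)
    (map_pComponentOf hK.2.1)).symm

theorem existsUnique_isPComponent {Kb : Subgroup (G ⧸ pPrimeCore p G)} (hKb : IsComponent Kb) :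
    ∃! K : Subgroup G, IsPComponent p K ∧ K.map (QuotientGroup.mk' (pPrimeCore p G)) = Kb :=
  ⟨pComponentOf p Kb, ⟨isPComponent_pComponentOf hKb, map_pComponentOf hKb⟩,
    fun K hK => by rw [isPComponent_eq hK.1, hK.2]⟩

theorem isPComponent_eq_of_map_eq {K L : Subgroup G} (hK : IsPComponent p K)
    (hL : IsPComponent p L)
    (h : K.map (QuotientGroup.mk' (pPrimeCore p G)) = L.map (QuotientGroup.mk' (pPrimeCore p G))) :
    K = L := by rw [isPComponent_eq hK, isPComponent_eq hL, h]

omit [Finite G] hp in
theorem pComponent_le_pLayer {K : Subgroup G} (hK : IsPComponent p K) : K ≤ pLayer p G :=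
  le_sSup hK

theorem map_pLayer :
    (pLayer p G).map (QuotientGroup.mk' (pPrimeCore p G)) = layer (G ⧸ pPrimeCore p G) := by
  apply le_antisymm
  · rw [pLayer, map_le_iff_le_comap]
    refine sSup_le fun K hK => ?_
    rw [← map_le_iff_le_comap]
    exact component_le_layer hK.2.1
  · rw [layer_le_iff]
    intro Kb hKb
    rw [← map_pComponentOf hKb]
    exact Subgroup.map_mono (pComponent_le_pLayer (isPComponent_pComponentOf hKb))

/-- A normal subgroup of index prime to `p` of a `p`-component is everything. -/
theorem pComponent_eq_top_of_coprime_index {K : Subgroup G} (hK : IsPComponent p K)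
    (N : Subgroup K) [hN : N.Normal] (hidx : N.index.Coprime p) : N = ⊤ := by
  have key : ∀ g : G, (∃ k, g ^ p ^ k = 1) → ∀ hg : g ∈ K, (⟨g, hg⟩ : K) ∈ N :=
    fun g ⟨k, hk⟩ hg => mem_of_isSubnormal_of_coprime_index hN.isSubnormal hidx (k := k)
      (Subtype.ext (by simpa using hk))
  have h : K ≤ N.map K.subtype := by
    refine (isPComponent_eq hK).le.trans ((Subgroup.closure_le _).mpr ?_)
    rintro g ⟨hgM, hgk⟩
    have hgK : g ∈ K := (isPComponent_eq hK).ge (Subgroup.subset_closure ⟨hgM, hgk⟩)
    exact ⟨⟨g, hgK⟩, key g hgk hgK, rfl⟩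
  rw [eq_top_iff]
  rintro x -
  obtain ⟨y, hy, he⟩ := h x.2
  exact Subtype.ext he ▸ hy

theorem pComponent_le_normalizer {K L : Subgroup G} (hK : IsPComponent p K)
    (hL : IsPComponent p L) : L ≤ Subgroup.normalizer (K : Set G) := by
  rw [isPComponent_eq hK]
  refine le_trans ?_ (normalizer_le_normalizer_pElementsClosure p _)
  refine le_trans ?_ (le_normalizer_comap _)
  rw [← map_le_iff_le_comap]
  exact (component_le_layer hL.2.1).trans (layer_le_normalizer hK.2.1)

theorem pLayer_le_normalizer {K : Subgroup G} (hK : IsPComponent p K) :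
    pLayer p G ≤ Subgroup.normalizer (K : Set G) :=
  sSup_le fun _ hL => pComponent_le_normalizer hK hL

theorem pComponent_subgroupOf_pLayer_normal {K : Subgroup G} (hK : IsPComponent p K) :
    (K.subgroupOf (pLayer p G)).Normal :=
  (normal_subgroupOf_iff_le_normalizer (pComponent_le_pLayer hK)).mpr (pLayer_le_normalizer hK)

omit hp in
theorem pPrimeCore_subgroupOf_eq {K : Subgroup G} (hK : K.IsSubnormal) :
    (pPrimeCore p G).subgroupOf K = pPrimeCore p K :=
  le_antisymm (Thompson.subgroupOf_pPrimeCore_le K)
    (map_le_iff_le_comap.mp (Thompson.map_pPrimeCore_isSubnormal_le hK))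

omit hp in
theorem map_pPrimeCore_subtype_eq {K : Subgroup G} (hK : K.IsSubnormal) :
    (pPrimeCore p K).map K.subtype = K ⊓ pPrimeCore p G := by
  rw [← pPrimeCore_subgroupOf_eq hK, subgroupOf_map_subtype, inf_comm]

omit hp in
theorem isQuasisimple_quotient_pPrimeCore {K : Subgroup G} (hK : IsPComponent p K) :
    IsQuasisimple (K ⧸ pPrimeCore p K) := by
  set f := (QuotientGroup.mk' (pPrimeCore p G)).subgroupMap K with hf
  have hker : f.ker = pPrimeCore p K := by
    rw [← pPrimeCore_subgroupOf_eq hK.1]
    ext x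
    rw [MonoidHom.mem_ker, mem_subgroupOf, ← QuotientGroup.eq_one_iff]
    exact ⟨fun h => congrArg Subtype.val h, fun h => Subtype.ext h⟩
  exact isQuasisimple_of_mulEquiv
    ((QuotientGroup.quotientKerEquivOfSurjective f (MonoidHom.subgroupMap_surjective _ K)).symm.trans
      (QuotientGroup.quotientMulEquivOfEq hker)) hK.2.1.2

omit [Finite G] hp in
/-- A `p`-component is perfect. -/
theorem pComponent_commutator_eq_self {K : Subgroup G} (hK : IsPComponent p K) : ⁅K, K⁆ = K := by
  refine hK.2.2 _ ?_ (Subgroup.commutator_le_self K) ?_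
  · exact Subgroup.IsSubnormal.step _ K (Subgroup.commutator_le_self K) hK.1 (by
      rw [← map_subtype_commutator]
      rw [Subgroup.subgroupOf, comap_map_eq_self_of_injective K.subtype_injective]
      infer_instance)
  · rw [map_commutator, component_commutator_eq_self hK.2.1]

theorem isQuasisimple_pComponent_iff {K : Subgroup G} (hK : IsPComponent p K) :
    IsQuasisimple K ↔ ⁅K, (pPrimeCore p K).map K.subtype⁆ = ⊥ := by
  constructor
  · intro hq
    rcases normal_eq_top_or_le_center hq (pPrimeCore p K) with h | h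
    · exfalso
      have hq' := isQuasisimple_quotient_pPrimeCore hK
      haveI := nontrivial_of_isQuasisimple hq'
      exact not_subsingleton _ (QuotientGroup.subsingleton_iff.mpr h)
    · rw [commutator_eq_bot_iff_le_centralizer]
      intro x hx
      rw [mem_centralizer_iff]
      rintro _ ⟨z, hz, rfl⟩
      exact (congrArg Subtype.val (mem_center_iff.mp (h hz) ⟨x, hx⟩)).symm
  · intro hcomm
    haveI : Group.IsPerfect K := Subgroup.isPerfect_iff.mpr (pComponent_commutator_eq_self hK)
    haveI : Nontrivial K := (Subgroup.nontrivial_iff_ne_bot K).mpr fun h =>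
      component_ne_bot hK.2.1 (by rw [h, Subgroup.map_bot])
    refine isQuasisimple_of_forall_normal fun N hN => ?_
    set π := QuotientGroup.mk' (pPrimeCore p G) with hπ
    set f := π.subgroupMap K with hf
    haveI : (N.map f).Normal := hN.map f (MonoidHom.subgroupMap_surjective π K)
    rcases normal_eq_top_or_le_center hK.2.1.2 (N.map f) with h | h
    · left
      have hNK : N.map K.subtype = K := hK.2.2 _ (hN.isSubnormal.trans' hK.1) (map_subtype_le _) (by
        have := congrArg (Subgroup.map (K.map π).subtype) h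
        rw [Subgroup.map_map, ← MonoidHom.range_eq_map, range_subtype] at this
        rw [Subgroup.map_map]
        exact this)
      refine map_injective K.subtype_injective ?_
      rw [hNK, ← MonoidHom.range_eq_map, range_subtype]
    · right
      set NG := N.map K.subtype with hNG
      have h1 : ⁅NG, K⁆ ≤ (pPrimeCore p K).map K.subtype := by
        rw [map_pPrimeCore_subtype_eq hK.1]
        refine le_inf ((commutator_mono (map_subtype_le _) le_rfl).trans
          (Subgroup.commutator_le_self K)) (commutator_le.mpr fun a ha b hb => ?_)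
        obtain ⟨n, hn, rfl⟩ := ha
        rw [← QuotientGroup.eq_one_iff, ← QuotientGroup.mk'_apply, ← hπ,
          map_commutatorElement, commutatorElement_eq_one_iff_mul_comm]
        exact (congrArg Subtype.val
          (mem_center_iff.mp (h ⟨n, hn, rfl⟩) ⟨π b, ⟨b, hb, rfl⟩⟩)).symm
      have h2 : ⁅⁅NG, K⁆, K⁆ = ⊥ := by
        rw [eq_bot_iff, ← hcomm, commutator_comm K]
        exact commutator_mono h1 le_rfl
      have h3 := commutator_eq_bot_iff_le_centralizer.mp
        (commutator_eq_bot_of_perfect (pComponent_commutator_eq_self hK) h2)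
      intro n hn
      exact mem_center_iff.mpr fun g => Subtype.ext
        (mem_centralizer_iff.mp (h3 g.2) _ ⟨n, hn, rfl⟩).symm

/-- `E(G)` covers `E(G/O_{p'}(G))` iff every `p`-component is a component. -/
theorem map_layer_eq_iff_pLayer_le :
    (layer G).map (QuotientGroup.mk' (pPrimeCore p G)) = layer (G ⧸ pPrimeCore p G) ↔
      pLayer p G ≤ layer G := by
  set π := QuotientGroup.mk' (pPrimeCore p G) with hπ
  have hπs : Function.Surjective π := QuotientGroup.mk'_surjective _
  constructor
  · intro h
    refine sSup_le fun K hK => ?_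
    set T := {M : Subgroup (G ⧸ pPrimeCore p G) | IsComponent M ∧
      ∃ L : Subgroup G, IsComponent L ∧ L.map π = M} with hT
    have hle : K.map π ≤ sSup T := by
      refine ((component_le_layer hK.2.1).trans h.ge).trans ?_
      rw [map_le_iff_le_comap, layer_le_iff]
      intro L hL
      rw [← map_le_iff_le_comap]
      rcases component_map_or_eq_bot π hπs hL with h0 | h0
      · rw [h0]; exact bot_le
      · exact le_sSup ⟨h0, L, hL, rfl⟩
    obtain ⟨-, L, hL, hLK⟩ := component_mem_of_le_sSup hK.2.1 (fun M hM => hM.1) hle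
    exact (isPComponent_eq hK).le.trans
      ((pComponentOf_le hL.1 hLK).trans (component_le_layer hL))
  · intro h
    refine le_antisymm (map_layer_le π hπs) ?_
    rw [← map_pLayer]
    exact Subgroup.map_mono h

theorem pComponent_commutator_le {K L : Subgroup G} (hK : IsPComponent p K)
    (hL : IsPComponent p L) (hne : K ≠ L) :
    ⁅K, L⁆ ≤ (pPrimeCore p K).map K.subtype ⊓ (pPrimeCore p L).map L.subtype := by
  have hR : ⁅K, L⁆ ≤ pPrimeCore p G := by
    rw [← QuotientGroup.ker_mk' (pPrimeCore p G), ← Subgroup.map_eq_bot_iff, map_commutator]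
    exact (component_eq_or_commutator_eq_bot hK.2.1 hL.2.1).resolve_left
      fun h => hne (isPComponent_eq_of_map_eq hK hL h)
  rw [map_pPrimeCore_subtype_eq hK.1, map_pPrimeCore_subtype_eq hL.1]
  refine le_inf (le_inf ?_ hR) (le_inf ?_ hR)
  · exact le_normalizer_iff_commutator_le_left.mp (pComponent_le_normalizer hK hL)
  · rw [commutator_comm]
    exact le_normalizer_iff_commutator_le_left.mp (pComponent_le_normalizer hL hK)

theorem pComponent_commutator_eq_bot_of_isQuasisimple {K L : Subgroup G} (hK : IsPComponent p K)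
    (hL : IsPComponent p L) (hne : K ≠ L) (hq : IsQuasisimple K) : ⁅K, L⁆ = ⊥ := by
  refine commutator_eq_bot_of_perfect (pComponent_commutator_eq_self hK) ?_
  rw [eq_bot_iff, ← (isQuasisimple_pComponent_iff hK).mp hq, commutator_comm L K,
    commutator_comm K ((pPrimeCore p K).map K.subtype)]
  exact commutator_mono ((pComponent_commutator_le hK hL hne).trans inf_le_left) le_rfl

end Cfsg.Agent.Components
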