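import Cfsg.Prelude.Def_KGroupFacts
import Cfsg.Agent.Lib.Components.Local
import Cfsg.Agent.Lib.Components.PermuteComponents
import Cfsg.Agent.Lib.Components.PComponents
import Cfsg.Agent.Lib.Thompson.PSolvable

/-!
# Balance of the `p`-layer

If every perfect subgroup of the preimage of `E(N/O_{p'}(N))` induces inner automorphisms on the
components of `X / O_{p'}(X)`, then `L_{p'}(N_X(R)) ≤ L_{p'}(X)` for `p`-subgroups `R`.
-/

set_option autoImplicit false
set_option linter.style.haveILetI false

namespace Cfsg.Agent.Components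

open Subgroup
open scoped commutatorElement

variable {G : Type*} [Group G]

/-- A perfect `p`-subgroup of a finite group is trivial. -/
theorem eq_bot_of_perfect_isPGroup [Finite G] {p : ℕ} [Fact p.Prime] {H : Subgroup G}
    (hH : ⁅H, H⁆ = H) (hp : IsPGroup p H) : H = ⊥ := by
  haveI : Group.IsPerfect H := Subgroup.isPerfect_iff.mpr hH
  haveI : Group.IsNilpotent H := hp.isNilpotent
  by_contra hne
  haveI : Nontrivial H := (Subgroup.nontrivial_iff_ne_bot H).mpr hne
  exact Group.IsPerfect.not_isNilpotent H inferInstance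

/-- A perfect subgroup maps trivially into a solvable group. -/
theorem map_eq_one_of_perfect_of_isSolvable {S : Type*} [Group S] (hS : Group.IsSolvable S)
    {H : Type*} [Group H] (hH : Group.IsPerfect H) (f : H →* S) (h : H) : f h = 1 := by
  obtain ⟨n, hn⟩ := hS.solvable
  have key : ∀ k, (⊤ : Subgroup H).map f ≤ derivedSeries S k := by
    intro k
    induction k with
    | zero => exact le_top
    | succ k ih =>
      rw [← hH.commutator_eq_top, _root_.commutator_def, map_commutator, derivedSeries_succ]
      exact commutator_mono ih ih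
  exact Subgroup.mem_bot.mp (hn ▸ key n ⟨h, mem_top h, rfl⟩)

/-- The automorphism induced on the central quotient. -/
def centerQuotientAut (L : Type*) [Group L] : MulAut L →* MulAut (L ⧸ center L) where
  toFun e := QuotientGroup.congr _ _ e (characteristic_iff_map_eq.mp inferInstance e)
  map_one' := by
    ext x
    induction x using QuotientGroup.induction_on with
    | H z => rfl
  map_mul' a b := by
    ext x
    induction x using QuotientGroup.induction_on with
    | H z => rfl

/-- The action of a subgroup normalizing `L` on `L / Z(L)`. -/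
def quotientCenterAut {L H : Subgroup G} (hHL : H ≤ Subgroup.normalizer (L : Set G)) :
    H →* MulAut (↥L ⧸ center ↥L) :=
  (centerQuotientAut ↥L).comp (L.normalizerMonoidHom.comp (Subgroup.inclusion hHL))

/-- A perfect group normalizing a perfect subgroup `L` induces inner automorphisms on it, provided
that the outer automorphism group of `L / Z(L)` is solvable. -/
theorem le_sup_centralizer_of_isSolvable_out {L H : Subgroup G} (hL : ⁅L, L⁆ = L)
    (hS : Group.IsSolvable (Out (↥L ⧸ center ↥L))) (hH : ⁅H, H⁆ = H)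
    (hHL : H ≤ Subgroup.normalizer (L : Set G)) : H ≤ L ⊔ Subgroup.centralizer (L : Set G) := by
  intro h hh
  set φ := quotientCenterAut hHL
  have h1 : φ ⟨h, hh⟩ ∈ Inn (↥L ⧸ center ↥L) :=
    (QuotientGroup.eq_one_iff (φ ⟨h, hh⟩)).mp (map_eq_one_of_perfect_of_isSolvable hS
      (Subgroup.isPerfect_iff.mpr hH) ((QuotientGroup.mk' (Inn (↥L ⧸ center ↥L))).comp φ) ⟨h, hh⟩)
  obtain ⟨q, hq⟩ := h1
  obtain ⟨l, rfl⟩ := QuotientGroup.mk'_surjective (center ↥L) q
  have hc : (l : G)⁻¹ * h ∈ Subgroup.centralizer (L : Set G) := by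
    refine mem_centralizer_of_commutator_mem_centralizer hL
      (mul_mem (Subgroup.le_normalizer (inv_mem l.2)) (hHL hh)) fun m hm => ?_
    have e := DFunLike.congr_fun hq (QuotientGroup.mk' (center ↥L) ⟨m, hm⟩)
    let m' : L := ⟨h * m * h⁻¹, (mem_normalizer_iff.mp (hHL hh) m).mp hm⟩
    have e' : QuotientGroup.mk' (center ↥L) (l * ⟨m, hm⟩ * l⁻¹) =
        QuotientGroup.mk' (center ↥L) m' := by
      simp only [map_mul, map_inv]
      exact e
    have hz : l⁻¹ * m' * l * (⟨m, hm⟩ : L)⁻¹ ∈ center ↥L := by
      rw [← QuotientGroup.eq_one_iff, ← QuotientGroup.mk'_apply]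
      simp only [map_mul, map_inv, ← e']
      group
    refine mem_centralizer_iff.mpr fun a ha => ?_
    have h2 := congrArg Subtype.val (mem_center_iff.mp hz ⟨a, ha⟩)
    simpa [m', mul_assoc] using h2
  simpa using Subgroup.mul_mem_sup l.2 hc

variable [Finite G] {p : ℕ} [hp : Fact p.Prime]

/-- If a perfect subgroup of the preimage of `E(N_G(P)/O_{p'})` induces inner automorphisms on
each component, and `O_{p'}(G) = 1`, then it lies in the layer. -/
theorem le_layer_of_le_sup_centralizer (hO : pPrimeCore p G = ⊥) {P H : Subgroup G}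
    (hP : IsPGroup p P) (hH : ⁅H, H⁆ = H) (hHX : H ≤ localLayerCover p P)
    (hinn : ∀ L, IsComponent L → H ≤ L ⊔ Subgroup.centralizer (L : Set G)) : H ≤ layer G := by
  classical
  have hfin : {L : Subgroup G | IsComponent L}.Finite := Set.toFinite _
  have step : ∀ T : Finset (Subgroup G), (∀ L ∈ T, IsComponent L) → ∀ h ∈ H,
      ∃ e ∈ layer G, ∀ L ∈ T, e⁻¹ * h ∈ Subgroup.centralizer (L : Set G) := by
    intro T
    induction T using Finset.induction with
    | empty => exact fun _ h _ => ⟨1, one_mem _, by simp⟩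
    | @insert L T hLT ih =>
      intro hT h hh
      obtain ⟨e, he, hec⟩ := ih (fun M hM => hT M (Finset.mem_insert_of_mem hM)) h hh
      have hL := hT L (Finset.mem_insert_self _ _)
      have hElc : layer G ≤ L ⊔ Subgroup.centralizer (L : Set G) := by
        rw [layer_le_iff]
        intro M hM
        rcases eq_or_ne M L with rfl | hne
        · exact le_sup_left
        · exact (component_le_centralizer hM hL hne).trans le_sup_right
      have hmem : e⁻¹ * h ∈ ((L ⊔ Subgroup.centralizer (L : Set G) : Subgroup G) : Set G) :=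
        mul_mem (inv_mem (hElc he)) (hinn L hL hh)
      rw [coe_mul_of_right_le_normalizer_left L _
        (Subgroup.centralizer_le_normalizer _)] at hmem
      obtain ⟨l, hl, c, hc, hlc⟩ := hmem
      simp only at hlc
      have he' : (e * l)⁻¹ * h = c := by rw [mul_inv_rev, mul_assoc, ← hlc]; group
      refine ⟨e * l, mul_mem he (component_le_layer hL hl), fun M hM => ?_⟩
      rw [he']
      rcases Finset.mem_insert.mp hM with rfl | hM
      · exact hc
      · have hne : L ≠ M := fun h => hLT (h ▸ hM)
        have h1 : l ∈ Subgroup.centralizer (M : Set G) :=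
          component_le_centralizer hL (hT M (Finset.mem_insert_of_mem hM)) hne hl
        have h2 := hec M hM
        rw [← hlc] at h2
        exact (mul_mem_cancel_left h1).mp h2
  set U := pCore p G with hU
  have hEU : layer G ≤ Subgroup.centralizer (U : Set G) :=
    layer_le_centralizer_fitting.trans (Subgroup.centralizer_le (Fitting.pCore_le_fitting p))
  have hle : H ≤ layer G ⊔ U := by
    intro h hh
    obtain ⟨e, he, hec⟩ := step hfin.toFinset (fun L hL => hfin.mem_toFinset.mp hL) h hh
    have hcE : e⁻¹ * h ∈ Subgroup.centralizer (layer G : Set G) := by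
      have h1 : layer G ≤ Subgroup.centralizer ({e⁻¹ * h} : Set G) := by
        rw [layer_le_iff]
        intro L hL l hl
        rw [mem_centralizer_singleton_iff]
        exact mem_centralizer_iff.mp (hec L (hfin.mem_toFinset.mpr hL)) l hl
      exact mem_centralizer_iff.mpr fun x hx => mem_centralizer_singleton_iff.mp (h1 hx)
    have hcU : e⁻¹ * h ∈ Subgroup.centralizer (U : Set G) :=
      mul_mem (inv_mem (hEU he)) (localLayerCover_le_centralizer_pCore hP (hHX hh))
    have hcF : e⁻¹ * h ∈ Subgroup.centralizer (generalizedFittingSubgroup G : Set G) := by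
      have h1 : generalizedFittingSubgroup G ≤ Subgroup.centralizer ({e⁻¹ * h} : Set G) := by
        rw [generalizedFittingSubgroup, fitting_eq_pCore_of_pPrimeCore_eq_bot hO]
        refine sup_le ?_ ?_
        · exact fun x hx => mem_centralizer_singleton_iff.mpr (mem_centralizer_iff.mp hcE x hx)
        · exact fun x hx => mem_centralizer_singleton_iff.mpr (mem_centralizer_iff.mp hcU x hx)
      exact mem_centralizer_iff.mpr fun x hx => mem_centralizer_singleton_iff.mp (h1 hx)
    have h2 := centralizer_generalizedFitting_le hcF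
    rw [generalizedFittingSubgroup, fitting_eq_pCore_of_pPrimeCore_eq_bot hO] at h2
    simpa using mul_mem (Subgroup.mem_sup_left (T := U) he) h2
  set q := QuotientGroup.mk' (layer G) with hq
  have hbot : H.map q = ⊥ := by
    refine eq_bot_of_perfect_isPGroup (p := p) (by rw [← map_commutator, hH]) ?_
    refine IsPGroup.to_le ((Thompson.isPGroup_pCore (p := p) (G := G)).map q) ?_
    refine (Subgroup.map_mono hle).trans ?_
    rw [Subgroup.map_sup, hq, QuotientGroup.map_mk'_self, bot_sup_eq]
  rwa [Subgroup.map_eq_bot_iff, hq, QuotientGroup.ker_mk'] at hbot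

omit [Finite G] hp in
/-- An epimorphism maps the preimage of `E(H/O_{p'}(H))` into that of the image. -/
theorem map_layerCover_le {H H' : Type*} [Group H] [Group H'] [Finite H] (f : H →* H')
    (hf : Function.Surjective f) : (layerCover p H).map f ≤ layerCover p H' := by
  have hle : pPrimeCore p H ≤ (pPrimeCore p H').comap f :=
    Subgroup.map_le_iff_le_comap.mp (Thompson.map_pPrimeCore_le_of_surjective f hf)
  set g := QuotientGroup.map (pPrimeCore p H) (pPrimeCore p H') f hle with hg
  have hgs : Function.Surjective g := by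
    intro y
    obtain ⟨y, rfl⟩ := QuotientGroup.mk'_surjective _ y
    obtain ⟨x, rfl⟩ := hf y
    exact ⟨QuotientGroup.mk' _ x, rfl⟩
  rintro _ ⟨x, hx, rfl⟩
  exact map_layer_le g hgs ⟨_, hx, rfl⟩

omit hp in
/-- Normalizers of `p`-subgroups cover the normalizers in `G / N` for `p'`-subgroups `N`. -/
theorem exists_mem_normalizer_of_mem_normalizer_map [Fact p.Prime] (N : Subgroup G) [N.Normal]
    (hN : (Nat.card N).Coprime p) {R : Subgroup G} (hR : IsPGroup p R) {g : G}
    (hg : QuotientGroup.mk' N g ∈ Subgroup.normalizer (R.map (QuotientGroup.mk' N) : Set (G ⧸ N))) :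
    ∃ n ∈ N, n * g ∈ Subgroup.normalizer (R : Set G) := by
  set A := R.map (MulAut.conj g).toMonoidHom with hA
  have hcardA : Nat.card A = Nat.card R :=
    (Nat.card_congr (Subgroup.equivMapOfInjective _ _ (MulAut.conj g).injective).toEquiv).symm
  have hnorm : ∀ K : Subgroup G, K ≤ Subgroup.normalizer (N : Set G) := fun K => by
    rw [normalizer_eq_top_iff.mpr (inferInstance : N.Normal)]
    exact le_top
  have hle : A ≤ N ⊔ R := by
    rintro _ ⟨r, hr, rfl⟩
    have h1 := (mem_normalizer_iff.mp hg _).mp (Subgroup.mem_map_of_mem _ hr)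
    rw [← map_inv, ← map_mul, ← map_mul] at h1
    rw [sup_comm, ← QuotientGroup.ker_mk' N, ← comap_map_eq]
    exact h1
  have hpA : IsPGroup p A := hR.map _
  obtain ⟨k, hk⟩ := IsPGroup.iff_card.mp hpA
  obtain ⟨n, hn, hnA⟩ := Coprime.exists_conj_le_of_le_sup A N R (hnorm A) (hnorm R)
    (hk ▸ (hN.pow_right k).symm)
    (Or.inl (Coprime.isSolvable_of_isNilpotent' hpA.isNilpotent)) hle
  refine ⟨n, hn, ?_⟩
  have hle2 : R.map (MulAut.conj (n * g)).toMonoidHom ≤ R := by
    rintro _ ⟨r, hr, rfl⟩
    simpa [mul_assoc] using hnA _ ⟨r, hr, rfl⟩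
  rw [← map_conj_eq_iff_mem_normalizer]
  exact Subgroup.eq_of_le_of_card_ge hle2
    (Nat.card_congr (Subgroup.equivMapOfInjective _ _ (MulAut.conj _).injective).toEquiv).le

/-- The preimage of `E(N/O_{p'}(N))` maps into that of the local subgroup of `G/O_{p'}(G)`. -/
theorem map_localLayerCover_le {R : Subgroup G} (hR : IsPGroup p R) :
    (localLayerCover p R).map (QuotientGroup.mk' (pPrimeCore p G)) ≤
      localLayerCover p (R.map (QuotientGroup.mk' (pPrimeCore p G))) := by
  set π := QuotientGroup.mk' (pPrimeCore p G) with hπ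
  set N := Subgroup.normalizer (R : Set G) with hN
  set N' := Subgroup.normalizer (R.map π : Set (G ⧸ pPrimeCore p G)) with hN'
  have hmem : ∀ x : N, π x ∈ N' := fun x => le_normalizer_map π ⟨x, x.2, rfl⟩
  let f : N →* N' := (π.comp N.subtype).codRestrict N' hmem
  have hf : Function.Surjective f := by
    rintro ⟨y, hy⟩
    obtain ⟨g, rfl⟩ := QuotientGroup.mk'_surjective _ y
    obtain ⟨n, hn, hng⟩ := exists_mem_normalizer_of_mem_normalizer_map _
      Thompson.card_pPrimeCore_coprime hR hy
    refine ⟨⟨n * g, hng⟩, Subtype.ext ?_⟩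
    show π (n * g) = π g
    rw [map_mul, hπ, QuotientGroup.mk'_apply (pPrimeCore p G) n,
      (QuotientGroup.eq_one_iff n).mpr hn, one_mul]
  rintro _ ⟨_, ⟨x, hx, rfl⟩, rfl⟩
  exact ⟨f x, map_layerCover_le f hf ⟨x, hx, rfl⟩, rfl⟩

omit [Finite G] hp in
/-- A conjugate of a `p`-component is a `p`-component. -/
theorem pComponent_map_conj (g : G) {K : Subgroup G} (hK : IsPComponent p K) :
    IsPComponent p (K.map (MulAut.conj g).toMonoidHom) := by
  set π := QuotientGroup.mk' (pPrimeCore p G) with hπ
  have hcomm : ∀ (a : G) (M : Subgroup G), (M.map (MulAut.conj a).toMonoidHom).map π =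
      (M.map π).map (MulAut.conj (π a)).toMonoidHom := fun a M => by
    rw [Subgroup.map_map, Subgroup.map_map]
    congr 1
  refine ⟨hK.1.map (MulAut.conj g).surjective, ?_, fun H hH hle hmap => ?_⟩
  · rw [hcomm]
    exact component_map_conj _ hK.2.1
  · have hback : (K.map (MulAut.conj g).toMonoidHom).map (MulAut.conj g⁻¹).toMonoidHom = K := by
      rw [map_conj_map_conj, inv_mul_cancel, map_conj_one]
    have h2 := hK.2.2 (H.map (MulAut.conj g⁻¹).toMonoidHom)
      (hH.map (MulAut.conj g⁻¹).surjective) (hback ▸ Subgroup.map_mono hle)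
      (by rw [hcomm, hmap, ← hcomm, hback])
    rw [← h2, map_conj_map_conj, mul_inv_cancel, map_conj_one]

instance pLayer_normal : (pLayer p G).Normal := by
  refine ⟨fun x hx g => ?_⟩
  have h : pLayer p G ≤ (pLayer p G).comap (MulAut.conj g).toMonoidHom :=
    sSup_le fun K hK => Subgroup.map_le_iff_le_comap.mp
      (pComponent_le_pLayer (pComponent_map_conj g hK))
  exact h hx

theorem pLayer_le_layerCover : pLayer p G ≤ layerCover p G :=
  Subgroup.map_le_iff_le_comap.mp map_pLayer.le

/-- The `p`-layer vanishes iff the layer of `G / O_{p'}(G)` does. -/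
theorem pLayer_eq_bot_iff : pLayer p G = ⊥ ↔ layer (G ⧸ pPrimeCore p G) = ⊥ := by
  constructor
  · intro h
    rw [← map_pLayer, h, Subgroup.map_bot]
  · intro h
    refine sSup_eq_bot.mpr fun K hK => absurd (le_bot_iff.mp ?_) (component_ne_bot hK.2.1)
    exact h ▸ component_le_layer hK.2.1

/-- A `p`-component of `N_G(R)` whose image lies in the layer of `G/O_{p'}(G)` lies in the
`p`-layer; hence `L_{p'}(N_G(R)) ≤ L_{p'}(G)` if the images of perfect subgroups of the local
layer preimage induce inner automorphisms on the components of `G/O_{p'}(G)`. -/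
theorem map_pLayer_normalizer_le {R : Subgroup G} (hR : IsPGroup p R)
    (hinn : ∀ H : Subgroup (G ⧸ pPrimeCore p G), ⁅H, H⁆ = H →
      H ≤ localLayerCover p (R.map (QuotientGroup.mk' (pPrimeCore p G))) →
      ∀ L, IsComponent L → H ≤ L ⊔ Subgroup.centralizer (L : Set (G ⧸ pPrimeCore p G))) :
    (pLayer p ↥(Subgroup.normalizer (R : Set G))).map (Subgroup.normalizer (R : Set G)).subtype ≤
      pLayer p G := by
  set π := QuotientGroup.mk' (pPrimeCore p G) with hπ
  set N := Subgroup.normalizer (R : Set G) with hN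
  rw [map_le_iff_le_comap, pLayer]
  refine sSup_le fun K hK => ?_
  rw [← map_le_iff_le_comap]
  set K₀ := K.map N.subtype with hK₀
  have hKc : K₀ ≤ localLayerCover p R :=
    Subgroup.map_mono ((pComponent_le_pLayer hK).trans pLayer_le_layerCover)
  have hKb : ⁅K₀.map π, K₀.map π⁆ = K₀.map π := by
    rw [← map_commutator, hK₀, ← map_commutator, pComponent_commutator_eq_self hK]
  have hKle : K₀.map π ≤ localLayerCover p (R.map π) :=
    (Subgroup.map_mono hKc).trans (map_localLayerCover_le hR)
  have h1 : K₀.map π ≤ layer (G ⧸ pPrimeCore p G) :=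
    le_layer_of_le_sup_centralizer Thompson.pPrimeCore_quotient_pPrimeCore (hR.map π) hKb hKle
      (hinn _ hKb hKle)
  rw [← map_pLayer, map_le_iff_le_comap, comap_map_eq, QuotientGroup.ker_mk'] at h1
  intro x hx
  obtain ⟨y, hy, rfl⟩ := hx
  have hmem : K ≤ (pLayer p G).comap N.subtype := by
    rw [isPComponent_eq hK, pComponentOf, pElementsClosure, Subgroup.closure_le]
    rintro g ⟨hg, k, hgk⟩
    have hgK : g ∈ K :=
      (isPComponent_eq hK).ge (Subgroup.subset_closure ⟨hg, k, hgk⟩)
    have h2 : (g : G) ∈ pLayer p G ⊔ pPrimeCore p G := h1 ⟨g, hgK, rfl⟩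
    set r := QuotientGroup.mk' (pLayer p G) with hr
    have h3 : r (g : G) ∈ (pPrimeCore p G).map r := by
      have h4 : r (g : G) ∈ (pLayer p G ⊔ pPrimeCore p G).map r :=
        Subgroup.mem_map_of_mem _ h2
      rwa [Subgroup.map_sup, hr, QuotientGroup.map_mk'_self, bot_sup_eq] at h4
    have h4 : orderOf (r (g : G)) ∣ p ^ k := by
      refine orderOf_dvd_of_pow_eq_one ?_
      rw [← map_pow, ← N.subtype_apply, ← map_pow, hgk, map_one, map_one]
    have h5 : orderOf (r (g : G)) ∣ Nat.card (pPrimeCore p G) :=
      (Subgroup.orderOf_dvd_natCard _ h3).trans (Subgroup.card_map_dvd _ _)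
    have h6 := Nat.eq_one_of_dvd_coprimes
      (Thompson.card_pPrimeCore_coprime (p := p) (G := G) |>.pow_right k) h5 h4
    rw [orderOf_eq_one_iff, hr, QuotientGroup.mk'_apply, QuotientGroup.eq_one_iff] at h6
    exact h6
  exact hmem hy

/-- If the layer is trivial and `O_{p'}(G) = 1`, local layer preimages lie in `O_p(G)`. -/
theorem localLayerCover_le_pCore_of_layer_eq_bot (hO : pPrimeCore p G = ⊥) (hE : layer G = ⊥)
    {P : Subgroup G} (hP : IsPGroup p P) : localLayerCover p P ≤ pCore p G := by
  have h1 := centralizer_generalizedFitting_le (G := G)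
  rw [generalizedFittingSubgroup, hE, bot_sup_eq, fitting_eq_pCore_of_pPrimeCore_eq_bot hO] at h1
  exact (localLayerCover_le_centralizer_pCore hP).trans h1

/-- `p`-constraint is equivalent to a trivial `p`-layer. -/
theorem isPConstrained_iff_pLayer_eq_bot : IsPConstrained p G ↔ pLayer p G = ⊥ := by
  set π := QuotientGroup.mk' (pPrimeCore p G) with hπ
  have hO : pPrimeCore p (G ⧸ pPrimeCore p G) = ⊥ := Thompson.pPrimeCore_quotient_pPrimeCore
  have himg : ∀ P : Sylow p ↥(pPrimePCore p G),
      ((P : Subgroup ↥(pPrimePCore p G)).map (pPrimePCore p G).subtype).map π =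
        pCore p (G ⧸ pPrimeCore p G) := fun P => by
    have h := congrArg (Subgroup.map π) (Thompson.sylow_pPrimePCore_sup P)
    rwa [Thompson.map_mk'_pPrimePCore, Subgroup.map_sup, hπ, QuotientGroup.map_mk'_self,
      bot_sup_eq] at h
  rw [pLayer_eq_bot_iff]
  constructor
  · intro hc
    obtain ⟨P⟩ := (inferInstance : Nonempty (Sylow p ↥(pPrimePCore p G)))
    set P' := (P : Subgroup ↥(pPrimePCore p G)).map (pPrimePCore p G).subtype with hP'
    have hP'p : IsPGroup p P' := P.2.map _
    have hle : layer (G ⧸ pPrimeCore p G) ≤ pCore p (G ⧸ pPrimeCore p G) := by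
      intro y hy
      obtain ⟨g, rfl⟩ := QuotientGroup.mk'_surjective _ y
      have hyc : π g ∈ Subgroup.centralizer (P'.map π : Set (G ⧸ pPrimeCore p G)) := by
        rw [himg]
        exact layer_le_centralizer_fitting.trans
          (Subgroup.centralizer_le (Fitting.pCore_le_fitting p)) hy
      obtain ⟨n, hn, hng⟩ := exists_mem_normalizer_of_mem_normalizer_map _
        Thompson.card_pPrimeCore_coprime hP'p (Subgroup.centralizer_le_normalizer _ hyc)
      have hπn : π (n * g) = π g := by
        rw [map_mul, hπ, QuotientGroup.mk'_apply (pPrimeCore p G) n,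
          (QuotientGroup.eq_one_iff n).mpr hn, one_mul]
      rw [← hπn, ← Thompson.map_mk'_pPrimePCore]
      refine Subgroup.mem_map_of_mem π (hc P ?_)
      refine mem_centralizer_iff.mpr fun x (hx : x ∈ P') => ?_
      have h1 : (n * g) * x * (n * g)⁻¹ * x⁻¹ ∈ P' ⊓ pPrimeCore p G := by
        refine ⟨P'.mul_mem ((mem_normalizer_iff.mp hng x).mp hx) (P'.inv_mem hx), ?_⟩
        show _ ∈ pPrimeCore p G
        rw [← QuotientGroup.eq_one_iff, ← QuotientGroup.mk'_apply, ← hπ]
        have h2 := mem_centralizer_iff.mp hyc (π x) (Subgroup.mem_map_of_mem π hx)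
        simp only [map_mul, map_inv, hπn] at *
        rw [← h2]
        group
      rw [Thompson.inf_eq_bot_of_isPGroup_of_coprime hP'p Thompson.card_pPrimeCore_coprime,
        Subgroup.mem_bot, mul_inv_eq_one, mul_inv_eq_iff_eq_mul] at h1
      exact h1.symm
    refine layer_eq_bot_iff.mpr fun L hL => component_not_isSolvable hL ?_
    exact Coprime.isSolvable_of_isNilpotent'
      (Thompson.isPGroup_pCore.to_le ((component_le_layer hL).trans hle)).isNilpotent
  · intro hE P g hg
    have h1 := centralizer_generalizedFitting_le (G := G ⧸ pPrimeCore p G)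
    rw [generalizedFittingSubgroup, hE, bot_sup_eq, fitting_eq_pCore_of_pPrimeCore_eq_bot hO] at h1
    refine h1 ?_
    rw [← himg P]
    refine mem_centralizer_iff.mpr ?_
    rintro _ ⟨x, hx, rfl⟩
    rw [← map_mul, ← map_mul, mem_centralizer_iff.mp hg x hx]

end Cfsg.Agent.Components
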