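import Cfsg.Prelude.Def_Balance
import Cfsg.Agent.Lib.Components.Balance
import Cfsg.Agent.Lib.Components.LBalance

/-!
# `k`-balance from local `k`-balance of the components
-/

set_option autoImplicit false
set_option linter.style.haveILetI false

namespace Cfsg.Agent.Components

open Subgroup
open scoped commutatorElement IsMulCommutative Pointwise

variable {G : Type*} [Group G] [Finite G] {p : ℕ} [hp : Fact p.Prime]

/-- For `x` of order `p` normalizing the component `L` and `W` centralizing `x` and normalizing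
`L`, the part of `O_{p'}(C_G(x))` in `H = LW` maps into `O_{p'}` of the centralizer of the image of
`x` in `H / C_H(L)`. -/
theorem map_centralizerPPrimeCore_inf_le {Q : Type*} [Group Q] [Finite Q] (hO : pPrimeCore p G = ⊥)
    {x : G} (hx : orderOf x = p) {L : Subgroup G} (hL : IsComponent L)
    (hxN : x ∈ Subgroup.normalizer (L : Set G)) {W : Subgroup G}
    (hWL : W ≤ Subgroup.normalizer (L : Set G)) (hWC : W ≤ Subgroup.centralizer ({x} : Set G))
    {H : Subgroup G} (hH : H = L ⊔ W) (hxW : x ∈ H) (q : H →* Q) (hqs : Function.Surjective q)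
    (hq1 : ∀ g : H, q g = 1 ↔ (g : G) ∈ Subgroup.centralizer (L : Set G)) :
    ((centralizerPPrimeCore p x).subgroupOf H).map q ≤ centralizerPPrimeCore p (q ⟨x, hxW⟩) := by
  set D := centralizerPPrimeCore p x with hD
  set xH : H := ⟨x, hxW⟩
  have hLH : L ≤ H := hH ▸ le_sup_left
  have hWH : W ≤ H := hH ▸ le_sup_right
  have hXp : IsPGroup p ↥(Subgroup.zpowers x) := by
    refine IsPGroup.of_card (n := 1) ?_
    rw [Nat.card_zpowers, hx, pow_one]
  have hDU : D ≤ Subgroup.centralizer (pCore p G : Set G) :=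
    (centralizerPPrimeCore_le_localLayerCover x).trans (localLayerCover_le_centralizer_pCore hXp)
  set Z := (center (layer G)).map (layer G).subtype with hZ
  haveI : Z.Normal := inferInstance
  have hDZ : D ≤ Subgroup.centralizer (Z : Set G) :=
    hDU.trans (Subgroup.centralizer_le (map_center_layer_le_pCore hO))
  -- `D` is normalized, modulo `C_H(L)`, by the elements centralizing `x` modulo `C_H(L)`
  have hconj : ∀ g : H, Commute (q g) (q xH) → ∀ d ∈ D, (g : G) * d * (g : G)⁻¹ ∈ D := by
    rintro ⟨g, hg⟩ hcomm d hd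
    have hg' : g ∈ (L : Set G) * (W : Set G) := by
      rw [← coe_mul_of_right_le_normalizer_left L W hWL]
      exact hH ▸ hg
    obtain ⟨l, hl, w, hw, rfl⟩ := hg'
    have hwD : w * d * w⁻¹ ∈ D :=
      (mem_normalizer_iff.mp ((normalizer_le_normalizer_map_characteristic _
        (pPrimeCore p ↥(Subgroup.centralizer ({x} : Set G))))
          (Subgroup.le_normalizer (hWC hw))) d).mp hd
    have hwx : Commute (q ⟨w, hWH hw⟩) (q xH) := by
      refine Commute.map (Subtype.ext ?_) q
      exact mem_centralizer_singleton_iff.mp (hWC hw)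
    have hlx : Commute (q ⟨l, hLH hl⟩) (q xH) := by
      have h1 := hcomm.mul_left hwx.inv_left
      have e : q ⟨_, hg⟩ * (q ⟨w, hWH hw⟩)⁻¹ = q ⟨l, hLH hl⟩ := by
        rw [← map_inv, ← map_mul]
        exact congrArg q (Subtype.ext (mul_inv_cancel_right l w))
      rwa [e] at h1
    have hz : l * x * l⁻¹ * x⁻¹ ∈ Z := by
      have h1 : q (⟨l, hLH hl⟩ * xH * (⟨l, hLH hl⟩ : H)⁻¹ * xH⁻¹) = 1 := by
        simp only [map_mul, map_inv]
        rw [hlx.eq]
        group
      have h2 : l * x * l⁻¹ * x⁻¹ ∈ Subgroup.centralizer (L : Set G) := (hq1 _).mp h1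
      have h3 : l * x * l⁻¹ * x⁻¹ ∈ L := by
        have h4 : x * l⁻¹ * x⁻¹ ∈ L := (mem_normalizer_iff.mp hxN _).mp (inv_mem hl)
        simpa [mul_assoc] using mul_mem hl h4
      rw [hZ, map_center_layer]
      exact le_iSup (fun K : {K : Subgroup G // IsComponent K} =>
        (center (K.1 : Subgroup G)).map (K.1 : Subgroup G).subtype) ⟨L, hL⟩
        ⟨⟨_, h3⟩, mem_center_iff.mpr fun b => Subtype.ext (mem_centralizer_iff.mp h2 b b.2), rfl⟩
    set CS := Subgroup.centralizer ({x} : Set G) ⊓ Subgroup.centralizer (Z : Set G) with hCS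
    have hlayer : l ∈ layer G := component_le_layer hL hl
    have hcentral : ∀ v ∈ layer G, ∀ z ∈ Z, Commute v z := by
      rintro v hv z ⟨z', hz', rfl⟩
      exact congrArg Subtype.val (mem_center_iff.mp hz' ⟨v, hv⟩)
    have hl1 : ∀ v ∈ layer G, v⁻¹ * x * v * x⁻¹ ∈ Z → ∀ c ∈ CS, v * c * v⁻¹ ∈ CS := by
      intro v hv hvx c hc
      obtain ⟨hc1, hc2⟩ := Subgroup.mem_inf.mp hc
      refine Subgroup.mem_inf.mpr
        ⟨?_, (inferInstance : (Subgroup.centralizer (Z : Set G)).Normal).conj_mem c hc2 v⟩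
      rw [mem_centralizer_singleton_iff] at hc1 ⊢
      have hcomm' : Commute (v⁻¹ * x * v) c := by
        rw [show v⁻¹ * x * v = (v⁻¹ * x * v * x⁻¹) * x by group]
        exact Commute.mul_left (mem_centralizer_iff.mp hc2 _ hvx) hc1.symm
      have := Commute.map hcomm' (MulAut.conj v).toMonoidHom
      simpa [mul_assoc] using this.eq.symm
    have hlinv : l⁻¹ * x * l * x⁻¹ ∈ Z := by
      have h1 := hcentral l hlayer _ hz
      have h2 : l⁻¹ * x * l * x⁻¹ = (l * x * l⁻¹ * x⁻¹)⁻¹ := by
        have e : x = (l⁻¹ * (l * x * l⁻¹ * x⁻¹) * l) * (l⁻¹ * x * l) := by group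
        rw [h1.inv_left.eq, inv_mul_cancel_right] at e
        calc l⁻¹ * x * l * x⁻¹
            = (l * x * l⁻¹ * x⁻¹)⁻¹ * ((l * x * l⁻¹ * x⁻¹) * (l⁻¹ * x * l)) * x⁻¹ := by group
          _ = _ := by rw [← e]; group
      rw [h2]
      exact inv_mem hz
    have hl2 : ∀ c ∈ CS, l⁻¹ * c * l ∈ CS := fun c hc => by
      simpa using hl1 l⁻¹ (inv_mem hlayer) (by simpa using hz) c hc
    have hDCS : D ≤ CS := le_inf (centralizerPPrimeCore_le_centralizer x) hDZ
    set D' := D.map (MulAut.conj l).toMonoidHom with hD'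
    have hD'CS : D' ≤ CS := by
      rintro _ ⟨e, he, rfl⟩
      exact hl1 l hlayer hlinv e (hDCS he)
    have hCSn : CS ≤ Subgroup.normalizer (D' : Set G) := by
      refine Coprime.le_normalizer_of_conj_mem fun c hc e he => ?_
      obtain ⟨d', hd', rfl⟩ := he
      refine ⟨(l⁻¹ * c * l) * d' * (l⁻¹ * c * l)⁻¹,
        (mem_normalizer_iff.mp ((normalizer_le_normalizer_map_characteristic _
          (pPrimeCore p ↥(Subgroup.centralizer ({x} : Set G))))
            (Subgroup.le_normalizer (Subgroup.mem_inf.mp (hl2 c hc)).1)) d').mp hd', ?_⟩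
      simp [mul_assoc]
    have hle : D' ≤ D := by
      refine le_centralizerPPrimeCore (hD'CS.trans inf_le_left) ?_ ?_
      · refine Subgroup.IsSubnormal.step _ (CS.subgroupOf _) (Subgroup.comap_mono hD'CS) ?_ ?_
        · refine Subgroup.Normal.isSubnormal ?_
          rw [hCS, Subgroup.inf_subgroupOf_left]
          exact inferInstance
        · exact (normal_subgroupOf_iff_le_normalizer (Subgroup.comap_mono hD'CS)).mpr
            ((Subgroup.comap_mono hCSn).trans (le_normalizer_comap _))
      · exact (centralizerPPrimeCore_coprime x).coprime_dvd_left (Subgroup.card_map_dvd _ _)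
    have := hle ⟨_, hwD, rfl⟩
    simpa [mul_assoc] using this
  have hle : (D.subgroupOf H).map q ≤ Subgroup.centralizer ({q xH} : Set _) := by
    rintro _ ⟨d, hd, rfl⟩
    rw [mem_centralizer_singleton_iff]
    refine (Commute.map (Subtype.ext ?_) q).eq
    exact mem_centralizer_singleton_iff.mp (centralizerPPrimeCore_le_centralizer x hd)
  refine le_centralizerPPrimeCore hle (Subgroup.Normal.isSubnormal
    ((normal_subgroupOf_iff_le_normalizer hle).mpr
      (Coprime.le_normalizer_of_conj_mem fun b hb e he => ?_))) ?_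
  · obtain ⟨g, rfl⟩ := hqs b
    obtain ⟨d, hd, rfl⟩ := he
    refine ⟨g * d * g⁻¹, ?_, by simp⟩
    exact hconj g (mem_centralizer_singleton_iff.mp hb) d hd
  · refine Nat.Coprime.coprime_dvd_left (Subgroup.card_map_dvd _ _) ?_
    exact (centralizerPPrimeCore_coprime x).coprime_dvd_left
      (Subgroup.card_comap_dvd_of_injective D H.subtype H.subtype_injective)

/-- If `O_{p'}(G) = 1` and the components are locally `k`-balanced modulo their centres, then
`Δ_G(A) = 1` for elementary abelian subgroups `A` of order `p ^ k`. -/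
theorem signalizerDelta_eq_bot_of_components (hO : pPrimeCore p G = ⊥) {k : ℕ} (hk : 1 ≤ k)
    (h : ∀ L : Subgroup G, IsComponent L → IsLocallyKBalanced p k (↥L ⧸ center ↥L))
    {A : Subgroup G} (hA : IsElementaryAbelian p A) (hAk : Nat.card A = p ^ k) :
    signalizerDelta p A = ⊥ := by
  set D := signalizerDelta p A with hD
  have hord : ∀ a ∈ A, a ≠ 1 → orderOf a = p := fun a ha h1 =>
    orderOf_eq_prime (hA.2 a ha) h1
  have hDle : ∀ a ∈ A, a ≠ 1 → D ≤ centralizerPPrimeCore p a := fun a ha h1 =>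
    iInf_le (fun a : {a : G // a ∈ A ∧ a ≠ 1} => centralizerPPrimeCore p (a : G)) ⟨a, ha, h1⟩
  haveI : Nontrivial A := by
    rw [← Finite.one_lt_card_iff_nontrivial, hAk]
    exact Nat.one_lt_pow (by omega) hp.out.one_lt
  obtain ⟨⟨a₁, ha₁⟩, ha₁'⟩ := exists_ne (1 : A)
  have ha₁1 : a₁ ≠ 1 := fun h => ha₁' (Subtype.ext h)
  have hXp : ∀ a ∈ A, a ≠ 1 → IsPGroup p ↥(Subgroup.zpowers a) := fun a ha h1 =>
    IsPGroup.of_card (n := 1) (by rw [Nat.card_zpowers, hord a ha h1, pow_one])
  have hDU : D ≤ Subgroup.centralizer (pCore p G : Set G) :=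
    (hDle a₁ ha₁ ha₁1).trans ((centralizerPPrimeCore_le_localLayerCover a₁).trans
      (localLayerCover_le_centralizer_pCore (hXp a₁ ha₁ ha₁1)))
  have hcomp : ∀ L, IsComponent L → L ≤ Subgroup.centralizer (D : Set G) := by
    intro L hL
    by_cases hall : ∀ a ∈ A, a ≠ 1 → ⁅L, Subgroup.zpowers a⁆ = L
    swap
    · push_neg at hall
      obtain ⟨a, ha, h1, hne⟩ := hall
      exact (commutator_eq_bot_iff_le_centralizer.mp
        (component_commutator_centralizerPPrimeCore hO (hord a ha h1) hL hne)).trans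
          (Subgroup.centralizer_le (hDle a ha h1))
    have hAL : A ≤ Subgroup.normalizer (L : Set G) := by
      intro a ha
      rcases eq_or_ne a 1 with rfl | h1
      · exact one_mem _
      refine Coprime.le_normalizer_of_conj_mem (fun b hb l hl => ?_) (Subgroup.mem_zpowers a)
      have h2 : ⁅l⁻¹, b⁆ ∈ L := (hall a ha h1).le (commutator_mem_commutator (inv_mem hl) hb)
      simpa [commutatorElement_def, mul_assoc] using mul_mem hl h2
    have hDL : D ≤ Subgroup.normalizer (L : Set G) := (hDle a₁ ha₁ ha₁1).trans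
      ((centralizerPPrimeCore_le_localLayerCover a₁).trans
        (localLayerCover_le_normalizer_component hO (hXp a₁ ha₁ ha₁1) hL))
    set W := A ⊔ D with hW
    have hWL : W ≤ Subgroup.normalizer (L : Set G) := sup_le hAL hDL
    set H := L ⊔ W with hH
    have hHL : H ≤ Subgroup.normalizer (L : Set G) := sup_le Subgroup.le_normalizer hWL
    set ρ := quotientCenterAut hHL with hρ
    have hLperf := component_commutator_eq_self hL
    have hρ1 : ∀ g : H, ρ g = 1 ↔ (g : G) ∈ Subgroup.centralizer (L : Set G) := by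
      intro g
      constructor
      · intro hg
        refine mem_centralizer_of_commutator_mem_centralizer hLperf (hHL g.2) fun l hl => ?_
        have e := DFunLike.congr_fun hg (QuotientGroup.mk' (center ↥L) ⟨l, hl⟩)
        let m' : L := ⟨(g : G) * l * (g : G)⁻¹, (mem_normalizer_iff.mp (hHL g.2) l).mp hl⟩
        have e' : QuotientGroup.mk' (center ↥L) m' = QuotientGroup.mk' (center ↥L) ⟨l, hl⟩ := e
        have hz : m' * (⟨l, hl⟩ : L)⁻¹ ∈ center ↥L := by
          rw [← QuotientGroup.eq_one_iff, ← QuotientGroup.mk'_apply, map_mul, map_inv, e',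
            mul_inv_cancel]
        refine mem_centralizer_iff.mpr fun a ha => ?_
        exact congrArg Subtype.val (mem_center_iff.mp hz ⟨a, ha⟩)
      · intro hg
        refine MulEquiv.ext fun y => ?_
        obtain ⟨l, rfl⟩ := QuotientGroup.mk'_surjective _ y
        refine congrArg (QuotientGroup.mk' (center ↥L)) (Subtype.ext ?_ :
          (⟨(g : G) * l * (g : G)⁻¹, _⟩ : L) = l)
        show (g : G) * l * (g : G)⁻¹ = l
        rw [← mem_centralizer_iff.mp hg l l.2, mul_inv_cancel_right]
    have hinn : (MulAut.conj : (↥L ⧸ center ↥L) →* MulAut (↥L ⧸ center ↥L)).range ≤ ρ.range := by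
      rintro _ ⟨y, rfl⟩
      obtain ⟨l, rfl⟩ := QuotientGroup.mk'_surjective _ y
      refine ⟨⟨l, mem_sup_left l.2⟩, MulEquiv.ext fun z => ?_⟩
      obtain ⟨m, rfl⟩ := QuotientGroup.mk'_surjective _ z
      rfl
    have hAH : A ≤ H := le_sup_left.trans le_sup_right
    have hDH : D ≤ H := le_sup_right.trans le_sup_right
    set Ab := (A.subgroupOf H).map ρ.rangeRestrict with hAb
    have hinjA : ∀ a : H, (a : G) ∈ A → ρ a = 1 → a = 1 := by
      intro a ha h1
      by_contra hne
      have hne' : (a : G) ≠ 1 := fun e => hne (Subtype.ext e)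
      refine component_ne_bot hL ((hall _ ha hne') ▸ ?_)
      rw [commutator_eq_bot_iff_le_centralizer, Subgroup.le_centralizer_iff, Subgroup.zpowers_le]
      exact (hρ1 a).mp h1
    have hAbel : IsElementaryAbelian p Ab := by
      refine ⟨⟨⟨?_⟩⟩, ?_⟩
      · rintro ⟨_, a, ha, rfl⟩ ⟨_, b, hb, rfl⟩
        refine Subtype.ext ?_
        show ρ.rangeRestrict a * ρ.rangeRestrict b = ρ.rangeRestrict b * ρ.rangeRestrict a
        rw [← map_mul, ← map_mul]
        exact congrArg _ (Subtype.ext (congrArg Subtype.val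
          (hA.1.is_comm.comm ⟨(a : G), ha⟩ ⟨(b : G), hb⟩) :))
      · rintro _ ⟨a, ha, rfl⟩
        rw [← map_pow, show a ^ p = 1 from Subtype.ext (by simpa using hA.2 _ ha), map_one]
    have hAbk : Nat.card Ab = p ^ k := by
      have hinj : Function.Injective (ρ.rangeRestrict.subgroupMap (A.subgroupOf H)) := by
        rw [← MonoidHom.ker_eq_bot_iff, Subgroup.eq_bot_iff_forall]
        intro a ha
        exact Subtype.ext (hinjA a a.2 (congrArg (fun y => (y.1.1 : MulAut (↥L ⧸ center ↥L)))
          (MonoidHom.mem_ker.mp ha)))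
      rw [hAb, ← Nat.card_eq_of_bijective _ ⟨hinj, MonoidHom.subgroupMap_surjective _ _⟩,
        Nat.card_congr (Subgroup.subgroupOfEquivOfLe hAH).toEquiv, hAk]
    have hbot := h L hL ρ.range hinn Ab hAbel hAbk
    have hDb : (D.subgroupOf H).map ρ.rangeRestrict ≤ signalizerDelta p Ab := by
      refine le_iInf ?_
      rintro ⟨_, ⟨a, ha, rfl⟩, h1⟩
      have ha1 : (a : G) ≠ 1 := fun e => h1 (by rw [show a = 1 from Subtype.ext e, map_one])
      have hWC : W ≤ Subgroup.centralizer ({(a : G)} : Set G) := by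
        refine sup_le (fun b hb => mem_centralizer_singleton_iff.mpr ?_)
          ((hDle _ ha ha1).trans (centralizerPPrimeCore_le_centralizer _))
        exact congrArg Subtype.val (hA.1.is_comm.comm ⟨b, hb⟩ ⟨(a : G), ha⟩)
      have h2 := map_centralizerPPrimeCore_inf_le hO (hord _ ha ha1) hL (hAL ha) hWL hWC
        hH a.2 ρ.rangeRestrict ρ.rangeRestrict_surjective
        (fun g => by rw [← hρ1 g]; exact Subtype.ext_iff)
      exact (Subgroup.map_mono (Subgroup.comap_mono (hDle _ ha ha1))).trans h2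
    rw [hbot, le_bot_iff, Subgroup.map_eq_bot_iff, MonoidHom.ker_rangeRestrict] at hDb
    rw [Subgroup.le_centralizer_iff]
    exact fun d hd => (hρ1 ⟨d, hDH hd⟩).mp
      (MonoidHom.mem_ker.mp (hDb (show (⟨d, hDH hd⟩ : H) ∈ D.subgroupOf H from hd)))
  have hDF : D ≤ Subgroup.centralizer (generalizedFittingSubgroup G : Set G) := by
    rw [Subgroup.le_centralizer_iff, generalizedFittingSubgroup]
    refine sup_le (layer_le_iff.mpr hcomp) ?_
    rw [fitting_eq_pCore_of_pPrimeCore_eq_bot hO, Subgroup.le_centralizer_iff]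
    exact hDU
  set B := Subgroup.centralizer (generalizedFittingSubgroup G : Set G) ⊓
    generalizedFittingSubgroup G with hB
  haveI : IsMulCommutative B := ⟨⟨fun a b => Subtype.ext
    (mem_centralizer_iff.mp (Subgroup.mem_inf.mp b.2).1 a (Subgroup.mem_inf.mp a.2).2)⟩⟩
  have hBU : B ≤ pCore p G := by
    rw [← fitting_eq_pCore_of_pPrimeCore_eq_bot hO]
    exact Fitting.le_fitting inferInstance inferInstance
  have hDB : D ≤ B := le_inf hDF (hDF.trans centralizer_generalizedFitting_le)
  have hcop : (Nat.card D).Coprime p :=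
    (centralizerPPrimeCore_coprime (p := p) a₁).coprime_dvd_left
      (Subgroup.card_dvd_of_le (hDle a₁ ha₁ ha₁1))
  rw [← le_bot_iff, ← Thompson.inf_eq_bot_of_isPGroup_of_coprime
    (Thompson.isPGroup_pCore (p := p) (G := G)) hcop]
  exact le_inf (hDB.trans hBU) le_rfl

omit hp in
/-- The centralizer of an element covers the centralizer of its image modulo a coprime normal
subgroup. -/
theorem exists_mem_centralizer_of_coprime (N : Subgroup G) [N.Normal] {a : G}
    (hcop : (orderOf a).Coprime (Nat.card N)) {g : G}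
    (hg : Commute (QuotientGroup.mk' N a) (QuotientGroup.mk' N g)) :
    ∃ n ∈ N, g * n ∈ Subgroup.centralizer ({a} : Set G) := by
  have hnorm : ∀ K : Subgroup G, K ≤ Subgroup.normalizer (N : Set G) := fun K => by
    rw [normalizer_eq_top_iff.mpr (inferInstance : N.Normal)]
    exact le_top
  haveI : IsMulCommutative ↥(Subgroup.zpowers a) := inferInstance
  obtain ⟨n, hn, hc⟩ := Coprime.exists_fixed_in_coset_of_normal (Subgroup.zpowers a) N (hnorm _)
    (by rwa [Nat.card_zpowers]) (Or.inl inferInstance) g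
    (by rw [normalizer_eq_top_iff.mpr (inferInstance : N.Normal)]; exact Subgroup.mem_top g)
    (by
      rintro _ ⟨i, rfl⟩
      rw [← QuotientGroup.eq_one_iff, ← QuotientGroup.mk'_apply]
      simp only [map_mul, map_inv, map_zpow]
      rw [(hg.zpow_left i).eq]
      group)
  exact ⟨n, hn, by rwa [Subgroup.zpowers_eq_closure, Subgroup.centralizer_closure] at hc⟩

/-- If, for every `x` of order `p`, the components of `C_G(x)/O_{p'}` are locally `k`-balanced
modulo their centres, then `G` is `k`-balanced. -/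
theorem isKBalanced_of_components {k : ℕ} (hk : 1 ≤ k)
    (h : ∀ x : G, orderOf x = p →
      ∀ K : Subgroup (↥(Subgroup.centralizer ({x} : Set G)) ⧸
        pPrimeCore p ↥(Subgroup.centralizer ({x} : Set G))),
        IsComponent K → IsLocallyKBalanced p k (↥K ⧸ center ↥K)) :
    IsKBalanced p k G := by
  intro A hA hAk b hb hAb y hy
  set C := Subgroup.centralizer ({b} : Set G) with hC
  set O := pPrimeCore p ↥C with hOdef
  set π := QuotientGroup.mk' O with hπ
  obtain ⟨hyD, hyb⟩ := Subgroup.mem_inf.mp hy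
  have hAC : A ≤ C := fun a ha => mem_centralizer_singleton_iff.mpr (hAb a ha)
  have hAO : ∀ a : C, (a : G) ∈ A → π a = 1 → a = 1 := by
    intro a ha h1
    by_contra hne
    have hne' : (a : G) ≠ 1 := fun e => hne (Subtype.ext e)
    have hord : orderOf a = p := by
      rw [← Subgroup.orderOf_coe]; exact orderOf_eq_prime (hA.2 _ ha) hne'
    have h2 := O.orderOf_dvd_natCard ((QuotientGroup.eq_one_iff a).mp h1)
    rw [hord] at h2
    exact Thompson.not_dvd_card_pPrimeCore h2
  set Ab := (A.subgroupOf C).map π with hAbdef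
  have hAbel : IsElementaryAbelian p Ab := by
    refine ⟨⟨⟨?_⟩⟩, ?_⟩
    · rintro ⟨_, u, hu, rfl⟩ ⟨_, v, hv, rfl⟩
      refine Subtype.ext ?_
      show π u * π v = π v * π u
      rw [← map_mul, ← map_mul]
      exact congrArg _ (Subtype.ext (congrArg Subtype.val
        (hA.1.is_comm.comm ⟨(u : G), hu⟩ ⟨(v : G), hv⟩) :))
    · rintro _ ⟨u, hu, rfl⟩
      rw [← map_pow, show u ^ p = 1 from Subtype.ext (by simpa using hA.2 _ hu), map_one]
  have hAbk : Nat.card Ab = p ^ k := by
    have hinj : Function.Injective (π.subgroupMap (A.subgroupOf C)) := by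
      rw [← MonoidHom.ker_eq_bot_iff, Subgroup.eq_bot_iff_forall]
      intro a ha
      exact Subtype.ext (hAO a a.2 (congrArg Subtype.val (MonoidHom.mem_ker.mp ha)))
    rw [hAbdef, ← Nat.card_eq_of_bijective _ ⟨hinj, MonoidHom.subgroupMap_surjective _ _⟩,
      Nat.card_congr (Subgroup.subgroupOfEquivOfLe hAC).toEquiv, hAk]
  have hbot := signalizerDelta_eq_bot_of_components
    (Thompson.pPrimeCore_quotient_pPrimeCore : pPrimeCore p (↥C ⧸ O) = ⊥) hk (h b hb) hAbel hAbk
  have hmem : π ⟨y, hyb⟩ ∈ signalizerDelta p Ab := by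
    refine Subgroup.mem_iInf.mpr ?_
    rintro ⟨_, ⟨a, ha, rfl⟩, h1⟩
    have ha1 : (a : G) ≠ 1 := fun e => h1 (by rw [show a = 1 from Subtype.ext e, map_one])
    have hya : y ∈ centralizerPPrimeCore p (a : G) := by
      have := Subgroup.mem_iInf.mp hyD ⟨(a : G), ha, ha1⟩
      exact this
    set DC := (centralizerPPrimeCore p (a : G)).subgroupOf C with hDC
    have hcop : (Nat.card DC).Coprime p :=
      (centralizerPPrimeCore_coprime (p := p) (a : G)).coprime_dvd_left
        (Subgroup.card_comap_dvd_of_injective _ C.subtype C.subtype_injective)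
    have hle : DC.map π ≤ Subgroup.centralizer ({π a} : Set _) := by
      rintro _ ⟨d, hd, rfl⟩
      rw [mem_centralizer_singleton_iff, ← map_mul, ← map_mul]
      exact congrArg π (Subtype.ext (mem_centralizer_singleton_iff.mp
        (centralizerPPrimeCore_le_centralizer _ hd)))
    refine le_centralizerPPrimeCore hle (Subgroup.Normal.isSubnormal
      ((normal_subgroupOf_iff_le_normalizer hle).mpr
        (Coprime.le_normalizer_of_conj_mem fun z hz e he => ?_)))
      (hcop.coprime_dvd_left (Subgroup.card_map_dvd _ _)) ⟨⟨y, hyb⟩, hya, rfl⟩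
    obtain ⟨g, rfl⟩ := QuotientGroup.mk'_surjective O z
    obtain ⟨d, hd, rfl⟩ := he
    have hord : orderOf a = p := by
      rw [← Subgroup.orderOf_coe]; exact orderOf_eq_prime (hA.2 _ ha) ha1
    obtain ⟨n, hn, hgn⟩ := exists_mem_centralizer_of_coprime O (a := a)
      (hord ▸ (Thompson.card_pPrimeCore_coprime (p := p) (G := ↥C)).symm)
      (g := g) (mem_centralizer_singleton_iff.mp hz).symm
    refine ⟨g * n * d * (g * n)⁻¹, ?_, ?_⟩
    · show ((g * n : C) : G) * d * ((g * n : C) : G)⁻¹ ∈ centralizerPPrimeCore p (a : G)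
      refine (mem_normalizer_iff.mp ((normalizer_le_normalizer_map_characteristic _
        (pPrimeCore p ↥(Subgroup.centralizer ({(a : G)} : Set G))))
          (Subgroup.le_normalizer ?_)) (d : G)).mp hd
      exact mem_centralizer_singleton_iff.mpr
        (congrArg Subtype.val (mem_centralizer_singleton_iff.mp hgn) :)
    · have hπn : π n = 1 := (QuotientGroup.eq_one_iff n).mpr hn
      simp only [hπ, map_mul, map_inv] at hπn ⊢
      rw [hπn, mul_one]
  rw [hbot, Subgroup.mem_bot, hπ, QuotientGroup.mk'_apply, QuotientGroup.eq_one_iff] at hmem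
  exact ⟨⟨y, hyb⟩, hmem, rfl⟩

omit [Finite G] hp in
/-- Balance is `1`-balance for `p = 2`. -/
theorem isBalanced_of_isKBalanced (h : IsKBalanced 2 1 G) : IsBalanced G := by
  have key : ∀ x y : G, orderOf x = 2 → orderOf y = 2 → x * y = y * x →
      centralizerPPrimeCore 2 x ⊓ Subgroup.centralizer {y} ≤ centralizerPPrimeCore 2 y := by
    intro x y hx hy hxy
    have h2 : ∀ a ∈ Subgroup.zpowers x, a = 1 ∨ a = x := by
      rintro _ ⟨i, rfl⟩
      show x ^ i = 1 ∨ x ^ i = x
      rw [← zpow_mod_orderOf, hx]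
      rcases Int.emod_two_eq i with e | e <;> simp [e]
    have hA : IsElementaryAbelian 2 (Subgroup.zpowers x) := by
      refine ⟨inferInstance, ?_⟩
      intro a ha
      rcases h2 a ha with rfl | rfl
      · exact one_pow 2
      · rw [← hx]; exact pow_orderOf_eq_one _
    refine le_trans (inf_le_inf_right _ ?_)
      (h (Subgroup.zpowers x) hA (by rw [Nat.card_zpowers, hx, pow_one]) y hy fun a ha => ?_)
    · refine le_iInf ?_
      rintro ⟨a, ha, ha1⟩
      obtain rfl := (h2 a ha).resolve_left ha1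
      exact le_rfl
    · rcases h2 a ha with rfl | rfl
      · simp
      · exact hxy
  intro x y hx hy hxy
  exact le_antisymm
    (le_inf (key x y hx hy hxy)
      (inf_le_left.trans (Subgroup.map_subtype_le _)))
    (le_inf (key y x hy hx hxy.symm)
      (inf_le_left.trans (Subgroup.map_subtype_le _)))

omit [Finite G] hp in
/-- A locally balanced group is locally `1`-balanced for `p = 2`. -/
theorem isLocallyKBalanced_of_isLocallyBalanced {K : Type*} [Group K] (h : IsLocallyBalanced K) :
    IsLocallyKBalanced 2 1 K := by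
  intro H hH A hA hcard
  haveI : Finite A := Nat.finite_of_card_ne_zero (by rw [hcard]; norm_num)
  haveI : Nontrivial A := by
    rw [← Finite.one_lt_card_iff_nontrivial, hcard]; norm_num
  obtain ⟨⟨x, hx⟩, hx1⟩ := exists_ne (1 : A)
  have hx1' : x ≠ 1 := fun e => hx1 (Subtype.ext e)
  have hord : orderOf x = 2 := by
    haveI : Fact (Nat.Prime 2) := ⟨Nat.prime_two⟩
    exact orderOf_eq_prime (hA.2 x hx) hx1'
  rw [← le_bot_iff, ← h H hH x hord]
  exact iInf_le (fun a : {a : ↥H // a ∈ A ∧ a ≠ 1} => centralizerPPrimeCore 2 (a : ↥H)) ⟨x, hx, hx1'⟩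

end Cfsg.Agent.Components
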