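import Cfsg.Agent.Lib.Components.LBalance
import Cfsg.Agent.Lib.Components.KBalance
import Cfsg.Agent.Lib.Components.Balance
import Cfsg.Agent.Lib.Components.ComponentIn
import Cfsg.Agent.Signal38.Basic
import Cfsg.Agent.Lib.Coprime.Generation
import Cfsg.Prelude.Def_Balance
import Mathlib.GroupTheory.Sylow

/-!
# Consequences of the solvable signalizer functor theorem

The signalizer functor theorem is taken as a parameter, `SolvableCompleteness`.
-/

set_option autoImplicit false
set_option linter.style.haveILetI false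

namespace Cfsg.Agent.Components

open Subgroup

universe u

/-- The solvable signalizer functor theorem for the prime `p` in the group `G`. -/
def SolvableCompleteness (G : Type u) [Group G] (p : ℕ) : Prop :=
  ∀ A : Subgroup G, (∀ a ∈ A, ∀ b ∈ A, a * b = b * a) → (∀ a ∈ A, a ^ p = 1) →
    p ^ 3 ≤ Nat.card A → ∀ θ : G → Subgroup G,
    (∀ a ∈ A, a ≠ 1 → θ a ≤ Subgroup.centralizer {a}) →
    (∀ a ∈ A, a ≠ 1 → ¬ p ∣ Nat.card (θ a)) →
    (∀ a ∈ A, a ≠ 1 → ∀ b ∈ A, ∀ x ∈ θ a, b * x * b⁻¹ ∈ θ a) →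
    (∀ a ∈ A, a ≠ 1 → Group.IsSolvable (θ a)) →
    (∀ a ∈ A, a ≠ 1 → ∀ b ∈ A, b ≠ 1 → θ a ⊓ Subgroup.centralizer {b} ≤ θ b) →
    ¬ p ∣ Nat.card ↥(⨆ a : {a : G // a ∈ A ∧ a ≠ 1}, θ a) ∧
      ∀ a ∈ A, a ≠ 1 →
        (⨆ b : {a : G // a ∈ A ∧ a ≠ 1}, θ b) ⊓ Subgroup.centralizer {a} = θ a

variable {G : Type u} [Group G] [Finite G] {p : ℕ} [hp : Fact p.Prime]

omit [Finite G] in
theorem sup_elementary {A B : Subgroup G} (hA : IsElementaryAbelian p A)
    (hB : IsElementaryAbelian p B) (hcomm : ∀ a ∈ A, ∀ b ∈ B, a * b = b * a) :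
    IsElementaryAbelian p (A ⊔ B : Subgroup G) := by
  have hc : A ⊔ B ≤ Subgroup.centralizer ((A ⊔ B : Subgroup G) : Set G) := by
    refine sup_le ?_ ?_
    all_goals
      rw [Subgroup.le_centralizer_iff]
      refine sup_le ?_ ?_
    all_goals
      intro x hx
      refine mem_centralizer_iff.mpr fun y hy => ?_
    · exact congrArg Subtype.val (hA.1.is_comm.comm (⟨y, hy⟩ : A) ⟨x, hx⟩)
    · exact hcomm y hy x hx
    · exact (hcomm x hx y hy).symm
    · exact congrArg Subtype.val (hB.1.is_comm.comm (⟨y, hy⟩ : B) ⟨x, hx⟩)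
  refine ⟨⟨⟨fun u v => Subtype.ext (mem_centralizer_iff.mp (hc v.2) u u.2)⟩⟩, ?_⟩
  have hle : A ⊔ B ≤ A ⊔ B := le_rfl
  intro x hx
  have hn : B ≤ Subgroup.normalizer (A : Set G) := fun b hb =>
    Subgroup.centralizer_le_normalizer _ (mem_centralizer_iff.mpr fun a ha => hcomm a ha b hb)
  have hx' : x ∈ ((A ⊔ B : Subgroup G) : Set G) := hx
  rw [Subgroup.coe_mul_of_right_le_normalizer_left A B hn] at hx'
  obtain ⟨a, ha, b, hb, rfl⟩ := hx'
  rw [(show Commute a b from hcomm a ha b hb).mul_pow, hA.2 a ha, hB.2 b hb, one_mul]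

omit hp in
theorem exists_elementary_of_not_pRankLE {C : Subgroup G} (h : ¬ PRankLE p 2 ↥C) :
    ∃ F : Subgroup G, F ≤ C ∧ IsElementaryAbelian p F ∧ p ^ 2 < Nat.card F := by
  by_contra hcon
  apply h
  intro F hFc hF
  by_contra hc
  refine hcon ⟨F.map C.subtype, Subgroup.map_subtype_le _, ⟨?_, ?_⟩, ?_⟩
  · haveI := hFc; infer_instance
  · rintro _ ⟨x, hx, rfl⟩; rw [← map_pow, hF x hx, map_one]
  · rw [Subgroup.card_map_of_injective C.subtype_injective]; exact not_le.mp hc

theorem pow_three_le {F : Subgroup G} (hF : IsElementaryAbelian p F) (h : p ^ 2 < Nat.card F) :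
    p ^ 3 ≤ Nat.card F := by
  obtain ⟨n, hn⟩ := IsPGroup.iff_card.mp (Signal38.isPGroup_of_elementary hF)
  rw [hn] at h ⊢
  exact Nat.pow_le_pow_right hp.out.pos ((Nat.pow_lt_pow_iff_right hp.out.one_lt).mp h)

omit hp in
theorem not_pRankLE_of_le {C F : Subgroup G} (hF : IsElementaryAbelian p F) (hFC : F ≤ C)
    (h : p ^ 2 < Nat.card F) : ¬ PRankLE p 2 ↥C := by
  intro hr
  haveI := hF.1
  have := hr (F.subgroupOf C) inferInstance (fun x hx => Subtype.ext (by simpa using hF.2 _ hx))
  rw [Nat.card_congr (Subgroup.subgroupOfEquivOfLe hFC).toEquiv] at this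
  omega

/-- An equivariant balanced solvable functor on the elements of order `p` with centralizer of
rank at least three is trivial when the rank-two graph is connected. -/
theorem equivariant_functor_trivial (hSF : SolvableCompleteness G p) (hO : pPrimeCore p G = ⊥)
    (hconn : IsRankGraphConnected p 2 G) (θ : G → Subgroup G)
    (hC : ∀ a : G, (orderOf a = p ∧ ¬ PRankLE p 2 ↥(Subgroup.centralizer ({a} : Set G))) →
      θ a ≤ Subgroup.centralizer ({a} : Set G) ∧ ¬ p ∣ Nat.card ↥(θ a) ∧ Group.IsSolvable ↥(θ a))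
    (heq : ∀ a g : G, (orderOf a = p ∧ ¬ PRankLE p 2 ↥(Subgroup.centralizer ({a} : Set G))) →
      θ (g * a * g⁻¹) = (θ a).map (MulAut.conj g).toMonoidHom)
    (hbal : ∀ a b : G, (orderOf a = p ∧ ¬ PRankLE p 2 ↥(Subgroup.centralizer ({a} : Set G))) →
      (orderOf b = p ∧ ¬ PRankLE p 2 ↥(Subgroup.centralizer ({b} : Set G))) →
      a * b = b * a → θ a ⊓ Subgroup.centralizer {b} ≤ θ b)
    {a : G} (ha : orderOf a = p ∧ ¬ PRankLE p 2 ↥(Subgroup.centralizer ({a} : Set G))) :
    θ a = ⊥ := by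
  let W : Subgroup G → Subgroup G := fun E => ⨆ e : {e : G // e ∈ E ∧ e ≠ 1}, θ e
  have hgood : ∀ A : Subgroup G, IsElementaryAbelian p A → p ^ 2 < Nat.card A → ∀ e ∈ A, e ≠ 1 →
      orderOf e = p ∧ ¬ PRankLE p 2 ↥(Subgroup.centralizer ({e} : Set G)) := by
    intro A hA hAc e he he1
    refine ⟨orderOf_eq_prime (hA.2 e he) he1, not_pRankLE_of_le hA (fun x hx => ?_) hAc⟩
    exact mem_centralizer_singleton_iff.mpr
      (congrArg Subtype.val (hA.1.is_comm.comm (⟨x, hx⟩ : A) ⟨e, he⟩))
  -- completeness on subgroups of rank at least three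
  have hcomp : ∀ A : Subgroup G, IsElementaryAbelian p A → p ^ 2 < Nat.card A →
      ¬ p ∣ Nat.card ↥(W A) ∧
      (∀ e ∈ A, e ≠ 1 → W A ⊓ Subgroup.centralizer {e} = θ e) ∧
      A ≤ Subgroup.normalizer (W A : Set G) := by
    intro A hA hAc
    have hinv : ∀ e ∈ A, e ≠ 1 → ∀ b ∈ A, (θ e).map (MulAut.conj b).toMonoidHom = θ e := by
      intro e he he1 b hb
      rw [← heq e b (hgood A hA hAc e he he1),
        show b * e * b⁻¹ = e by
          rw [congrArg Subtype.val (hA.1.is_comm.comm (⟨b, hb⟩ : A) ⟨e, he⟩)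
            |> (fun h : b * e = e * b => h), mul_inv_cancel_right]]
    have h := hSF A (fun u hu v hv => congrArg Subtype.val (hA.1.is_comm.comm (⟨u, hu⟩ : A) ⟨v, hv⟩))
      hA.2 (pow_three_le hA hAc) θ (fun e he he1 => (hC e (hgood A hA hAc e he he1)).1)
      (fun e he he1 => (hC e (hgood A hA hAc e he he1)).2.1)
      (fun e he he1 b hb x hx => (hinv e he he1 b hb).le ⟨x, hx, rfl⟩)
      (fun e he he1 => (hC e (hgood A hA hAc e he he1)).2.2)
      (fun e he he1 b hb hb1 => hbal e b (hgood A hA hAc e he he1) (hgood A hA hAc b hb hb1)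
        (congrArg Subtype.val (hA.1.is_comm.comm (⟨e, he⟩ : A) ⟨b, hb⟩)))
    refine ⟨h.1, h.2, fun b hb => ?_⟩
    rw [← map_conj_eq_iff_mem_normalizer, Subgroup.map_iSup]
    exact iSup_congr fun e => hinv e e.2.1 e.2.2 b hb
  have hWeq : ∀ A E : Subgroup G, IsElementaryAbelian p A → p ^ 2 < Nat.card A → E ≤ A →
      p ^ 2 ≤ Nat.card E → W E = W A := by
    intro A E hA hAc hEA hEc
    refine le_antisymm (iSup_le fun e => le_iSup_of_le ⟨e, hEA e.2.1, e.2.2⟩ le_rfl) ?_
    obtain ⟨hWp, hWC, hWN⟩ := hcomp A hA hAc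
    haveI : IsMulCommutative E := ⟨⟨fun u v => Subtype.ext (congrArg Subtype.val
      (hA.1.is_comm.comm (⟨u, hEA u.2⟩ : A) ⟨v, hEA v.2⟩) :)⟩⟩
    have hEel : IsElementaryAbelian p E := ⟨inferInstance, fun u hu => hA.2 u (hEA hu)⟩
    have hncyc : ¬ IsCyclic E := by
      intro hcy
      obtain ⟨g, hg⟩ := hcy.exists_generator
      have h1 : Nat.card E ≤ p := by
        rw [← orderOf_eq_card_of_forall_mem_zpowers hg]
        exact Nat.le_of_dvd hp.out.pos (orderOf_dvd_of_pow_eq_one (Subtype.ext (hEel.2 g g.2)))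
      have h2 : p < p ^ 2 := by
        calc p = p ^ 1 := (pow_one p).symm
          _ < p ^ 2 := Nat.pow_lt_pow_right hp.out.one_lt (by norm_num)
      omega
    obtain ⟨n, hn⟩ := IsPGroup.iff_card.mp (Signal38.isPGroup_of_elementary hEel)
    refine Coprime.le_of_centralizer_le E (W A) (W E) hncyc (hEA.trans hWN)
      (hn ▸ ((hp.out.coprime_iff_not_dvd).mpr hWp).pow_left n) fun e he he1 => ?_
    rw [hWC e (hEA he) he1]
    exact le_iSup_of_le (⟨e, he, he1⟩ : {e : G // e ∈ E ∧ e ≠ 1}) le_rfl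
  have hext : ∀ E : Subgroup G, IsRankGraphVertex p 2 E →
      ∃ A, IsElementaryAbelian p A ∧ p ^ 2 < Nat.card A ∧ E ≤ A := by
    rintro E ⟨hE, hEc, hEr⟩
    obtain ⟨F, hFC, hF, hFc⟩ := exists_elementary_of_not_pRankLE hEr
    refine ⟨E ⊔ F, sup_elementary hE hF (fun u hu v hv => mem_centralizer_iff.mp (hFC hv) u hu),
      hFc.trans_le (Subgroup.card_le_of_le le_sup_right), le_sup_left⟩
  have hstep : ∀ E E' : Subgroup G, IsRankGraphVertex p 2 E → IsRankGraphVertex p 2 E' →
      (∀ u ∈ E, ∀ v ∈ E', u * v = v * u) → W E = W E' := by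
    intro E E' hE hE' hcomm
    rcases lt_or_ge (p ^ 2) (Nat.card (E ⊔ E' : Subgroup G)) with hlt | hge
    · have hel := sup_elementary hE.1 hE'.1 hcomm
      rw [hWeq _ E hel hlt le_sup_left hE.2.1, hWeq _ E' hel hlt le_sup_right hE'.2.1]
    · have h1 : E = E ⊔ E' := Subgroup.eq_of_le_of_card_ge le_sup_left (hge.trans hE.2.1)
      have h2 : E' = E ⊔ E' := Subgroup.eq_of_le_of_card_ge le_sup_right (hge.trans hE'.2.1)
      rw [h1.trans h2.symm]
  have hconst : ∀ E E' : Subgroup G, IsRankGraphVertex p 2 E → IsRankGraphVertex p 2 E' →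
      W E = W E' := by
    intro E E' hE hE'
    induction hconn E E' hE hE' with
    | refl => rfl
    | tail _ hst ih => exact (ih hst.1).trans (hstep _ _ hst.1 hst.2.1 hst.2.2)
  -- a subgroup of rank three containing `a`
  obtain ⟨F, hFC, hF, hFc⟩ := exists_elementary_of_not_pRankLE ha.2
  have hZa : IsElementaryAbelian p (Subgroup.zpowers a) := by
    refine ⟨inferInstance, ?_⟩
    rintro _ ⟨i, rfl⟩
    show (a ^ i) ^ p = 1
    rw [← zpow_natCast, ← zpow_mul, mul_comm, zpow_mul, zpow_natCast, ← ha.1, pow_orderOf_eq_one,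
      one_zpow]
  set A := Subgroup.zpowers a ⊔ F with hAdef
  have hA : IsElementaryAbelian p A := sup_elementary hZa hF (fun u hu v hv => by
    obtain ⟨i, rfl⟩ := hu
    exact (Commute.zpow_left (mem_centralizer_singleton_iff.mp (hFC hv)).symm i).eq)
  have hAc : p ^ 2 < Nat.card A := hFc.trans_le (Subgroup.card_le_of_le le_sup_right)
  have ha1 : a ≠ 1 := fun h => by
    have := ha.1
    rw [h, orderOf_one] at this
    exact hp.out.one_lt.ne this
  have hAv : IsRankGraphVertex p 2 A := by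
    refine ⟨hA, hAc.le, not_pRankLE_of_le hA (fun x hx => ?_) hAc⟩
    exact mem_centralizer_iff.mpr fun y hy =>
      congrArg Subtype.val (hA.1.is_comm.comm (⟨y, hy⟩ : A) ⟨x, hx⟩)
  haveI hWnormal : (W A).Normal := by
    refine ⟨fun w hw g => ?_⟩
    have hmap : (W A).map (MulAut.conj g).toMonoidHom = W (A.map (MulAut.conj g).toMonoidHom) := by
      apply le_antisymm
      · rw [Subgroup.map_iSup]
        refine iSup_le fun e => ?_
        rw [← heq e g (hgood A hA hAc e e.2.1 e.2.2)]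
        exact le_iSup_of_le (⟨g * e * g⁻¹, ⟨e, e.2.1, rfl⟩, by simpa using e.2.2⟩ :
          {x : G // x ∈ A.map (MulAut.conj g).toMonoidHom ∧ x ≠ 1}) le_rfl
      · refine iSup_le ?_
        rintro ⟨_, ⟨e, he, rfl⟩, hne⟩
        have he1 : e ≠ 1 := fun h => hne (by rw [h, map_one])
        show θ (g * e * g⁻¹) ≤ _
        rw [heq e g (hgood A hA hAc e he he1), Subgroup.map_iSup]
        exact le_iSup_of_le (⟨e, he, he1⟩ : {x : G // x ∈ A ∧ x ≠ 1}) le_rfl
    have hel : IsElementaryAbelian p (A.map (MulAut.conj g).toMonoidHom : Subgroup G) := by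
      haveI := hA.1
      refine ⟨inferInstance, ?_⟩
      rintro _ ⟨x, hx, rfl⟩
      rw [← map_pow, hA.2 x hx, map_one]
    have hcg : p ^ 2 < Nat.card (A.map (MulAut.conj g).toMonoidHom : Subgroup G) := by
      rwa [Subgroup.card_map_of_injective (MulAut.conj g).injective]
    have hv' : IsRankGraphVertex p 2 (A.map (MulAut.conj g).toMonoidHom) := by
      refine ⟨hel, hcg.le, not_pRankLE_of_le hel (fun x hx => ?_) hcg⟩
      exact mem_centralizer_iff.mpr fun y hy =>
        congrArg Subtype.val (hel.1.is_comm.comm (⟨y, hy⟩ : (A.map (MulAut.conj g).toMonoidHom : Subgroup G)) ⟨x, hx⟩)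
    rw [hconst A _ hAv hv', ← hmap]
    exact ⟨w, hw, rfl⟩
  have hle : W A ≤ pPrimeCore p G :=
    Thompson.le_pPrimeCore inferInstance (((hp.out.coprime_iff_not_dvd).mpr (hcomp A hA hAc).1).symm)
  rw [hO, le_bot_iff] at hle
  exact le_bot_iff.mp (hle ▸ (le_iSup_of_le (⟨a, Subgroup.mem_sup_left (Subgroup.mem_zpowers a), ha1⟩ :
    {e : G // e ∈ A ∧ e ≠ 1}) le_rfl : θ a ≤ W A))

/-- In a `p`-constrained group the `p'`-core of a centralizer lies in the `p'`-core. -/
theorem centralizerPPrimeCore_le_of_pLayer_eq_bot (h : pLayer p G = ⊥) {a : G}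
    (ha : orderOf a = p) : centralizerPPrimeCore p a ≤ pPrimeCore p G := by
  set π := QuotientGroup.mk' (pPrimeCore p G) with hπ
  set D := (centralizerPPrimeCore p a).map π with hD
  have hcop : (Nat.card D).Coprime p :=
    (Signal38.centralizerPPrimeCore_card_coprime p a).coprime_dvd_left (Subgroup.card_map_dvd _ _)
  have hle : D ≤ Subgroup.centralizer ({π a} : Set (G ⧸ pPrimeCore p G)) := by
    rintro _ ⟨d, hd, rfl⟩
    rw [mem_centralizer_singleton_iff, ← map_mul, ← map_mul,
      mem_centralizer_singleton_iff.mp (centralizerPPrimeCore_le_centralizer a hd)]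
  have hDa : D ≤ centralizerPPrimeCore p (π a) := by
    refine Signal38.le_centralizerPPrimeCore_of_le_normalizer hle ?_ hcop
    refine Coprime.le_normalizer_of_conj_mem fun z hz d' hd' => ?_
    obtain ⟨g, rfl⟩ := QuotientGroup.mk'_surjective _ z
    obtain ⟨d, hd, rfl⟩ := hd'
    obtain ⟨n, hn, hgn⟩ := exists_mem_centralizer_of_coprime (pPrimeCore p G) (a := a)
      (ha ▸ (Thompson.card_pPrimeCore_coprime (p := p) (G := G)).symm)
      (g := g) (mem_centralizer_singleton_iff.mp hz).symm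
    refine ⟨g * n * d * (g * n)⁻¹, (mem_normalizer_iff.mp
      (Signal38.centralizer_le_normalizer_centralizerPPrimeCore p a hgn) d).mp hd, ?_⟩
    have hπn : π n = 1 := (QuotientGroup.eq_one_iff n).mpr hn
    simp only [hπ, map_mul, map_inv] at hπn ⊢
    rw [hπn, mul_one]
  have hpg : IsPGroup p ↥(Subgroup.zpowers (π a)) := by
    have hdvd : Nat.card ↥(Subgroup.zpowers (π a)) ∣ p := by
      rw [Nat.card_zpowers]; exact ha ▸ orderOf_map_dvd π a
    rcases (Nat.dvd_prime hp.out).mp hdvd with h1 | h1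
    · exact IsPGroup.of_card (n := 0) (by rw [h1, pow_zero])
    · exact IsPGroup.of_card (n := 1) (by rw [h1, pow_one])
  have hp' : D ≤ pCore p (G ⧸ pPrimeCore p G) := hDa.trans
    ((centralizerPPrimeCore_le_localLayerCover (π a)).trans
      (localLayerCover_le_pCore_of_layer_eq_bot Thompson.pPrimeCore_quotient_pPrimeCore
        (pLayer_eq_bot_iff.mp h) hpg))
  obtain ⟨j, hj⟩ := IsPGroup.iff_card.mp ((Thompson.isPGroup_pCore (p := p)).to_le hp')
  have hbot : D = ⊥ := by
    rw [← Subgroup.card_eq_one]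
    exact Nat.eq_one_of_dvd_coprimes (hcop.pow_right j) dvd_rfl (hj ▸ dvd_rfl)
  rw [hD, Subgroup.map_eq_bot_iff, hπ, QuotientGroup.ker_mk'] at hbot
  exact hbot

/-- Trivial `p`-layers and solvable cores: the cores of the centralizers vanish. -/
theorem generalizedFitting_eq_pCore_of_trivial_pLayers (hSF : SolvableCompleteness G p)
    (hO : pPrimeCore p G = ⊥) (hconn : IsRankGraphConnected p 2 G)
    (hL : ∀ a : G, (orderOf a = p ∧ ¬ PRankLE p 2 ↥(Subgroup.centralizer ({a} : Set G))) →
      pLayer p ↥(Subgroup.centralizer ({a} : Set G)) = ⊥ ∧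
        Group.IsSolvable ↥(centralizerPPrimeCore p a))
    {a : G} (ha : orderOf a = p ∧ ¬ PRankLE p 2 ↥(Subgroup.centralizer ({a} : Set G))) :
    generalizedFittingSubgroup ↥(Subgroup.centralizer ({a} : Set G)) =
      pCore p ↥(Subgroup.centralizer ({a} : Set G)) := by
  have hθ : centralizerPPrimeCore p a = ⊥ := by
    refine equivariant_functor_trivial hSF hO hconn (fun x => centralizerPPrimeCore p x)
      (fun x hx => ⟨centralizerPPrimeCore_le_centralizer x, ?_, (hL x hx).2⟩)
      (fun x g _ => ?_) (fun x y hx hy hxy => ?_) ha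
    · exact (hp.out.coprime_iff_not_dvd).mp (Signal38.centralizerPPrimeCore_card_coprime p x).symm
    · symm
      have hle : ∀ (g x : G), (centralizerPPrimeCore p x).map (MulAut.conj g).toMonoidHom ≤
          centralizerPPrimeCore p (g * x * g⁻¹) := by
        intro g x
        have hC := map_conj_centralizer_singleton g x
        refine Signal38.le_centralizerPPrimeCore_of_le_normalizer
          (hC ▸ Subgroup.map_mono (centralizerPPrimeCore_le_centralizer x)) ?_ ?_
        · rw [← hC]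
          exact (Subgroup.map_mono
            (Signal38.centralizer_le_normalizer_centralizerPPrimeCore p x)).trans
              (Subgroup.map_normalizer_eq_of_bijective _ (MulAut.conj g).bijective).le
        · rw [Subgroup.card_map_of_injective (MulAut.conj g).injective]
          exact Signal38.centralizerPPrimeCore_card_coprime p x
      refine le_antisymm (hle g x) fun z hz => ?_
      have h2 := hle g⁻¹ (g * x * g⁻¹) ⟨z, hz, rfl⟩
      rw [show g⁻¹ * (g * x * g⁻¹) * g⁻¹⁻¹ = x by group] at h2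
      exact ⟨_, h2, by simp [mul_assoc]⟩
    · rintro z ⟨hzx, hzy⟩
      set X := Subgroup.centralizer ({y} : Set G) with hX
      let x' : ↥X := ⟨x, mem_centralizer_singleton_iff.mpr hxy⟩
      have hz' : (⟨z, hzy⟩ : ↥X) ∈ centralizerPPrimeCore p x' := by
        have hle : (centralizerPPrimeCore p x).subgroupOf X ≤ Subgroup.centralizer ({x'} : Set ↥X) :=
          fun w hw => mem_centralizer_singleton_iff.mpr
            (Subtype.ext (mem_centralizer_singleton_iff.mp (centralizerPPrimeCore_le_centralizer x hw)))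
        refine Signal38.le_centralizerPPrimeCore_of_le_normalizer hle ?_ ?_ hzx
        · refine Coprime.le_normalizer_of_conj_mem fun c hc w hw => ?_
          have hc' : (c : G) ∈ Subgroup.centralizer ({x} : Set G) :=
            mem_centralizer_singleton_iff.mpr (congrArg Subtype.val (mem_centralizer_singleton_iff.mp hc) :)
          exact (mem_normalizer_iff.mp
            (Signal38.centralizer_le_normalizer_centralizerPPrimeCore p x hc') (w : G)).mp hw
        · exact (Signal38.centralizerPPrimeCore_card_coprime p x).coprime_dvd_left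
            (Subgroup.card_comap_dvd_of_injective _ X.subtype X.subtype_injective)
      have h2 := centralizerPPrimeCore_le_of_pLayer_eq_bot (hL y hy).1
        (a := x') (by rw [Subgroup.orderOf_mk, hx.1]) hz'
      exact ⟨⟨z, hzy⟩, h2, rfl⟩
  have hOC : pPrimeCore p ↥(Subgroup.centralizer ({a} : Set G)) = ⊥ :=
    (Subgroup.map_eq_bot_iff_of_injective _ (Subgroup.subtype_injective _)).mp hθ
  have hlayer : layer ↥(Subgroup.centralizer ({a} : Set G)) = ⊥ := by
    refine layer_eq_bot_iff.mpr fun L hL' => ?_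
    have h1 := pLayer_eq_bot_iff.mp (hL a ha).1
    set π := QuotientGroup.mk' (pPrimeCore p ↥(Subgroup.centralizer ({a} : Set G)))
    have hinj : Function.Injective π := by
      rw [← MonoidHom.ker_eq_bot_iff, QuotientGroup.ker_mk', hOC]
    exact component_ne_bot hL' ((Subgroup.map_eq_bot_iff_of_injective _ hinj).mp
      (le_bot_iff.mp (h1 ▸ component_le_layer
        (component_map_equiv (MulEquiv.ofBijective π ⟨hinj, QuotientGroup.mk'_surjective _⟩) hL'))))
  rw [generalizedFittingSubgroup, hlayer, bot_sup_eq, fitting_eq_pCore_of_pPrimeCore_eq_bot hOC]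

end Cfsg.Agent.Components
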