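import Cfsg.Agent.Lib.Components.Local

/-!
# Components and `O_{p'}(C_G(x))` for an element `x` of order `p`
-/

set_option autoImplicit false
set_option linter.style.haveILetI false

namespace Cfsg.Agent.Components

open Subgroup
open scoped commutatorElement

section OrbitProd

variable {G : Type*} [Group G]

/-- The product `l * x l x⁻¹ * ⋯ * x^(n-1) l x^-(n-1)`. -/
def orbitProd (x : G) : ℕ → G → G
  | 0, _ => 1
  | n + 1, l => orbitProd x n l * (x ^ n * l * (x ^ n)⁻¹)

theorem commute_orbitProd {x y l : G} : ∀ n : ℕ,
    (∀ i < n, Commute y (x ^ i * l * (x ^ i)⁻¹)) → Commute y (orbitProd x n l)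
  | 0, _ => Commute.one_right y
  | n + 1, h => (commute_orbitProd n fun i hi => h i (by omega)).mul_right (h n (by omega))

theorem mul_conj_orbitProd (x l : G) : ∀ n : ℕ,
    l * (x * orbitProd x n l * x⁻¹) = orbitProd x (n + 1) l
  | 0 => by simp [orbitProd]
  | n + 1 => by
    have ih := mul_conj_orbitProd x l n
    calc l * (x * orbitProd x (n + 1) l * x⁻¹)
        = l * (x * orbitProd x n l * x⁻¹) * (x * (x ^ n * l * (x ^ n)⁻¹) * x⁻¹) := by
          simp only [orbitProd]; group
      _ = orbitProd x (n + 1 + 1) l := by
          rw [ih]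
          conv_rhs => rw [orbitProd]
          rw [pow_succ' x n]
          group

theorem conj_orbitProd {x e : G} (he : Commute e x) (l : G) : ∀ n : ℕ,
    e * orbitProd x n l * e⁻¹ = orbitProd x n (e * l * e⁻¹)
  | 0 => by simp [orbitProd]
  | n + 1 => by
    have ih := conj_orbitProd he l n
    have h : e * (x ^ n * l * (x ^ n)⁻¹) * e⁻¹ = x ^ n * (e * l * e⁻¹) * (x ^ n)⁻¹ := by
      have h1 : e * x ^ n = x ^ n * e := (he.pow_right n).eq
      calc e * (x ^ n * l * (x ^ n)⁻¹) * e⁻¹
          = (e * x ^ n) * l * (e * x ^ n)⁻¹ := by group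
        _ = _ := by rw [h1]; group
    simp only [orbitProd]
    rw [← h, ← ih]
    group

theorem map_conj_eq_map_conj_iff {L : Subgroup G} {a b : G} :
    L.map (MulAut.conj a).toMonoidHom = L.map (MulAut.conj b).toMonoidHom ↔
      b⁻¹ * a ∈ Subgroup.normalizer (L : Set G) := by
  rw [← map_conj_eq_iff_mem_normalizer]
  constructor
  · intro h
    have := congrArg (Subgroup.map (MulAut.conj b⁻¹).toMonoidHom) h
    rw [Subgroup.map_map, Subgroup.map_map] at this
    convert this using 1
    · congr 1
      ext g
      simp [mul_assoc]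
    · conv_lhs => rw [← Subgroup.map_id L]
      congr 1
      ext g
      simp [mul_assoc]
  · intro h
    conv_rhs => rw [← h, Subgroup.map_map]
    congr 1
    ext g
    simp [mul_assoc]

theorem component_commute {L M : Subgroup G} (hL : IsComponent L) (hM : IsComponent M)
    (hne : L ≠ M) {a b : G} (ha : a ∈ L) (hb : b ∈ M) : Commute a b :=
  (mem_centralizer_iff.mp (component_le_centralizer hL hM hne ha) b hb).symm

theorem conj_mem_map_conj (L : Subgroup G) (g : G) {a : G} (ha : a ∈ L) :
    g * a * g⁻¹ ∈ L.map (MulAut.conj g).toMonoidHom := ⟨a, ha, rfl⟩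

/-- Conjugates of elements of a component by elements in different cosets of its normalizer
commute. -/
theorem component_commute_conj {L : Subgroup G} (hL : IsComponent L) {g h a b : G}
    (hne : h⁻¹ * g ∉ Subgroup.normalizer (L : Set G)) (ha : a ∈ L) (hb : b ∈ L) :
    Commute (g * a * g⁻¹) (h * b * h⁻¹) :=
  component_commute (component_map_conj g hL) (component_map_conj h hL)
    (fun e => hne (map_conj_eq_map_conj_iff.mp e)) (conj_mem_map_conj L g ha)
    (conj_mem_map_conj L h hb)

end OrbitProd

section Main

variable {G : Type*} [Group G] [Finite G] {p : ℕ} [hp : Fact p.Prime]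

/-- A component of order divisible by `p` centralizes the `p'`-core. -/
theorem component_commutator_pPrimeCore {L : Subgroup G} (hL : IsComponent L)
    (hdvd : p ∣ Nat.card L) : ⁅L, pPrimeCore p G⁆ = ⊥ :=
  (component_le_or_commutator_eq_bot_of_normal hL (pPrimeCore p G)).resolve_left fun h =>
    Thompson.not_dvd_card_pPrimeCore (hdvd.trans (Subgroup.card_dvd_of_le h))

omit [Finite G] hp in
theorem mem_centralizer_of_mem_centralizerPPrimeCore {x y : G}
    (hy : y ∈ centralizerPPrimeCore p x) : y ∈ Subgroup.centralizer ({x} : Set G) :=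
  Subgroup.map_subtype_le _ hy

omit hp in
theorem orderOf_coprime_of_mem_centralizerPPrimeCore {x y : G}
    (hy : y ∈ centralizerPPrimeCore p x) : (orderOf y).Coprime p := by
  obtain ⟨z, hz, rfl⟩ := hy
  rw [Subgroup.coe_subtype, Subgroup.orderOf_coe]
  exact Thompson.card_pPrimeCore_coprime.coprime_dvd_left (Subgroup.orderOf_dvd_natCard _ hz)

omit hp in
theorem centralizerPPrimeCore_coprime (x : G) :
    (Nat.card ↥(centralizerPPrimeCore p x)).Coprime p :=
  Thompson.card_pPrimeCore_coprime.coprime_dvd_left (Subgroup.card_map_dvd _ _)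

/-- If `O_{p'}(G) = 1`, `x` has order `p` and `L` is a component with `⁅L, ⟨x⟩⁆ ≠ L`, then `L`
centralizes `O_{p'}(C_G(x))`. -/
theorem component_commutator_centralizerPPrimeCore (hO : pPrimeCore p G = ⊥) {x : G}
    (hx : orderOf x = p) {L : Subgroup G} (hL : IsComponent L)
    (hne : ⁅L, Subgroup.zpowers x⁆ ≠ L) : ⁅L, centralizerPPrimeCore p x⁆ = ⊥ := by
  set C := Subgroup.centralizer ({x} : Set G) with hC
  have hLp : p ∣ Nat.card L := dvd_card_component hO hL
  by_cases hxN : x ∈ Subgroup.normalizer (L : Set G)
  · -- `x` centralizes `L`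
    have hcen : x ∈ Subgroup.centralizer (L : Set G) := by
      refine mem_centralizer_of_commutator_mem_centralizer (component_commutator_eq_self hL) hxN
        fun l hl => ?_
      set M := ⁅L, Subgroup.zpowers x⁆ with hM
      have hML : M ≤ L := Coprime.commutator_le_of_le_normalizer
        (Subgroup.zpowers_le.mpr hxN)
      have hMn : (M.subgroupOf L).Normal := (normal_subgroupOf_iff_le_normalizer hML).mpr
        (Coprime.le_normalizer_commutator_left _ _)
      have hmem : x * l * x⁻¹ * l⁻¹ ∈ M := by
        rw [hM, commutator_comm]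
        exact commutator_mem_commutator (Subgroup.mem_zpowers x) hl
      rw [mem_centralizer_iff]
      intro a ha
      exact congrArg Subtype.val (mem_center_iff.mp
        (((normal_eq_top_or_le_center hL.2 (M.subgroupOf L)).resolve_left fun h =>
          hne (le_antisymm hML (subgroupOf_eq_top.mp h)))
          (show (⟨_, hML hmem⟩ : L) ∈ M.subgroupOf L from hmem)) ⟨a, ha⟩)
    have hLC : L ≤ C := fun l hl => mem_centralizer_singleton_iff.mpr
      (mem_centralizer_iff.mp hcen l hl)
    have h := component_commutator_pPrimeCore (p := p) (component_subgroupOf hL hLC)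
      (hLp.trans (Nat.card_congr (Subgroup.subgroupOfEquivOfLe hLC).toEquiv).symm.dvd)
    have h' := congrArg (Subgroup.map C.subtype) h
    rwa [Subgroup.map_commutator, map_subgroupOf_eq_of_le hLC, Subgroup.map_bot] at h'
  · -- `x` moves `L`
    set N := Subgroup.normalizer (L : Set G) with hN
    have hxp : x ^ p = 1 := hx ▸ pow_orderOf_eq_one x
    have hcop : ∀ i, 0 < i → i < p → x ^ i ∉ N := fun i h0 h1 hmem => hxN <| by
      obtain ⟨m, hm⟩ := exists_pow_eq_self_of_coprime (x := x) (n := i)
        (hx ▸ ((hp.out.coprime_iff_not_dvd).mpr (Nat.not_dvd_of_pos_of_lt h0 h1)).symm)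
      exact hm ▸ pow_mem hmem m
    have hcomm : ∀ i j, i < p → j < p → i ≠ j → ∀ a ∈ L, ∀ b ∈ L,
        Commute (x ^ i * a * (x ^ i)⁻¹) (x ^ j * b * (x ^ j)⁻¹) := by
      intro i j hi hj hij a ha b hb
      refine component_commute_conj hL (fun hmem => ?_) ha hb
      rcases Nat.lt_or_gt_of_ne hij with h | h
      · refine hcop (j - i) (by omega) (by omega) ?_
        have := inv_mem hmem
        rwa [show ((x ^ j)⁻¹ * x ^ i)⁻¹ = x ^ (j - i) by
          rw [mul_inv_rev, inv_inv, pow_sub x h.le]
          exact ((Commute.refl x).pow_pow j i).inv_right.eq.symm] at this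
      · refine hcop (i - j) (by omega) (by omega) ?_
        rwa [show (x ^ j)⁻¹ * x ^ i = x ^ (i - j) by
          rw [pow_sub x h.le]
          exact ((Commute.refl x).pow_pow i j).inv_right.eq.symm] at hmem
    -- the diagonal homomorphism
    have hmul : ∀ n ≤ p, ∀ a ∈ L, ∀ b ∈ L,
        orbitProd x n (a * b) = orbitProd x n a * orbitProd x n b := by
      intro n
      induction n with
      | zero => intros; simp [orbitProd]
      | succ n ih =>
        intro hn a ha b hb
        have hc : Commute (x ^ n * a * (x ^ n)⁻¹) (orbitProd x n b) :=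
          commute_orbitProd n fun i hi => hcomm n i hn (by omega) (by omega) a ha b hb
        simp only [orbitProd]
        rw [ih (by omega) a ha b hb]
        calc _ = orbitProd x n a * (orbitProd x n b * (x ^ n * a * (x ^ n)⁻¹)) *
              (x ^ n * b * (x ^ n)⁻¹) := by group
          _ = _ := by rw [← hc.eq]; group
    have hfix : ∀ a ∈ L, orbitProd x p a ∈ C := by
      intro a ha
      have h1 := mul_conj_orbitProd x a p
      have h2 : orbitProd x (p + 1) a = orbitProd x p a * a := by simp [orbitProd, hxp]
      have h3 : Commute a (orbitProd x p a) := by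
        refine commute_orbitProd p fun i hi => ?_
        rcases Nat.eq_zero_or_pos i with rfl | hi0
        · simp
        · simpa using hcomm 0 i hp.out.pos hi hi0.ne a ha a ha
      rw [h2, ← h3.eq] at h1
      exact mem_centralizer_singleton_iff.mpr (mul_inv_eq_iff_eq_mul.mp (mul_left_cancel h1)).symm
    -- the tail of the product centralizes `L`
    have htail : ∀ a ∈ L, ∀ b ∈ L,
        Commute b (a⁻¹ * orbitProd x p a) := by
      intro a ha b hb
      obtain ⟨k, hk⟩ : ∃ k, p = k + 1 := ⟨p - 1, by have := hp.out.pos; omega⟩
      rw [hk, ← mul_conj_orbitProd, inv_mul_cancel_left]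
      have hb' : Commute (x⁻¹ * b * x) (orbitProd x k a) := by
        refine commute_orbitProd k fun i hi => ?_
        have h := hcomm 0 (i + 1) hp.out.pos (by omega) (by omega) b hb a ha
        have h' : Commute (x⁻¹ * b * x) (x⁻¹ * (x ^ (i + 1) * a * (x ^ (i + 1))⁻¹) * x) := by
          have := Commute.map h (MulAut.conj x⁻¹).toMonoidHom
          simpa [mul_assoc] using this
        convert h' using 1
        rw [pow_succ' x i]
        group
      have := Commute.map hb' (MulAut.conj x).toMonoidHom
      simpa [mul_assoc] using this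
    let f : L →* C :=
      { toFun := fun a => ⟨orbitProd x p a, hfix a a.2⟩
        map_one' := by
          apply Subtype.ext
          show orbitProd x p ((1 : L) : G) = 1
          have : ∀ n, orbitProd x n (1 : G) = 1 := fun n => by
            induction n with
            | zero => rfl
            | succ n ih => simp [orbitProd, ih]
          simpa using this p
        map_mul' := fun a b => Subtype.ext (hmul p le_rfl a a.2 b b.2) }
    have hfval : ∀ a : L, ((f a : C) : G) = orbitProd x p a := fun _ => rfl
    have hker : f.ker ≤ center L := by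
      intro a ha
      rw [mem_center_iff]
      intro b
      have h0 : orbitProd x p (a : G) = 1 := congrArg Subtype.val (MonoidHom.mem_ker.mp ha)
      have := htail a a.2 b b.2
      rw [h0, mul_one] at this
      exact Subtype.ext (Commute.inv_right this |> fun h => by simpa using h.eq)
    have hDp : p ∣ Nat.card f.range := by
      rw [← Subgroup.index_ker]
      exact (dvd_card_quotient_center_of_isQuasisimple hL.2 hLp).trans
        (Subgroup.index_dvd_of_le hker)
    haveI : Nontrivial f.range := by
      rw [← Finite.one_lt_card_iff_nontrivial]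
      exact lt_of_lt_of_le hp.out.one_lt (Nat.le_of_dvd Nat.card_pos hDp)
    set W := (layer G).subgroupOf C with hW
    have hlayerN : layer G ≤ N := layer_le_normalizer hL
    have hDW : f.range ≤ W := by
      rintro _ ⟨a, rfl⟩
      show orbitProd x p (a : G) ∈ layer G
      have : ∀ n, orbitProd x n (a : G) ∈ layer G := fun n => by
        induction n with
        | zero => exact one_mem _
        | succ n ih =>
          exact mul_mem ih
            ((inferInstance : (layer G).Normal).conj_mem _ (component_le_layer hL a.2) _)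
      exact this p
    have hD : IsComponent f.range := by
      refine ⟨Subgroup.IsSubnormal.step _ W hDW
        (inferInstance : W.Normal).isSubnormal
        ((normal_subgroupOf_iff_le_normalizer hDW).mpr ?_),
        isQuasisimple_of_surjective hL.2 f.rangeRestrict f.rangeRestrict_surjective⟩
      refine Coprime.le_normalizer_of_conj_mem fun e he d hd => ?_
      obtain ⟨a, rfl⟩ := hd
      have hm : (e : G) * a * (e : G)⁻¹ ∈ L :=
        (mem_normalizer_iff.mp (hlayerN he) _).mp a.2
      refine ⟨⟨_, hm⟩, Subtype.ext ?_⟩
      exact (conj_orbitProd (mem_centralizer_singleton_iff.mp e.2) (a : G) p).symm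
    have hDO := commutator_eq_bot_iff_le_centralizer.mp (component_commutator_pPrimeCore hD hDp)
    rw [commutator_eq_bot_iff_le_centralizer, Subgroup.le_centralizer_iff]
    intro y hy
    have hyC : Commute y x :=
      mem_centralizer_singleton_iff.mp (mem_centralizer_of_mem_centralizerPPrimeCore hy)
    have hyD : ∀ a ∈ L, orbitProd x p (y * a * y⁻¹) = orbitProd x p a := by
      intro a ha
      obtain ⟨z, hz, rfl⟩ := hy
      rw [Subgroup.coe_subtype, ← conj_orbitProd (by simpa using hyC) a p]
      have := mem_centralizer_iff.mp (hDO ⟨⟨a, ha⟩, rfl⟩) z hz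
      have h' : (z : G) * orbitProd x p a = orbitProd x p a * (z : G) := congrArg Subtype.val this
      rw [h']
      group
    have hyN : y ∈ N := by
      by_contra hyN
      have hg : ∀ g ∈ Subgroup.zpowers x, g⁻¹ * y ∉ N := by
        intro g hg hmem
        have hyc : (orderOf y).Coprime p := orderOf_coprime_of_mem_centralizerPPrimeCore hy
        obtain ⟨k, rfl⟩ := Subgroup.mem_zpowers_iff.mp hg
        have hc : Commute ((x ^ k)⁻¹) y := (hyC.symm.zpow_left k).inv_left
        have h1 : ((x ^ k)⁻¹) ^ orderOf y ∈ N := by
          have := pow_mem hmem (orderOf y)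
          rwa [hc.mul_pow, pow_orderOf_eq_one, mul_one] at this
        have h2 : (orderOf y).Coprime (orderOf ((x ^ k)⁻¹)) := by
          refine hyc.coprime_dvd_right ?_
          rw [orderOf_inv, ← hx]
          exact orderOf_dvd_of_mem_zpowers (Subgroup.mem_zpowers_iff.mpr ⟨k, rfl⟩)
        obtain ⟨m, hm⟩ := exists_pow_eq_self_of_coprime h2
        have h3 : (x ^ k)⁻¹ ∈ N := hm ▸ pow_mem h1 m
        exact hyN ((mul_mem_cancel_left h3).mp hmem)
      refine not_isMulCommutative_of_isQuasisimple hL.2 ⟨⟨fun a b => Subtype.ext ?_⟩⟩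
      have hc1 : Commute (b : G) (orbitProd x p (a : G)) := by
        rw [← hyD a a.2]
        refine commute_orbitProd p fun i _ => ?_
        have h := component_commute_conj hL (g := (1 : G)) (h := x ^ i * y) ?_ b.2 a.2
        · simpa [mul_assoc] using h
        · intro hmem
          rw [mul_one] at hmem
          refine hg ((x ^ i)⁻¹) (inv_mem (pow_mem (Subgroup.mem_zpowers x) i)) ?_
          rw [inv_inv]
          exact inv_mem_iff.mp hmem
      have hc2 := hc1.mul_right (htail a a.2 b b.2).inv_right
      simp only [mul_inv_rev, inv_inv] at hc2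
      have hc3 : Commute (b : G) (a : G) := by simpa using hc2
      exact hc3.eq.symm
    refine mem_centralizer_of_commutator_mem_centralizer (component_commutator_eq_self hL) hyN
      fun l hl => ?_
    have hm : y * l * y⁻¹ ∈ L := (mem_normalizer_iff.mp hyN l).mp hl
    have hk : (⟨y * l * y⁻¹, hm⟩ * (⟨l, hl⟩ : L)⁻¹ : L) ∈ f.ker := by
      rw [MonoidHom.mem_ker, map_mul, map_inv, mul_inv_eq_one]
      exact Subtype.ext (hyD l hl)
    exact mem_centralizer_iff.mpr fun b hb =>
      congrArg Subtype.val (mem_center_iff.mp (hker hk) ⟨b, hb⟩)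

end Main

end Cfsg.Agent.Components
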