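import Mathlib
import Cfsg.Agent.ConjFunctor.Fusion
import Cfsg.Agent.Lib.Thompson.Cores

/-!
# Automorphisms fixing a Sylow `2`-subgroup

For a finite group `G` with trivial centre and `O(G) = 1`, the automorphisms fixing a Sylow
`2`-subgroup elementwise form a group with abelian Sylow `2`-subgroups and a normal
`2`-complement (Glauberman). The `Z*`-theorem is taken as a parameter.
-/

set_option autoImplicit false
set_option linter.style.haveILetI false

namespace Cfsg.Agent.Components

open Subgroup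
open Cfsg.Agent.ConjFunctor
open scoped Pointwise

section Isolated

variable {H : Type*} [Group H] [Finite H] {p : ℕ} [hp : Fact p.Prime]

/-- If `H = NA` with `A` central in the Sylow subgroup `T`, and an automorphism `φ` of `H` fixes
`T ∩ N` pointwise and stabilizes `N` and `A`, then every `a⁻¹ φ(a)`, `a ∈ A`, is alone in its
conjugacy class in `T`. -/
theorem isolated_inv_mul_map (T : Sylow p H) (N : Subgroup H) [N.Normal] (A : Subgroup H)
    (hNA : N ⊔ A = ⊤) (hAT : A ≤ (T : Subgroup H))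
    (hAc : (T : Subgroup H) ≤ Subgroup.centralizer (A : Set H))
    (φ : H ≃* H) (hfix : ∀ r ∈ N, r ∈ (T : Subgroup H) → φ r = r)
    (hφN : ∀ x ∈ N, φ x ∈ N) (hφA : ∀ x ∈ A, φ x ∈ A) {a : H} (ha : a ∈ A) {g : H}
    (hg : g * (a⁻¹ * φ a) * g⁻¹ ∈ (T : Subgroup H)) :
    g * (a⁻¹ * φ a) * g⁻¹ = a⁻¹ * φ a := by
  set τ := a⁻¹ * φ a with hτ
  have hτA : τ ∈ A := mul_mem (inv_mem ha) (hφA a ha)
  have hcomm : ∀ x y : H, x * y * x⁻¹ * y⁻¹ ∈ N := by
    intro x y
    have hA : ∀ z : H, ∃ w ∈ A, QuotientGroup.mk' N z = QuotientGroup.mk' N w := by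
      intro z
      have hz : z ∈ ((N ⊔ A : Subgroup H) : Set H) := by
        rw [hNA]; exact Subgroup.mem_top z
      rw [Subgroup.normal_mul] at hz
      obtain ⟨n, hn, w, hw, rfl⟩ := hz
      refine ⟨w, hw, ?_⟩
      rw [map_mul, QuotientGroup.mk'_apply N n, (QuotientGroup.eq_one_iff n).mpr hn, one_mul]
    obtain ⟨u, hu, hxu⟩ := hA x
    obtain ⟨v, hv, hyv⟩ := hA y
    rw [← QuotientGroup.eq_one_iff, ← QuotientGroup.mk'_apply]
    simp only [map_mul, map_inv, hxu, hyv]
    rw [← map_inv, ← map_inv, ← map_mul, ← map_mul, ← map_mul,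
      mem_centralizer_iff.mp (hAc (hAT hv)) u hu]
    simp
  -- the fully normalized case
  have key : ∀ (k : ℕ) (U : Subgroup H), U ∈ fullyFamily p (T : Subgroup H) →
      Nat.card ↥(T : Subgroup H) ≤ Nat.card ↥U + k → τ ∈ U →
      ∀ n ∈ nrm U, n * τ * n⁻¹ = τ := by
    intro k
    induction k using Nat.strong_induction_on with
    | _ k ih =>
    intro U hU hk hτU n hn
    obtain ⟨hUT, hUf⟩ := hU
    have hTn : IsSylowIn p ((T : Subgroup H) ⊓ nrm U) (nrm U) := hUf.isSylowIn T.2
    by_cases hAU : A ≤ U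
    · have hdec : ∀ u ∈ U, ∃ r ∈ N, r ∈ U ∧ ∃ b ∈ A, u = r * b := by
        intro u hu
        have hu' : u ∈ ((N ⊔ A : Subgroup H) : Set H) := by
          rw [hNA]; exact Subgroup.mem_top u
        rw [Subgroup.normal_mul] at hu'
        obtain ⟨r, hr, b, hb, rfl⟩ := hu'
        exact ⟨r, hr, (mul_mem_cancel_right (hAU hb)).mp hu, b, hb, rfl⟩
      have hφU : ∀ u ∈ U, φ u ∈ U := by
        intro u hu
        obtain ⟨r, hr, hrU, b, hb, rfl⟩ := hdec u hu
        rw [map_mul, hfix r hr (hUT hrU)]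
        exact mul_mem hrU (hAU (hφA b hb))
      have hφUeq : U.map φ.toMonoidHom = U :=
        Subgroup.eq_of_le_of_card_ge (by rintro _ ⟨u, hu, rfl⟩; exact hφU u hu)
          (Nat.card_congr (Subgroup.equivMapOfInjective _ _ φ.injective).toEquiv).le
      have hnN : φ n ∈ nrm U := by
        refine mem_nrm_of_forall fun x hx => ?_
        obtain ⟨x, hx', rfl⟩ := hφUeq.ge hx
        show φ n * φ x * (φ n)⁻¹ ∈ U
        rw [← map_inv, ← map_mul, ← map_mul]
        exact hφU _ (conj_mem_of_nrm hn hx')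
      set m := n⁻¹ * φ n with hm
      have hmU : m ∈ nrm U := mul_mem (inv_mem hn) hnN
      have hmR : ∀ r ∈ N, r ∈ U → m * r * m⁻¹ = r := by
        intro r hr hrU
        have h1 : φ n * r * (φ n)⁻¹ = n * r * n⁻¹ := by
          have h2 := hfix (n * r * n⁻¹) ((inferInstance : N.Normal).conj_mem r hr n)
            (hUT (conj_mem_of_nrm hn hrU))
          rw [map_mul, map_mul, map_inv, hfix r hr (hUT hrU)] at h2
          exact h2
        calc m * r * m⁻¹ = n⁻¹ * (φ n * r * (φ n)⁻¹) * n := by rw [hm]; group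
          _ = r := by rw [h1]; group
      have hpow : ∀ (i : ℕ) (u : H), u ∈ U →
          m ^ i * u * (m ^ i)⁻¹ = (m * u * m⁻¹ * u⁻¹) ^ i * u := by
        intro i u hu
        induction i with
        | zero => simp
        | succ i ihi =>
          have hc : m * (m * u * m⁻¹ * u⁻¹) * m⁻¹ = m * u * m⁻¹ * u⁻¹ :=
            hmR _ (hcomm m u) (mul_mem (conj_mem_of_nrm hmU hu) (inv_mem hu))
          calc m ^ (i + 1) * u * (m ^ (i + 1))⁻¹ = m * (m ^ i * u * (m ^ i)⁻¹) * m⁻¹ := by
                rw [pow_succ' m i]; group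
            _ = (m * (m * u * m⁻¹ * u⁻¹) * m⁻¹) ^ i * (m * u * m⁻¹) := by
                rw [ihi, conj_pow]; group
            _ = _ := by
                rw [hc, pow_succ]; group
      obtain ⟨e, he⟩ := IsPGroup.iff_card.mp (T.2.to_le hUT)
      have hme : m ^ p ^ e ∈ Subgroup.centralizer (U : Set H) := by
        refine mem_centralizer_iff.mpr fun u hu => ?_
        have hc : (m * u * m⁻¹ * u⁻¹) ^ p ^ e = 1 := by
          rw [← he]
          exact congrArg Subtype.val (pow_card_eq_one'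
            (x := (⟨_, mul_mem (conj_mem_of_nrm hmU hu) (inv_mem hu)⟩ : U)))
        have h3 := hpow (p ^ e) u hu
        rw [hc, one_mul, mul_inv_eq_iff_eq_mul] at h3
        exact h3.symm
      obtain ⟨f, q, hq, hfq⟩ :=
        Nat.exists_eq_pow_mul_and_not_dvd (orderOf_pos m).ne' p hp.out.ne_one
      have hmq : m ^ q ∈ Subgroup.centralizer (U : Set H) := by
        have hord : IsPGroup p ↥(Subgroup.zpowers (m ^ q)) := by
          have h1 : orderOf (m ^ q) ∣ p ^ f := orderOf_dvd_of_pow_eq_one (by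
            rw [← pow_mul, mul_comm, ← hfq, pow_orderOf_eq_one])
          obtain ⟨j, -, hj⟩ := (Nat.dvd_prime_pow hp.out).mp h1
          exact IsPGroup.of_card (n := j) (by rw [Nat.card_zpowers, hj])
        obtain ⟨x, hx, hxT⟩ :=
          hTn.exists_cnj_le hord (Subgroup.zpowers_le.mpr (pow_mem hmU q))
        have hz : x * m ^ q * x⁻¹ ∈ (T : Subgroup H) :=
          (Subgroup.mem_inf.mp (hxT ⟨_, Subgroup.mem_zpowers _, rfl⟩)).1
        refine mem_centralizer_iff.mpr fun u hu => ?_
        obtain ⟨r, hr, hrU, b, hb, hxu⟩ := hdec _ (conj_mem_of_nrm hx hu)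
        have hr' : Commute (x * m ^ q * x⁻¹) r := by
          have hr0N : x⁻¹ * r * x ∈ N := by
            simpa using (inferInstance : N.Normal).conj_mem r hr x⁻¹
          have hr0U : x⁻¹ * r * x ∈ U := by
            simpa using conj_mem_of_nrm (inv_mem hx) hrU
          have h0 : Commute m (x⁻¹ * r * x) := mul_inv_eq_iff_eq_mul.mp (hmR _ hr0N hr0U)
          have h1 := (h0.pow_left q).map (MulAut.conj x).toMonoidHom
          simpa [mul_assoc] using h1
        have h2 : Commute (x * m ^ q * x⁻¹) (x * u * x⁻¹) := by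
          rw [hxu]
          exact hr'.mul_right (mem_centralizer_iff.mp (hAc hz) b hb).symm
        have h3 := h2.map (MulAut.conj x⁻¹).toMonoidHom
        simp [mul_assoc] at h3
        exact h3.symm.eq
      have hmC : m ∈ Subgroup.centralizer (U : Set H) := by
        have hcop : Nat.Coprime (p ^ e) q :=
          Nat.Coprime.pow_left e (hp.out.coprime_iff_not_dvd.mpr hq)
        have h1 := Nat.gcd_eq_gcd_ab (p ^ e) q
        rw [hcop.gcd_eq_one] at h1
        have h2 : m = (m ^ p ^ e) ^ Nat.gcdA (p ^ e) q * (m ^ q) ^ Nat.gcdB (p ^ e) q := by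
          rw [← zpow_natCast m (p ^ e), ← zpow_natCast m q, ← zpow_mul, ← zpow_mul, ← zpow_add,
            ← h1, Nat.cast_one, zpow_one]
        rw [h2]
        exact mul_mem (zpow_mem hme _) (zpow_mem hmq _)
      have hsame : ∀ u ∈ U, φ n * u * (φ n)⁻¹ = n * u * n⁻¹ := by
        intro u hu
        calc φ n * u * (φ n)⁻¹ = n * (m * u * m⁻¹) * n⁻¹ := by rw [hm]; group
          _ = n * u * n⁻¹ := by rw [← mem_centralizer_iff.mp hmC u hu, mul_inv_cancel_right]
      have hc : φ (n * a * n⁻¹) = (n * a * n⁻¹ * a⁻¹) * φ a := by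
        have h1 := hfix (n * a * n⁻¹ * a⁻¹) (hcomm n a)
          (hUT (mul_mem (conj_mem_of_nrm hn (hAU ha)) (inv_mem (hAU ha))))
        rw [map_mul, map_inv, mul_inv_eq_iff_eq_mul] at h1
        exact h1
      have hb : n * φ a * n⁻¹ = φ (n * a * n⁻¹) := by
        rw [map_mul, map_mul, map_inv, hsame _ (hAU (hφA a ha))]
      calc n * τ * n⁻¹ = (n * a * n⁻¹)⁻¹ * (n * φ a * n⁻¹) := by rw [hτ]; group
        _ = τ := by rw [hb, hc, hτ]; group
    · set C := Subgroup.centralizer (U : Set H) with hC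
      have hCn : C ≤ nrm U := Subgroup.centralizer_le_normalizer _
      have hnC : nrm U ≤ nrm C := fun x hx => by
        rw [mem_nrm_iff_cnj, hC, cnj_centralizer, mem_nrm_iff_cnj.mp hx]
      have hP : IsSylowIn p (((T : Subgroup H) ⊓ nrm U) ⊓ C) C :=
        isSylowIn_inf_of_normal hTn hCn hnC
      set P := ((T : Subgroup H) ⊓ nrm U) ⊓ C with hPdef
      obtain ⟨c, hc, n', hn', rfl⟩ := exists_mul_of_frattini hP (hnC hn)
      have hn'U : n' ∈ nrm U := (mul_mem_cancel_left (hCn hc)).mp hn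
      set U' := U ⊔ P with hU'
      have hAC : A ≤ C := fun x hx => mem_centralizer_iff.mpr fun u hu =>
        (mem_centralizer_iff.mp (hAc (hUT hu)) x hx).symm
      have hAP : A ≤ P := le_inf (le_inf hAT (hAC.trans hCn)) hAC
      have hU'T : U' ≤ (T : Subgroup H) := sup_le hUT (inf_le_left.trans inf_le_left)
      have hlt : Nat.card U < Nat.card U' := by
        refine lt_of_le_of_ne (Subgroup.card_le_of_le le_sup_left) fun he => hAU ?_
        rw [Subgroup.eq_of_le_of_card_ge (le_sup_left : U ≤ U') he.ge]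
        exact hAP.trans le_sup_right
      have hn'U' : cnj n' U' = U' := by
        rw [hU', cnj, Subgroup.map_sup, ← cnj, ← cnj, mem_nrm_iff_cnj.mp hn'U,
          mem_nrm_iff_cnj.mp hn']
      have hreach : Reach (fullyFamily p (T : Subgroup H)) (U' : Set H) n' := by
        refine reach_fully T _ _ hU'T ?_
        rw [← coe_cnj, hn'U']
        exact hU'T
      have hfixall : ∀ (B : Set H) (x : H), Reach (fullyFamily p (T : Subgroup H)) B x → τ ∈ B →
          Nat.card U' ≤ Nat.card B → x * τ * x⁻¹ = τ := by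
        intro B x h
        induction h with
        | one B => intros; simp
        | @cons B V x g hV hB hx _ ihr =>
          intro hτB hcard
          have hcV : Nat.card U' ≤ Nat.card V := hcard.trans
            (Nat.card_mono (Set.toFinite _) hB)
          have h1 : x * τ * x⁻¹ = τ := by
            refine ih (Nat.card ↥(T : Subgroup H) - Nat.card ↥V) ?_ V hV (by omega) (hB hτB) x hx
            have := Subgroup.card_le_of_le hU'T
            omega
          have h2 := ihr ⟨τ, hτB, h1⟩ (hcard.trans (le_of_eq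
            (Nat.card_image_of_injective (f := fun b => x * b * x⁻¹)
              (fun b₁ b₂ hb => by simpa using hb) B).symm))
          calc g * x * τ * (g * x)⁻¹ = g * (x * τ * x⁻¹) * g⁻¹ := by group
            _ = τ := by rw [h1, h2]
      have h1 := hfixall _ _ hreach (Subgroup.mem_sup_left hτU) le_rfl
      calc c * n' * τ * (c * n')⁻¹ = c * (n' * τ * n'⁻¹) * c⁻¹ := by group
        _ = τ := by rw [h1, ← mem_centralizer_iff.mp hc τ hτU, mul_inv_cancel_right]
  have hreach := reach_fully T {τ} g (Set.singleton_subset_iff.mpr (hAT hτA))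
    (Set.image_subset_iff.mpr (Set.singleton_subset_iff.mpr hg))
  have : ∀ (B : Set H) (x : H), Reach (fullyFamily p (T : Subgroup H)) B x → τ ∈ B →
      x * τ * x⁻¹ = τ := by
    intro B x h
    induction h with
    | one B => intros; simp
    | @cons B V x g hV hB hx _ ihr =>
      intro hτB
      have h1 : x * τ * x⁻¹ = τ :=
        key (Nat.card ↥(T : Subgroup H)) V hV (Nat.le_add_left _ _) (hB hτB) x hx
      have h2 := ihr ⟨τ, hτB, h1⟩
      calc g * x * τ * (g * x)⁻¹ = g * (x * τ * x⁻¹) * g⁻¹ := by group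
        _ = τ := by rw [h1, h2]
  exact this _ _ hreach rfl

end Isolated

section Glauberman

universe u

/-- The conclusion of Glauberman's `Z*`-theorem for the finite groups of a universe. -/
def ZStarProperty : Prop :=
  ∀ (H : Type u) [Group H] [Finite H] (P : Sylow 2 H) (t : H), orderOf t = 2 → t ∈ P →
    (∀ g : H, g * t * g⁻¹ ∈ P → g * t * g⁻¹ = t) →
    ∃ N : Subgroup H, N.Normal ∧ Odd (Nat.card N) ∧ ∀ g : H, t * g * t⁻¹ * g⁻¹ ∈ N

variable {G : Type u} [Group G] [Finite G]

/-- The automorphisms fixing `S` elementwise. -/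
def fixingSubgroup' (S : Subgroup G) : Subgroup (MulAut G) where
  carrier := {φ | ∀ s ∈ S, φ s = s}
  one_mem' := fun _ _ => rfl
  mul_mem' := fun {a b} ha hb s hs => by rw [MulAut.mul_apply, hb s hs, ha s hs]
  inv_mem' := fun {a} ha s hs => by
    conv_lhs => rw [← ha s hs]
    exact MulAut.inv_apply_self G a s

theorem conj_injective_of_center_eq_bot (hc : center G = ⊥) :
    Function.Injective (MulAut.conj : G →* MulAut G) := by
  rw [← MonoidHom.ker_eq_bot_iff, eq_bot_iff, ← hc]
  intro g hg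
  refine mem_center_iff.mpr fun x => ?_
  have := DFunLike.congr_fun hg x
  simp only [MulAut.conj_apply, MulAut.one_apply, mul_inv_eq_iff_eq_mul] at this
  exact this.symm

omit [Finite G] in
theorem aut_mul_conj (a : MulAut G) (g : G) :
    a * MulAut.conj g * a⁻¹ = MulAut.conj (a g) := by
  ext x
  simp [MulAut.mul_apply]

variable (hZ : ZStarProperty.{u}) (hc : center G = ⊥) (hO : pPrimeCore 2 G = ⊥) (S : Sylow 2 G)
include hZ hc hO

/-- An abelian `2`-group of automorphisms fixing `S` is centralized by its normalizer among the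
automorphisms fixing `S`. -/
theorem commute_of_normalize_fixing {A : Subgroup (MulAut G)}
    (hA : A ≤ fixingSubgroup' (S : Subgroup G)) (hA2 : IsPGroup 2 A)
    (hAab : ∀ a ∈ A, ∀ b ∈ A, a * b = b * a) {y : MulAut G}
    (hy : y ∈ fixingSubgroup' (S : Subgroup G)) (hyA : y ∈ Subgroup.normalizer (A : Set (MulAut G))) :
    ∀ a ∈ A, y * a = a * y := by
  by_contra hne
  push_neg at hne
  obtain ⟨a₀, ha₀, hne₀⟩ := hne
  set I := (MulAut.conj : G →* MulAut G).range with hI
  have hIn : I.Normal := ⟨by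
    rintro _ ⟨g, rfl⟩ f
    exact ⟨f g, (aut_mul_conj f g).symm⟩⟩
  set Ht := I ⊔ A with hHt
  set H := ↥Ht
  set N := I.subgroupOf Ht with hN
  set A' := A.subgroupOf Ht with hA'
  have hNA : N ⊔ A' = ⊤ := by
    rw [hN, hA', ← Subgroup.subgroupOf_sup le_sup_left le_sup_right]
    exact Subgroup.subgroupOf_eq_top.mpr le_rfl
  have hyH : y ∈ Subgroup.normalizer (Ht : Set (MulAut G)) := by
    rw [mem_normalizer_iff]
    intro x
    have h1 : cnj y Ht = Ht := by
      rw [hHt, cnj, Subgroup.map_sup, ← cnj, ← cnj, cnj_normal y I, mem_nrm_iff_cnj.mp hyA]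
    exact mem_nrm_iff.mp (mem_nrm_iff_cnj.mpr h1) x
  set φ : H ≃* H := Ht.normalizerMonoidHom ⟨y, hyH⟩ with hφ
  have hφval : ∀ h : H, ((φ h : H) : MulAut G) = y * h * y⁻¹ := fun h => rfl
  set Sb := (S : Subgroup G).map MulAut.conj with hSb
  have hSA : A ≤ Subgroup.centralizer (Sb : Set (MulAut G)) := by
    intro a ha
    refine mem_centralizer_iff.mpr ?_
    rintro _ ⟨s, hs, rfl⟩
    have h := aut_mul_conj a s
    rw [hA ha s hs] at h
    exact (mul_inv_eq_iff_eq_mul.mp h).symm
  have hTp : IsPGroup 2 ↥(Sb ⊔ A) :=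
    (S.2.map _).to_sup_of_normal_left' hA2 (hSA.trans (Subgroup.centralizer_le_normalizer _))
  have hTle : Sb ⊔ A ≤ Ht := sup_le_sup (Subgroup.map_le_range _ _) le_rfl
  obtain ⟨P, hP⟩ := (hTp.comap_subtype : IsPGroup 2 ↥((Sb ⊔ A).subgroupOf Ht)).exists_le_sylow
  have hSbP : ∀ (s : G) (hs : s ∈ (S : Subgroup G)),
      (⟨MulAut.conj s, hTle (mem_sup_left ⟨s, hs, rfl⟩)⟩ : H) ∈ P :=
    fun s hs => hP (show MulAut.conj s ∈ Sb ⊔ A from mem_sup_left ⟨s, hs, rfl⟩)
  have hinj := conj_injective_of_center_eq_bot hc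
  have hPN : ∀ x ∈ N, x ∈ (P : Subgroup H) → (x : MulAut G) ∈ Sb := by
    intro x hx hxP
    let f : G →* H := (MulAut.conj : G →* MulAut G).codRestrict Ht
      fun g => mem_sup_left ⟨g, rfl⟩
    have hf : Function.Injective f := fun g₁ g₂ h => hinj (congrArg Subtype.val h)
    have h1 : (S : Subgroup G) = (P : Subgroup H).comap f := by
      refine (S.3 (P.2.comap_of_injective f hf) fun s hs => ?_).symm
      exact hSbP s hs
    obtain ⟨g, hg⟩ := hx
    exact ⟨g, h1.ge (show f g ∈ (P : Subgroup H) from (Subtype.ext hg : f g = x) ▸ hxP), hg⟩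
  have hfix : ∀ x ∈ N, x ∈ (P : Subgroup H) → φ x = x := by
    intro x hx hxP
    obtain ⟨s, hs, hsx⟩ := hPN x hx hxP
    refine Subtype.ext ?_
    rw [hφval, ← hsx, aut_mul_conj, hy s hs]
  have hAP : A' ≤ (P : Subgroup H) := fun x hx => hP (mem_sup_right (S := Sb) hx)
  have hAc : (P : Subgroup H) ≤ Subgroup.centralizer (A' : Set H) := by
    intro x hxP
    refine mem_centralizer_iff.mpr fun b hb => ?_
    have hx' : x ∈ ((N ⊔ A' : Subgroup H) : Set H) := by rw [hNA]; exact Subgroup.mem_top x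
    rw [hN] at hx'
    haveI : N.Normal := Subgroup.normal_subgroupOf
    rw [Subgroup.normal_mul] at hx'
    obtain ⟨r, hr, c, hc', rfl⟩ := hx'
    have hrS := hPN r hr ((mul_mem_cancel_right (hAP hc')).mp hxP)
    refine Subtype.ext ?_
    show (b : MulAut G) * (r * c) = r * c * b
    rw [← mul_assoc, show (b : MulAut G) * r = r * b from
      (mem_centralizer_iff.mp (hSA hb) _ hrS).symm, mul_assoc,
      show (b : MulAut G) * c = c * b from hAab _ hb _ hc', mul_assoc]
  haveI : N.Normal := Subgroup.normal_subgroupOf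
  have hφA : ∀ x ∈ A', φ x ∈ A' := fun x hx => by
    show ((φ x : H) : MulAut G) ∈ A
    rw [hφval]
    exact (mem_normalizer_iff.mp hyA _).mp hx
  have hiso := fun (a : H) (ha : a ∈ A') (g : H) =>
    isolated_inv_mul_map P N A' hNA hAP hAc φ hfix
      (fun x hx => by
        show ((φ x : H) : MulAut G) ∈ I
        rw [hφval]
        exact hIn.conj_mem _ hx y)
      hφA ha (g := g)
  -- a commutator of order two
  set a : H := ⟨a₀, mem_sup_right ha₀⟩ with ha_def
  have hτA : a⁻¹ * φ a ∈ A' := mul_mem (inv_mem (show a ∈ A' from ha₀)) (hφA a ha₀)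
  have hτne : a⁻¹ * φ a ≠ 1 := fun h => hne₀ (by
    have h1 := congrArg Subtype.val (inv_mul_eq_one.mp h)
    rw [hφval] at h1
    exact (mul_inv_eq_iff_eq_mul.mp h1.symm))
  obtain ⟨j, hj⟩ : ∃ j, orderOf (a⁻¹ * φ a) = 2 ^ (j + 1) := by
    obtain ⟨j, hj⟩ := IsPGroup.iff_orderOf.mp hA2 ⟨_, hτA⟩
    rw [← Subgroup.orderOf_coe] at hj
    replace hj : orderOf ((a⁻¹ * φ a : H) : MulAut G) = 2 ^ j := hj
    rw [Subgroup.orderOf_coe] at hj
    cases j with
    | zero => exact absurd (orderOf_eq_one_iff.mp hj) hτne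
    | succ j => exact ⟨j, hj⟩
  set b := a ^ 2 ^ j with hb
  have hpw : b⁻¹ * φ b = (a⁻¹ * φ a) ^ 2 ^ j := by
    have hcm : Commute a⁻¹ (φ a) := Subtype.ext
      (hAab _ (inv_mem ha₀) _ (hφA a ha₀))
    rw [hb, map_pow, hcm.mul_pow, inv_pow]
  have hbA : b ∈ A' := pow_mem (show a ∈ A' from ha₀) _
  have hord : orderOf (b⁻¹ * φ b) = 2 := by
    rw [hpw, orderOf_pow' _ (by positivity), hj, pow_succ,
      Nat.gcd_eq_right (Dvd.intro _ rfl), Nat.mul_div_cancel_left _ (by positivity)]
  obtain ⟨M, hMn, hMo, hM⟩ := hZ H P (b⁻¹ * φ b) hord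
    (hAP (mul_mem (inv_mem hbA) (hφA b hbA))) (hiso b hbA)
  let f : G →* H := (MulAut.conj : G →* MulAut G).codRestrict Ht fun g => mem_sup_left ⟨g, rfl⟩
  have hf : Function.Injective f := fun g₁ g₂ h => hinj (congrArg Subtype.val h)
  have hMbot : M.comap f = ⊥ := by
    rw [eq_bot_iff, ← hO]
    refine Thompson.le_pPrimeCore inferInstance ?_
    exact (Nat.coprime_two_right.mpr hMo).coprime_dvd_left
      (Subgroup.card_comap_dvd_of_injective M f hf)
  have hτ1 : ((b⁻¹ * φ b : H) : MulAut G) = 1 := by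
    set t : MulAut G := ((b⁻¹ * φ b : H) : MulAut G) with ht
    ext g
    have h1 : t * MulAut.conj g * t⁻¹ * (MulAut.conj g)⁻¹ = MulAut.conj (t g * g⁻¹) := by
      rw [aut_mul_conj, map_mul, map_inv]
    have h2 : f (t g * g⁻¹) ∈ M := by
      have e : f (t g * g⁻¹) = (b⁻¹ * φ b) * f g * (b⁻¹ * φ b)⁻¹ * (f g)⁻¹ :=
        Subtype.ext h1.symm
      rw [e]
      exact hM (f g)
    exact mul_inv_eq_one.mp ((Subgroup.eq_bot_iff_forall _).mp hMbot _ h2)
  rw [OneMemClass.coe_eq_one] at hτ1
  rw [hτ1, orderOf_one] at hord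
  omega

/-- `2`-subgroups of automorphisms fixing `S` are abelian. -/
theorem commute_of_isPGroup_fixing {Q : Subgroup (MulAut G)}
    (hQ : Q ≤ fixingSubgroup' (S : Subgroup G)) (hQ2 : IsPGroup 2 Q) :
    ∀ a ∈ Q, ∀ b ∈ Q, a * b = b * a := by
  suffices center ↥Q = ⊤ by
    intro a ha b hb
    exact congrArg Subtype.val (mem_center_iff.mp (this.ge (mem_top (⟨b, hb⟩ : Q))) ⟨a, ha⟩)
  by_contra hne
  haveI : Nontrivial (↥Q ⧸ center ↥Q) := by
    rw [← not_subsingleton_iff_nontrivial]
    exact fun h => hne (QuotientGroup.subsingleton_iff.mp h)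
  haveI := (hQ2.to_quotient (center ↥Q)).center_nontrivial
  obtain ⟨⟨z, hz⟩, hz1⟩ := exists_ne (1 : center (↥Q ⧸ center ↥Q))
  obtain ⟨q, rfl⟩ := QuotientGroup.mk'_surjective _ z
  have hcomm : ∀ g : Q, g * q * g⁻¹ * q⁻¹ ∈ center ↥Q := fun g => by
    rw [← QuotientGroup.eq_one_iff, ← QuotientGroup.mk'_apply]
    simp only [map_mul, map_inv]
    rw [mem_center_iff.mp hz]
    group
  set B : Subgroup ↥Q := Subgroup.closure (insert q (center ↥Q : Set ↥Q)) with hB
  have hBab : ∀ c ∈ B, ∀ d ∈ B, c * d = d * c := by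
    have hgen : ∀ c ∈ insert q (center ↥Q : Set ↥Q), ∀ d ∈ insert q (center ↥Q : Set ↥Q),
        c * d = d * c := by
      rintro c (rfl | hc') d (rfl | hd')
      · rfl
      · exact mem_center_iff.mp hd' _
      · exact (mem_center_iff.mp hc' _).symm
      · exact mem_center_iff.mp hd' _
    exact fun c hc' d hd' => congrArg Subtype.val
      ((Subgroup.isMulCommutative_closure hgen).is_comm.comm ⟨c, hc'⟩ ⟨d, hd'⟩)
  have hBn : ∀ g : Q, ∀ x ∈ B, g * x * g⁻¹ ∈ B := by
    intro g
    have h : B ≤ B.comap (MulAut.conj g).toMonoidHom := by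
      rw [hB, Subgroup.closure_le]
      rintro x (rfl | hx)
      · show g * x * g⁻¹ ∈ B
        have := mul_mem (Subgroup.subset_closure (Set.mem_insert_of_mem x (hcomm g)))
          (Subgroup.subset_closure (Set.mem_insert x (center ↥Q : Set ↥Q)))
        simpa [mul_assoc] using this
      · show g * x * g⁻¹ ∈ B
        rw [mem_center_iff.mp hx g, mul_inv_cancel_right]
        exact Subgroup.subset_closure (Set.mem_insert_of_mem _ hx)
    exact h
  refine hz1 (Subtype.ext ?_)
  show QuotientGroup.mk' (center ↥Q) q = 1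
  rw [QuotientGroup.mk'_apply, QuotientGroup.eq_one_iff, mem_center_iff]
  intro g
  refine Subtype.ext ?_
  refine commute_of_normalize_fixing hZ hc hO S (A := B.map Q.subtype)
    ((map_subtype_le _).trans hQ) (hQ2.to_le (map_subtype_le _)) ?_ (hQ g.2) ?_ _
    ⟨q, Subgroup.subset_closure (Set.mem_insert _ _), rfl⟩
  · rintro _ ⟨c, hc', rfl⟩ _ ⟨d, hd', rfl⟩
    exact congrArg Subtype.val (hBab c hc' d hd')
  · refine mem_nrm_of_forall ?_
    rintro _ ⟨x, hx, rfl⟩
    exact ⟨_, hBn g x hx, rfl⟩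

/-- **Glauberman**: the automorphisms fixing a Sylow `2`-subgroup have a normal `2`-complement. -/
theorem exists_normal_complement_fixing (T : Sylow 2 ↥(fixingSubgroup' (S : Subgroup G))) :
    (∀ a b : T, a * b = b * a) ∧
      ∃ N : Subgroup ↥(fixingSubgroup' (S : Subgroup G)), N.Normal ∧
        Subgroup.IsComplement' N (T : Subgroup ↥(fixingSubgroup' (S : Subgroup G))) := by
  set T' := (T : Subgroup ↥(fixingSubgroup' (S : Subgroup G))).map (fixingSubgroup' (S : Subgroup G)).subtype with hT'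
  have hT'p : IsPGroup 2 T' := T.2.map _
  have hab := commute_of_isPGroup_fixing hZ hc hO S (map_subtype_le (T : Subgroup ↥(fixingSubgroup' (S : Subgroup G)))) hT'p
  refine ⟨fun a b => Subtype.ext (Subtype.ext (hab _ ⟨a, a.2, rfl⟩ _ ⟨b, b.2, rfl⟩)), ?_⟩
  have hP : Subgroup.normalizer (T : Subgroup ↥(fixingSubgroup' (S : Subgroup G))) ≤ Subgroup.centralizer ((T : Subgroup ↥(fixingSubgroup' (S : Subgroup G))) : Set ↥(fixingSubgroup' (S : Subgroup G))) := by
    intro x hx
    refine mem_centralizer_iff.mpr fun t ht => Subtype.ext ?_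
    refine (commute_of_normalize_fixing hZ hc hO S (map_subtype_le _) hT'p hab x.2 ?_ _
      ⟨t, ht, rfl⟩).symm
    refine mem_nrm_of_forall ?_
    rintro _ ⟨u, hu, rfl⟩
    exact ⟨_, (mem_normalizer_iff.mp hx u).mp hu, rfl⟩
  exact ⟨_, MonoidHom.normal_ker _, MonoidHom.ker_transferSylow_isComplement' T hP⟩

/-- A perfect group acting on `G`, fixing a Sylow `2`-subgroup, and generated by `2`-elements
acts trivially. -/
theorem eq_one_of_perfect_fixing {K : Type*} [Group K] [Finite K] (hK : Group.IsPerfect K)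
    (hgen : Subgroup.closure {x : K | ∃ k, x ^ 2 ^ k = 1} = ⊤)
    (f : K →* MulAut G) (hf : ∀ x, ∀ s ∈ S, f x s = s) (x : K) : f x = 1 := by
  set C := fixingSubgroup' (S : Subgroup G)
  obtain ⟨T⟩ := (inferInstance : Nonempty (Sylow 2 ↥C))
  obtain ⟨hTab, N, hN, hNT⟩ := exists_normal_complement_fixing hZ hc hO S T
  haveI := hN
  let g : K →* ↥C := f.codRestrict C hf
  set q := (QuotientGroup.mk' N).comp g
  have hqab : ∀ u v : ↥C ⧸ N, u * v = v * u := fun u v => by
    obtain ⟨u, rfl⟩ := hNT.symm.QuotientMulEquiv.symm.surjective u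
    obtain ⟨v, rfl⟩ := hNT.symm.QuotientMulEquiv.symm.surjective v
    rw [← map_mul, ← map_mul, hTab]
  have hq : ∀ z, q z = 1 := by
    intro z
    have h1 : commutator K ≤ q.ker := by
      rw [_root_.commutator_def, Subgroup.commutator_le]
      intro u _ v _
      rw [MonoidHom.mem_ker, map_commutatorElement, commutatorElement_eq_one_iff_mul_comm]
      exact hqab _ _
    exact h1 (hK.commutator_eq_top.ge (mem_top z))
  have hker : (⊤ : Subgroup K) ≤ g.ker := by
    rw [← hgen, Subgroup.closure_le]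
    rintro z ⟨k, hk⟩
    refine MonoidHom.mem_ker.mpr (orderOf_eq_one_iff.mp ?_)
    have h1 : orderOf (g z) ∣ 2 ^ k :=
      orderOf_dvd_of_pow_eq_one (by rw [← map_pow, hk, map_one])
    have h2 : orderOf (g z) ∣ Nat.card N :=
      N.orderOf_dvd_natCard ((QuotientGroup.eq_one_iff _).mp (hq z))
    refine Nat.eq_one_of_dvd_coprimes ?_ h1 h2
    refine Nat.Coprime.pow_left k ?_
    rw [← hNT.index_eq_card]
    exact (Nat.Prime.coprime_iff_not_dvd Nat.prime_two).mpr T.not_dvd_index
  exact congrArg Subtype.val (MonoidHom.mem_ker.mp (hker (mem_top x)))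

end Glauberman

end Cfsg.Agent.Components
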