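import Cfsg.Agent.S0215
import Cfsg.Agent.Lib.Components.AutSylow

/-!
# The `Z*`-theorem, in the form taken as a parameter by the component files
-/

set_option autoImplicit false

namespace Cfsg.Agent.Components

universe u

/-- Glauberman's `Z*`-theorem. -/
theorem zStarProperty : ZStarProperty.{u} := fun _ _ _ P t h1 h2 h3 =>
  Cfsg.Agent.S0215.result P t h1 h2 h3

end Cfsg.Agent.Components
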