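import Cfsg.Agent.Lib.Components.LBalanceTwo
import Cfsg.Agent.Lib.Components.ZStarInst
import Cfsg.Agent.Lib.Components.PermuteComponents
import Cfsg.Agent.Lib.Components.ComponentIn
import Cfsg.Prelude.Def_Balance

/-!
# Consequences of the B-property
-/

set_option autoImplicit false
set_option linter.style.haveILetI false

namespace Cfsg.Agent.Components

open Subgroup
open scoped commutatorElement

variable {G : Type*} [Group G] [Finite G] {p : ℕ} [hp : Fact p.Prime]

/-- A component of order divisible by `p` lies in the `p`-layer. -/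
theorem component_le_pLayer {K : Subgroup G} (hK : IsComponent K) (hd : p ∣ Nat.card K) :
    K ≤ pLayer p G := by
  obtain ⟨x, hx, j, hj⟩ := exists_noncentral_pElement hK.2 hd
  set M := (pElementsClosure p K).subgroupOf K with hM
  haveI : M.Normal := pElementsClosure_normal_subgroupOf p K
  have hgen : K ≤ pElementsClosure p K := by
    rcases normal_eq_top_or_le_center hK.2 M with h | h
    · exact Subgroup.subgroupOf_eq_top.mp h
    · refine absurd (h (Subgroup.mem_subgroupOf.mpr (Subgroup.subset_closure ?_))) hx
      exact ⟨x.2, j, by rw [← hj, ← Subgroup.coe_pow, pow_orderOf_eq_one, Subgroup.coe_one]⟩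
  refine hgen.trans ((Subgroup.closure_le _).mpr ?_)
  rintro g ⟨hg, k, hk⟩
  exact mem_pLayer_of_mem_layerCover hk (layer_le_layerCover (component_le_layer hK hg))

omit hp in
/-- A `p`-layer centralizing the core lies in the layer. -/
theorem pLayer_le_layer_of_commutator_eq_bot [Fact p.Prime]
    (h : ⁅pLayer p G, pPrimeCore p G⁆ = ⊥) : pLayer p G ≤ layer G := by
  refine sSup_le fun K hK => component_le_layer ⟨hK.1, (isQuasisimple_pComponent_iff hK).mpr ?_⟩
  rw [eq_bot_iff, ← h, map_pPrimeCore_subtype_eq hK.1]
  exact commutator_mono (pComponent_le_pLayer hK) inf_le_right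

/-- The B-property with trivial core: the `2`-layer of an involution centralizer is its layer. -/
theorem pLayer_le_layer_of_hasBProperty (hO : oddCore G = ⊥) (hB : HasBProperty G) {b : G}
    (hb : orderOf b = 2) :
    pLayer 2 ↥(Subgroup.centralizer ({b} : Set G)) ≤ layer ↥(Subgroup.centralizer ({b} : Set G)) := by
  haveI : Fact (Nat.Prime 2) := ⟨Nat.prime_two⟩
  refine pLayer_le_layer_of_commutator_eq_bot ?_
  have h := hB b hb
  rw [hO, le_bot_iff, Subgroup.map_eq_bot_iff_of_injective _ (Subgroup.subtype_injective _)] at h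
  exact h

/-- L-balance with the B-property: a component of `C(a) ∩ C(b)` of even order lies in `E(C(b))`. -/
theorem subgroupOf_le_layer_of_hasBProperty (hO : oddCore G = ⊥) (hB : HasBProperty G)
    {a b : G} (ha : orderOf a = 2) (hb : orderOf b = 2)
    (hab : a * b = b * a) {K : Subgroup G} (hKa : K ≤ Subgroup.centralizer ({a} : Set G))
    (hKb : K ≤ Subgroup.centralizer ({b} : Set G))
    (hK : IsComponent ((K.subgroupOf (Subgroup.centralizer ({b} : Set G))).subgroupOf
      (Subgroup.centralizer ({⟨a, mem_centralizer_singleton_iff.mpr hab⟩} :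
        Set ↥(Subgroup.centralizer ({b} : Set G))))))
    (hKe : 2 ∣ Nat.card K) :
    K.subgroupOf (Subgroup.centralizer ({b} : Set G)) ≤
      layer ↥(Subgroup.centralizer ({b} : Set G)) := by
  haveI : Fact (Nat.Prime 2) := ⟨Nat.prime_two⟩
  set X := Subgroup.centralizer ({b} : Set G)
  set a' : ↥X := ⟨a, mem_centralizer_singleton_iff.mpr hab⟩ with ha'
  set K' := K.subgroupOf X with hK'
  set T := Subgroup.zpowers a' with hT
  have hTC : Subgroup.centralizer (T : Set ↥X) = Subgroup.centralizer ({a'} : Set ↥X) := by
    rw [hT, Subgroup.zpowers_eq_closure, Subgroup.centralizer_closure]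
  have hTp : IsPGroup 2 ↥T := IsPGroup.of_card (n := 1) (by
    rw [hT, Nat.card_zpowers, ha', Subgroup.orderOf_mk, ha, pow_one])
  have hK'T : K' ≤ Subgroup.centralizer (T : Set ↥X) := by
    rw [hTC]
    intro k hk
    exact mem_centralizer_singleton_iff.mpr
      (Subtype.ext (mem_centralizer_singleton_iff.mp (hKa hk)))
  rw [← hTC] at hK
  have hd : 2 ∣ Nat.card ↥(K'.subgroupOf (Subgroup.centralizer (T : Set ↥X))) := by
    rwa [Nat.card_congr (Subgroup.subgroupOfEquivOfLe hK'T).toEquiv, hK',
      Nat.card_congr (Subgroup.subgroupOfEquivOfLe hKb).toEquiv]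
  have h1 := Subgroup.map_mono (f := (Subgroup.centralizer (T : Set ↥X)).subtype)
    (component_le_pLayer (p := 2) hK hd)
  rw [Subgroup.map_subgroupOf_eq_of_le hK'T] at h1
  exact h1.trans ((map_pLayer_centralizer_le zStarProperty T hTp).trans
    (pLayer_le_layer_of_hasBProperty hO hB hb))

end Cfsg.Agent.Components
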