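import Cfsg.Agent.Lib.Components.ComponentIn
import Cfsg.Agent.Lib.Components.PermuteComponents

/-!
# Components of the centralizer of an involution inside the layer
-/

set_option autoImplicit false
set_option linter.style.haveILetI false

namespace Cfsg.Agent.Components

open Subgroup
open scoped commutatorElement

variable {X : Type*} [Group X]

/-- Commutators of products over two commuting factors split. -/
theorem commutator_mul_mul_of_commute {p q p' q' : X} (h1 : Commute p q) (h2 : Commute p q')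
    (h3 : Commute p' q) (h4 : Commute p' q') : ⁅p * q, p' * q'⁆ = ⁅p, p'⁆ * ⁅q, q'⁆ := by
  simp only [commutatorElement_def]
  have c1 : Commute p⁻¹ (q * q' * q⁻¹) := (((h1.mul_right h2).mul_right h1.inv_right)).inv_left
  have c2 : Commute p' (q * q' * q⁻¹ * q'⁻¹) :=
    (((h3.mul_right h4).mul_right h3.inv_right).mul_right h4.inv_right)
  have c3 : Commute p⁻¹ q'⁻¹ := h2.inv_inv
  calc p * q * (p' * q') * (p * q)⁻¹ * (p' * q')⁻¹
      = p * (q * p') * q' * q⁻¹ * p⁻¹ * q'⁻¹ * p'⁻¹ := by group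
    _ = p * p' * (q * q' * q⁻¹) * p⁻¹ * q'⁻¹ * p'⁻¹ := by rw [← h3.eq]; group
    _ = p * p' * ((q * q' * q⁻¹) * p⁻¹) * q'⁻¹ * p'⁻¹ := by group
    _ = p * p' * p⁻¹ * ((q * q' * q⁻¹ * q'⁻¹) * p'⁻¹) := by rw [← c1.eq]; group
    _ = p * p' * p⁻¹ * p'⁻¹ * (q * q' * q⁻¹ * q'⁻¹) := by rw [← (c2.inv_left).eq]; group

/-- If `K = [K, K]` and every element of `K` is a commuting product over `P` and `Q` then every
element is a product of elements fixed by `a`. -/
theorem le_fixed_sup_fixed {a : X} {K P Q : Subgroup X} (hK : ⁅K, K⁆ = K)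
    (hPa : ∀ x ∈ P, a * x * a⁻¹ ∈ P) (hQa : ∀ x ∈ Q, a * x * a⁻¹ ∈ Q)
    (hPQ : P ≤ Subgroup.centralizer (Q : Set X)) (hKa : ∀ k ∈ K, a * k * a⁻¹ = k)
    (hle : ∀ k ∈ K, ∃ u ∈ P, ∃ v ∈ Q, k = u * v) :
    K ≤ (P ⊓ Subgroup.centralizer {a}) ⊔ (Q ⊓ Subgroup.centralizer {a}) := by
  have hcomm : ∀ u ∈ P, ∀ v ∈ Q, Commute u v := fun u hu v hv =>
    (mem_centralizer_iff.mp (hPQ hu) v hv).symm
  have hz : ∀ u ∈ P, ∀ v ∈ Q, u * v ∈ K →
      u⁻¹ * (a * u * a⁻¹) ∈ P ⊓ Q ∧ v⁻¹ * (a * v * a⁻¹) ∈ P ⊓ Q := by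
    intro u hu v hv hk
    have h := hKa _ hk
    have hu' := hPa u hu
    have hv' := hQa v hv
    have e : u⁻¹ * (a * u * a⁻¹) = v * (a * v * a⁻¹)⁻¹ := by
      calc u⁻¹ * (a * u * a⁻¹) = u⁻¹ * (a * (u * v) * a⁻¹) * (a * v * a⁻¹)⁻¹ := by group
        _ = v * (a * v * a⁻¹)⁻¹ := by rw [h]; group
    have h1 : u⁻¹ * (a * u * a⁻¹) ∈ P := mul_mem (inv_mem hu) hu'
    have h2 : v * (a * v * a⁻¹)⁻¹ ∈ Q := mul_mem hv (inv_mem hv')
    refine ⟨Subgroup.mem_inf.mpr ⟨h1, e ▸ h2⟩, Subgroup.mem_inf.mpr ⟨?_, mul_mem (inv_mem hv) hv'⟩⟩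
    have h3 : v * (a * v * a⁻¹)⁻¹ ∈ P := e ▸ h1
    have h4 : Commute (v * (a * v * a⁻¹)⁻¹) v := hcomm _ h3 v hv
    have h5 : (v * (a * v * a⁻¹)⁻¹)⁻¹ ∈ P := inv_mem h3
    have h6 : v⁻¹ * (a * v * a⁻¹) = (v * (a * v * a⁻¹)⁻¹)⁻¹ := by
      have h7 : Commute (a * v * a⁻¹)⁻¹ v := mul_left_cancel (a := v) (by
        rw [← mul_assoc]; exact h4.eq)
      rw [mul_inv_rev, inv_inv]
      have h8 : Commute (a * v * a⁻¹) v := by simpa only [inv_inv] using h7.inv_left
      exact h8.inv_right.symm.eq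
    rw [h6]
    exact h5
  rw [← hK, Subgroup.commutator_le]
  intro k hk k' hk'
  obtain ⟨u, hu, v, hv, rfl⟩ := hle k hk
  obtain ⟨u', hu', v', hv', rfl⟩ := hle k' hk'
  obtain ⟨hz1, hw1⟩ := hz u hu v hv hk
  obtain ⟨hz2, hw2⟩ := hz u' hu' v' hv' hk'
  obtain ⟨hz1P, hz1Q⟩ := Subgroup.mem_inf.mp hz1
  obtain ⟨hw1P, hw1Q⟩ := Subgroup.mem_inf.mp hw1
  obtain ⟨hz2P, hz2Q⟩ := Subgroup.mem_inf.mp hz2
  obtain ⟨hw2P, hw2Q⟩ := Subgroup.mem_inf.mp hw2
  rw [commutator_mul_mul_of_commute (hcomm u hu v hv) (hcomm u hu v' hv') (hcomm u' hu' v hv)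
    (hcomm u' hu' v' hv')]
  refine Subgroup.mul_mem_sup (Subgroup.mem_inf.mpr ⟨?_, ?_⟩) (Subgroup.mem_inf.mpr ⟨?_, ?_⟩)
  · exact mul_mem (mul_mem (mul_mem hu hu') (inv_mem hu)) (inv_mem hu')
  · rw [mem_centralizer_singleton_iff, eq_comm, ← mul_inv_eq_iff_eq_mul]
    show (MulAut.conj a) ⁅u, u'⁆ = ⁅u, u'⁆
    rw [map_commutatorElement]
    have e1 : MulAut.conj a u = u⁻¹ * (a * u * a⁻¹) * u := by
      rw [(hcomm u hu _ hz1Q).symm.eq]; simp [mul_assoc]
    have e2 : MulAut.conj a u' = u'⁻¹ * (a * u' * a⁻¹) * u' := by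
      rw [(hcomm u' hu' _ hz2Q).symm.eq]; simp [mul_assoc]
    rw [e1, e2]
    exact commutatorElement_mul_mul_eq (hcomm u hu _ hz1Q).symm (hcomm u' hu' _ hz1Q).symm
      (hcomm u hu _ hz2Q).symm (hcomm u' hu' _ hz2Q).symm (hcomm _ hz1P _ hz2Q)
  · exact mul_mem (mul_mem (mul_mem hv hv') (inv_mem hv)) (inv_mem hv')
  · rw [mem_centralizer_singleton_iff, eq_comm, ← mul_inv_eq_iff_eq_mul]
    show (MulAut.conj a) ⁅v, v'⁆ = ⁅v, v'⁆
    rw [map_commutatorElement]
    have e1 : MulAut.conj a v = v⁻¹ * (a * v * a⁻¹) * v := by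
      rw [(hcomm _ hw1P v hv).eq]; simp [mul_assoc]
    have e2 : MulAut.conj a v' = v'⁻¹ * (a * v' * a⁻¹) * v' := by
      rw [(hcomm _ hw2P v' hv').eq]; simp [mul_assoc]
    rw [e1, e2]
    exact commutatorElement_mul_mul_eq (hcomm _ hw1P v hv) (hcomm _ hw1P v' hv')
      (hcomm _ hw2P v hv) (hcomm _ hw2P v' hv') (hcomm _ hw1P _ hw2Q)

/-- A component of the centralizer of an involution `a` lying in the layer is either inside an
`a`-invariant component or diagonal in a pair of components swapped by `a`. -/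
theorem exists_component_of_componentIn [Finite X] {a : X} (ha : a * a = 1) {K : Subgroup X}
    (hKC : K ≤ Subgroup.centralizer ({a} : Set X))
    (hK : IsComponent (K.subgroupOf (Subgroup.centralizer ({a} : Set X))))
    (hKE : K ≤ layer X) :
    ∃ L : Subgroup X, IsComponent L ∧
      (K ≤ L ∨ (L.map (MulAut.conj a).toMonoidHom ≠ L ∧
        ∀ k ∈ K, ∃ l ∈ L, k = l * (a * l * a⁻¹))) := by
  classical
  set C := Subgroup.centralizer ({a} : Set X) with hC
  have hKQ : IsQuasisimple K := isQuasisimple_of_componentIn hKC hK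
  have hKperf : ⁅K, K⁆ = K := Subgroup.isPerfect_iff.mp hKQ.1
  have hKa : ∀ k ∈ K, a * k * a⁻¹ = k := fun k hk => by
    rw [(mem_centralizer_singleton_iff.mp (hKC hk)).symm, mul_inv_cancel_right]
  have hKne : ¬ (K ≤ Subgroup.centralizer (K : Set X)) := fun h => by
    refine not_isMulCommutative_of_isQuasisimple hKQ ⟨⟨fun u v => Subtype.ext ?_⟩⟩
    exact mem_centralizer_iff.mp (h v.2) u u.2
  obtain ⟨L, hL, hKL⟩ : ∃ L : Subgroup X, IsComponent L ∧ ¬ K ≤ Subgroup.centralizer (L : Set X) := by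
    by_contra hcon
    refine hKne (hKE.trans (layer_le_iff.mpr fun L hL => Subgroup.le_centralizer_iff.mp
      (show K ≤ Subgroup.centralizer (L : Set X) from not_not.mp fun h => hcon ⟨L, hL, h⟩)))
  set La := L.map (MulAut.conj a).toMonoidHom with hLa
  have hLac : IsComponent La := component_map_conj a hL
  have hLaa : La.map (MulAut.conj a).toMonoidHom = L := by
    rw [hLa, map_conj_map_conj, ha, map_conj_one]
  set P := L ⊔ La with hP
  set Q := sSup {M : Subgroup X | IsComponent M ∧ M ≠ L ∧ M ≠ La} with hQ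
  have hPmap : P.map (MulAut.conj a).toMonoidHom = P := by
    rw [hP, Subgroup.map_sup, hLaa, ← hLa, sup_comm]
  have hPa : ∀ x ∈ P, a * x * a⁻¹ ∈ P := fun x hx => hPmap.le ⟨x, hx, rfl⟩
  have hQa : ∀ x ∈ Q, a * x * a⁻¹ ∈ Q := by
    have hle : Q.map (MulAut.conj a).toMonoidHom ≤ Q := by
      rw [hQ, map_le_iff_le_comap]
      refine sSup_le ?_
      rintro M ⟨hM, h1, h2⟩
      rw [← map_le_iff_le_comap]
      refine le_sSup (show _ ∈ {M : Subgroup X | IsComponent M ∧ M ≠ L ∧ M ≠ La} from ?_)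
      refine ⟨component_map_conj a hM, fun e => h2 ?_, fun e => h1 ?_⟩
      · rw [hLa, ← e, map_conj_map_conj, ha, map_conj_one]
      · exact Subgroup.map_injective (MulAut.conj a).injective e
    exact fun x hx => hle ⟨x, hx, rfl⟩
  have hPQ : P ≤ Subgroup.centralizer (Q : Set X) := by
    rw [Subgroup.le_centralizer_iff, hQ]
    refine sSup_le ?_
    rintro M ⟨hM, h1, h2⟩
    rw [Subgroup.le_centralizer_iff]
    exact sup_le (component_le_centralizer hL hM (Ne.symm h1))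
      (component_le_centralizer hLac hM (Ne.symm h2))
  have hEle : layer X ≤ P ⊔ Q := layer_le_iff.mpr fun M hM => by
    by_cases h1 : M = L
    · exact h1 ▸ le_sup_left.trans le_sup_left
    · by_cases h2 : M = La
      · exact h2 ▸ le_sup_right.trans le_sup_left
      · exact le_trans (le_sSup (show M ∈ {M : Subgroup X | IsComponent M ∧ M ≠ L ∧ M ≠ La} from ⟨hM, h1, h2⟩)) le_sup_right
  have hQP : Q ≤ Subgroup.normalizer (P : Set X) :=
    (Subgroup.le_centralizer_iff.mp hPQ).trans (Subgroup.centralizer_le_normalizer _)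
  have hprod : ∀ k ∈ K, ∃ u ∈ P, ∃ v ∈ Q, k = u * v := by
    intro k hk
    have hk' : k ∈ ((P ⊔ Q : Subgroup X) : Set X) := hEle (hKE hk)
    rw [Subgroup.coe_mul_of_right_le_normalizer_left P Q hQP] at hk'
    obtain ⟨u, hu, v, hv, rfl⟩ := hk'
    exact ⟨u, hu, v, hv, rfl⟩
  have hKCP := le_fixed_sup_fixed hKperf hPa hQa hPQ hKa hprod
  set CP := P ⊓ C with hCP
  set CQ := Q ⊓ C with hCQ
  -- `C_P(a)` is subnormal in `C(a)`
  have hPE : P ≤ layer X := sup_le (component_le_layer hL) (component_le_layer hLac)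
  have hCPsn : (CP.subgroupOf C).IsSubnormal := by
    refine Subgroup.IsSubnormal.step _ ((layer X).subgroupOf C)
      (fun x hx => hPE (Subgroup.mem_inf.mp hx).1)
      (Subgroup.Normal.isSubnormal inferInstance) ?_
    have hle' : CP.subgroupOf C ≤ (layer X).subgroupOf C :=
      fun x hx => hPE (Subgroup.mem_inf.mp hx).1
    refine (normal_subgroupOf_iff_le_normalizer hle').mpr ?_
    intro g hg
    have hgN : (g : X) ∈ Subgroup.normalizer (P : Set X) := by
      rw [← map_conj_eq_iff_mem_normalizer, hP, Subgroup.map_sup,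
        map_conj_eq_iff_mem_normalizer.mpr (layer_le_normalizer hL hg : (g : X) ∈ _),
        map_conj_eq_iff_mem_normalizer.mpr (layer_le_normalizer hLac hg : (g : X) ∈ _)]
    refine mem_normalizer_iff.mpr fun x => ?_
    simp only [Subgroup.mem_subgroupOf, hCP, Subgroup.mem_inf, Subgroup.coe_mul, InvMemClass.coe_inv]
    constructor
    · rintro ⟨h1, _⟩
      exact ⟨(mem_normalizer_iff.mp hgN _).mp h1, mul_mem (mul_mem g.2 x.2) (inv_mem g.2)⟩
    · rintro ⟨h1, _⟩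
      exact ⟨(mem_normalizer_iff.mp hgN _).mpr h1, x.2⟩
  have hKP : K ≤ P := by
    rcases component_le_or_commutator_eq_bot hK hCPsn with h | h
    · intro k hk
      exact (Subgroup.mem_inf.mp (h (show (⟨k, hKC hk⟩ : C) ∈ K.subgroupOf C from hk))).1
    · exfalso
      apply hKL
      have hc : ∀ k ∈ K, ∀ u ∈ CP, Commute k u := by
        intro k hk u hu
        have := commutator_eq_bot_iff_le_centralizer.mp h
          (show (⟨k, hKC hk⟩ : C) ∈ K.subgroupOf C from hk)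
        exact (congrArg Subtype.val (mem_centralizer_iff.mp this
          (⟨u, (Subgroup.mem_inf.mp hu).2⟩ : C) hu) :).symm
      have hKle : K ≤ CQ := by
        have hcq : ∀ u ∈ CP, ∀ v ∈ CQ, Commute u v := fun u hu v hv =>
          (mem_centralizer_iff.mp (hPQ (Subgroup.mem_inf.mp hu).1) v (Subgroup.mem_inf.mp hv).1).symm
        have hprod' : ∀ k ∈ K, ∃ u ∈ CP, ∃ v ∈ CQ, k = u * v := by
          intro k hk
          have hk' : k ∈ ((CP ⊔ CQ : Subgroup X) : Set X) := hKCP hk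
          rw [Subgroup.coe_mul_of_right_le_normalizer_left CP CQ
            ((fun v hv => Subgroup.centralizer_le_normalizer _ (mem_centralizer_iff.mpr
              fun u hu => (hcq u hu v hv).eq)))] at hk'
          obtain ⟨u, hu, v, hv, rfl⟩ := hk'
          exact ⟨u, hu, v, hv, rfl⟩
        rw [← hKperf, Subgroup.commutator_le]
        intro k hk k' hk'
        obtain ⟨u, hu, v, hv, rfl⟩ := hprod' k hk
        obtain ⟨u', hu', v', hv', rfl⟩ := hprod' k' hk'
        rw [commutator_mul_mul_of_commute (hcq u hu v hv) (hcq u hu v' hv') (hcq u' hu' v hv)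
          (hcq u' hu' v' hv')]
        have huu : Commute u u' := by
          have h1 := (hc _ hk' u hu).symm.mul_right (hcq u hu v' hv').inv_right
          simpa using h1
        rw [commutatorElement_eq_one_iff_commute.mpr huu, one_mul]
        exact mul_mem (mul_mem (mul_mem hv hv') (inv_mem hv)) (inv_mem hv')
      exact (hKle.trans inf_le_left).trans ((Subgroup.le_centralizer_iff.mp hPQ).trans
        (Subgroup.centralizer_le (SetLike.coe_subset_coe.mpr le_sup_left)))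
  refine ⟨L, hL, ?_⟩
  by_cases hfix : La = L
  · left
    rwa [hP, hfix, sup_idem] at hKP
  right
  refine ⟨hfix, ?_⟩
  have hLLa : ∀ u ∈ L, ∀ v ∈ La, Commute u v := fun u hu v hv =>
    (mem_centralizer_iff.mp (component_le_centralizer hL hLac (Ne.symm hfix) hu) v hv).symm
  have hca : ∀ l ∈ L, a * l * a⁻¹ ∈ La := fun l hl => ⟨l, hl, rfl⟩
  let δ : ↥L →* X := MonoidHom.mk' (fun l => (l : X) * (a * l * a⁻¹)) (fun l m => by
    have h := (hLLa m m.2 _ (hca l l.2)).eq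
    calc ((l * m : ↥L) : X) * (a * ((l * m : ↥L) : X) * a⁻¹)
        = (l : X) * ((m : X) * (a * l * a⁻¹)) * (a * m * a⁻¹) := by
          simp only [Subgroup.coe_mul]; group
      _ = (l : X) * (a * l * a⁻¹) * ((m : X) * (a * m * a⁻¹)) := by rw [h]; group)
  suffices h : K ≤ δ.range by
    intro k hk
    obtain ⟨l, hl⟩ := h hk
    exact ⟨l, l.2, hl.symm⟩
  have hdec : ∀ k ∈ K, ∃ l : ↥L, ∃ z ∈ L ⊓ La, k = δ l * z := by
    intro k hk
    have hk' : k ∈ ((L ⊔ La : Subgroup X) : Set X) := hKP hk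
    rw [Subgroup.coe_mul_of_right_le_normalizer_left L La
      ((component_le_centralizer hLac hL hfix).trans (Subgroup.centralizer_le_normalizer _))] at hk'
    obtain ⟨l, hl, m, hm, rfl⟩ := hk'
    refine ⟨⟨l, hl⟩, (a * l * a⁻¹)⁻¹ * m, Subgroup.mem_inf.mpr ⟨?_, mul_mem (inv_mem (hca l hl)) hm⟩, ?_⟩
    · have hma : a * m * a⁻¹ ∈ L := hLaa.le ⟨m, hm, rfl⟩
      have hkey : (a * l * a⁻¹)⁻¹ * m = a * m * a⁻¹ * l⁻¹ := by
        have h1 := hKa _ hk
        have e1 : a * l * a⁻¹ * (a * m * a⁻¹) = l * m := by refine Eq.trans ?_ h1; group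
        have c1 : Commute (a * m * a⁻¹) (a * l * a⁻¹) := hLLa _ hma _ (hca l hl)
        calc (a * l * a⁻¹)⁻¹ * m = (a * l * a⁻¹)⁻¹ * (m * l) * l⁻¹ := by group
          _ = (a * l * a⁻¹)⁻¹ * (a * l * a⁻¹ * (a * m * a⁻¹)) * l⁻¹ := by
            rw [e1, (hLLa l hl m hm).eq]
          _ = a * m * a⁻¹ * l⁻¹ := by group
      rw [hkey]
      exact mul_mem hma (inv_mem hl)
    · show l * m = l * (a * l * a⁻¹) * ((a * l * a⁻¹)⁻¹ * m)
      group
  rw [← hKperf, Subgroup.commutator_le]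
  intro k hk k' hk'
  obtain ⟨l, z, hz, rfl⟩ := hdec k hk
  obtain ⟨l', z', hz', rfl⟩ := hdec k' hk'
  obtain ⟨hz1, hz2⟩ := Subgroup.mem_inf.mp hz
  obtain ⟨hz1', hz2'⟩ := Subgroup.mem_inf.mp hz'
  have hcz : ∀ m : ↥L, ∀ w : X, w ∈ L → w ∈ La → Commute w (δ m) := fun m w hw hw' =>
    (((hLLa m m.2 w hw').symm).mul_right (hLLa w hw _ (hca m m.2)))
  rw [← (hcz l z hz1 hz2).eq, ← (hcz l' z' hz1' hz2').eq]
  rw [commutatorElement_mul_mul_eq (hcz l z hz1 hz2) (hcz l' z hz1 hz2) (hcz l z' hz1' hz2')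
    (hcz l' z' hz1' hz2') (hLLa z hz1 z' hz2'), ← map_commutatorElement]
  exact ⟨_, rfl⟩

end Cfsg.Agent.Components
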