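import Cfsg.Agent.Lib.Components.LBalance
import Cfsg.Agent.Lib.Components.AutSylow

/-!
# `L`-balance for the prime `2`

`L_{2'}(C_X(T)) ≤ L_{2'}(X)` for every `2`-subgroup `T`. The `Z*`-theorem is taken as a parameter.
-/

set_option autoImplicit false
set_option linter.style.haveILetI false

namespace Cfsg.Agent.Components

open Subgroup
open Cfsg.Agent.ConjFunctor
open scoped commutatorElement

section General

variable {G : Type*} [Group G] [Finite G] {p : ℕ} [hp : Fact p.Prime]

/-- A `p`-element of `MN`, with `M` normal and `N` a `p'`-group, lies in `M`. -/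
theorem mem_of_mem_sup_of_coprime (M N : Subgroup G) [M.Normal] (hN : (Nat.card N).Coprime p)
    {g : G} {k : ℕ} (hg : g ^ p ^ k = 1) (h : g ∈ M ⊔ N) : g ∈ M := by
  have h2 : QuotientGroup.mk' M g ∈ N.map (QuotientGroup.mk' M) := by
    have h4 : QuotientGroup.mk' M g ∈ (M ⊔ N).map (QuotientGroup.mk' M) :=
      Subgroup.mem_map_of_mem _ h
    rwa [Subgroup.map_sup, QuotientGroup.map_mk'_self, bot_sup_eq] at h4
  have h3 : orderOf (QuotientGroup.mk' M g) ∣ p ^ k :=
    orderOf_dvd_of_pow_eq_one (by rw [← map_pow, hg, map_one])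
  have h4 := Nat.eq_one_of_dvd_coprimes (hN.pow_right k)
    ((Subgroup.orderOf_dvd_natCard _ h2).trans (Subgroup.card_map_dvd _ _)) h3
  rwa [orderOf_eq_one_iff, QuotientGroup.mk'_apply, QuotientGroup.eq_one_iff] at h4

/-- A `p`-element of the preimage of `E(G/O_{p'}(G))` lies in the `p`-layer. -/
theorem mem_pLayer_of_mem_layerCover {g : G} {k : ℕ} (hg : g ^ p ^ k = 1)
    (h : g ∈ layerCover p G) : g ∈ pLayer p G := by
  refine mem_of_mem_sup_of_coprime (pLayer p G) (pPrimeCore p G)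
    Thompson.card_pPrimeCore_coprime hg ?_
  have h1 : QuotientGroup.mk' (pPrimeCore p G) g ∈
      (pLayer p G).map (QuotientGroup.mk' (pPrimeCore p G)) := by
    rw [map_pLayer]; exact h
  have h2 : g ∈ ((pLayer p G).map (QuotientGroup.mk' (pPrimeCore p G))).comap _ := h1
  rwa [Subgroup.comap_map_eq, QuotientGroup.ker_mk'] at h2

/-- The `p`-layer is generated by `p`-elements. -/
theorem pLayer_le_of_forall {M : Subgroup G}
    (h : ∀ g ∈ pLayer p G, (∃ k, g ^ p ^ k = 1) → g ∈ M) : pLayer p G ≤ M := by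
  refine sSup_le fun K hK => (isPComponent_eq hK).le.trans ((Subgroup.closure_le M).mpr ?_)
  exact fun g hg => h g (pComponent_le_pLayer hK
    ((isPComponent_eq hK).ge (Subgroup.subset_closure hg))) hg.2

/-- A subnormal subgroup which covers a quasisimple section modulo a `p'`-group lies in the
preimage of `E(G/O_{p'}(G))`. -/
theorem le_layerCover_of_isSubnormal {J : Subgroup G} (hJ : J.IsSubnormal) {Q : Type*} [Group Q]
    (hQ : IsQuasisimple Q) (f : J →* Q) (hf : Function.Surjective f)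
    (hker : (Nat.card f.ker).Coprime p) : J ≤ layerCover p G := by
  set π := QuotientGroup.mk' (pPrimeCore p G) with hπ
  show J ≤ (layer (G ⧸ pPrimeCore p G)).comap π
  rw [← map_le_iff_le_comap]
  by_cases hbot : J.map π = ⊥
  · rw [hbot]; exact bot_le
  haveI := (Subgroup.nontrivial_iff_ne_bot _).mpr hbot
  set g := π.subgroupMap J with hg
  have hsn : (f.ker.map J.subtype).IsSubnormal := f.normal_ker.isSubnormal.trans' hJ
  have hle : f.ker ≤ g.ker := by
    intro x hx
    have h1 : (x : G) ∈ pPrimeCore p G := Thompson.le_pPrimeCore_of_isSubnormal hsn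
      ((Nat.card_congr (f.ker.equivMapOfInjective _ J.subtype_injective).toEquiv) ▸ hker)
      ⟨x, hx, rfl⟩
    exact Subtype.ext ((QuotientGroup.eq_one_iff (x : G)).mpr h1)
  let ψ := f.liftOfSurjective hf ⟨g, hle⟩
  have hψ : Function.Surjective ψ := by
    intro y
    obtain ⟨x, rfl⟩ := π.subgroupMap_surjective J y
    exact ⟨f x, MonoidHom.liftOfRightInverse_comp_apply f _ _ _ x⟩
  exact component_le_layer ⟨hJ.map (QuotientGroup.mk'_surjective _),
    isQuasisimple_of_surjective hQ ψ hψ⟩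

/-- The `p`-layer of a subnormal subgroup lies in the preimage of `E(G/O_{p'}(G))`. -/
theorem map_pLayer_isSubnormal_le {M : Subgroup G} (hM : M.IsSubnormal) :
    (pLayer p M).map M.subtype ≤ layerCover p G := by
  rw [map_le_iff_le_comap, pLayer]
  refine sSup_le fun K hK => ?_
  rw [← map_le_iff_le_comap]
  let e := K.equivMapOfInjective _ M.subtype_injective
  refine le_layerCover_of_isSubnormal (p := p) (hK.1.trans' hM)
    (isQuasisimple_quotient_pPrimeCore hK)
    ((QuotientGroup.mk' (pPrimeCore p K)).comp e.symm.toMonoidHom)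
    ((QuotientGroup.mk'_surjective _).comp e.symm.surjective) ?_
  refine Nat.Coprime.coprime_dvd_left (dvd_of_eq (Nat.card_congr ?_)) 
    (Thompson.card_pPrimeCore_coprime (p := p) (G := K))
  refine Equiv.subtypeEquiv e.symm.toEquiv fun x => ?_
  exact QuotientGroup.eq_one_iff (e.symm x)

/-- Reduction of balance of `p`-layers to groups with trivial `p'`-core. -/
theorem map_pLayer_normalizer_le_of_quotient {R : Subgroup G} (hR : IsPGroup p R)
    (h : (pLayer p ↥(Subgroup.normalizer (R.map (QuotientGroup.mk' (pPrimeCore p G)) :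
          Set (G ⧸ pPrimeCore p G)))).map
        (Subgroup.normalizer (R.map (QuotientGroup.mk' (pPrimeCore p G)) :
          Set (G ⧸ pPrimeCore p G))).subtype ≤ layer (G ⧸ pPrimeCore p G)) :
    (pLayer p ↥(Subgroup.normalizer (R : Set G))).map (Subgroup.normalizer (R : Set G)).subtype ≤
      pLayer p G := by
  set π := QuotientGroup.mk' (pPrimeCore p G) with hπ
  rw [map_le_iff_le_comap]
  refine pLayer_le_of_forall fun g hg ⟨k, hgk⟩ => ?_
  have hgk' : (g : G) ^ p ^ k = 1 := by rw [← Subgroup.coe_pow, hgk, Subgroup.coe_one]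
  obtain ⟨y, hy, hye⟩ := map_localLayerCover_le hR ⟨(g : G), ⟨g, pLayer_le_layerCover hg, rfl⟩, rfl⟩
  have hyk : y ^ p ^ k = 1 := Subtype.ext (by
    rw [Subgroup.coe_pow, show (y : G ⧸ pPrimeCore p G) = π g from hye, ← map_pow, hgk', map_one,
      Subgroup.coe_one])
  have h1 : π g ∈ layer (G ⧸ pPrimeCore p G) :=
    hye ▸ h ⟨y, mem_pLayer_of_mem_layerCover hyk hy, rfl⟩
  exact mem_pLayer_of_mem_layerCover hgk' h1

/-- An element mapped to `y` has a power that is a `p`-element with the image `y ^ m`. -/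
theorem exists_pPart_lift {H Q : Type*} [Group H] [Group Q] [Finite H] (f : H →* Q) (h : H) :
    ∃ (m k : ℕ), ¬ p ∣ m ∧ (h ^ m) ^ p ^ k = 1 ∧ f (h ^ m) = f h ^ m := by
  obtain ⟨k, m, hm, hkm⟩ :=
    Nat.exists_eq_pow_mul_and_not_dvd (orderOf_pos h).ne' p hp.out.ne_one
  exact ⟨m, k, hm, by rw [← pow_mul, mul_comm, ← hkm, pow_orderOf_eq_one], map_pow f h m⟩

/-- An element of `p`-power order whose `m`-th power lies in `Z`, `p ∤ m`, lies in `Z`. -/
theorem mem_of_pow_mem_of_orderOf {Q : Type*} [Group Q] {Z : Subgroup Q} {x : Q} {j m : ℕ}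
    (hx : orderOf x = p ^ j) (hm : ¬ p ∣ m) (h : x ^ m ∈ Z) : x ∈ Z := by
  have hcop : Nat.Coprime (p ^ j) m :=
    Nat.Coprime.pow_left j (hp.out.coprime_iff_not_dvd.mpr hm)
  have h1 := Nat.gcd_eq_gcd_ab (p ^ j) m
  rw [hcop.gcd_eq_one] at h1
  have hxj : x ^ p ^ j = 1 := hx ▸ pow_orderOf_eq_one x
  have h2 : x = (x ^ p ^ j) ^ Nat.gcdA (p ^ j) m * (x ^ m) ^ Nat.gcdB (p ^ j) m := by
    rw [← zpow_natCast x (p ^ j), ← zpow_natCast x m, ← zpow_mul, ← zpow_mul, ← zpow_add, ← h1,
      Nat.cast_one, zpow_one]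
  rw [h2, hxj, one_zpow, one_mul]
  exact zpow_mem h _

end General

section Two

universe u

variable (hZ : ZStarProperty.{u}) {G : Type u} [Group G] [Finite G]
include hZ

/-- A `2`-component of `N_G(T)` centralizing a Sylow subgroup of the layer lies in the layer. -/
theorem le_layer_of_sylow_layer_le (hO : pPrimeCore 2 G = ⊥) {T H : Subgroup G}
    (hT : IsPGroup 2 T) (hH : ⁅H, H⁆ = H) (hgen : H ≤ pElementsClosure 2 H)
    (hHT : H ≤ localLayerCover 2 T) {SE : Subgroup G} (hSE : IsSylowIn 2 SE (layer G))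
    (hSET : SE ≤ T) : H ≤ layer G := by
  haveI : Fact (Nat.Prime 2) := ⟨Nat.prime_two⟩
  refine le_layer_of_le_sup_centralizer hO hT hH hHT fun L hL => ?_
  refine le_trans ?_ (le_sup_right : Subgroup.centralizer (L : Set G) ≤ _)
  have hHL : H ≤ Subgroup.normalizer (L : Set G) :=
    hHT.trans (localLayerCover_le_normalizer_component hO hT hL)
  have hLn : layer G ≤ nrm L := layer_le_normalizer hL
  obtain ⟨P, hP⟩ :=
    (isSylowIn_inf_of_normal hSE (component_le_layer hL) hLn).exists_sylow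
  haveI : IsSimpleGroup (↥L ⧸ center ↥L) := hL.2.2
  have hdvd : 2 ∣ Nat.card (↥L ⧸ center ↥L) :=
    dvd_card_quotient_center_of_isQuasisimple hL.2 (dvd_card_component hO hL)
  have hc : center (↥L ⧸ center ↥L) = ⊥ := by
    rcases Subgroup.Normal.eq_bot_or_eq_top (inferInstance :
      (center (↥L ⧸ center ↥L)).Normal) with h | h
    · exact h
    · exfalso
      haveI := hL.2.1
      haveI : Group.IsPerfect (↥L ⧸ center ↥L) :=
        Group.IsPerfect.ofSurjective (QuotientGroup.mk'_surjective (center ↥L))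
      have h1 : (commutator (↥L ⧸ center ↥L)) = ⊥ := by
        rw [_root_.commutator_def, commutator_top_right_eq_bot_iff_le_center, h]
      exact bot_ne_top (h1.symm.trans Group.IsPerfect.commutator_eq_top)
  have hO' : pPrimeCore 2 (↥L ⧸ center ↥L) = ⊥ := by
    rcases Subgroup.Normal.eq_bot_or_eq_top (inferInstance :
      (pPrimeCore 2 (↥L ⧸ center ↥L)).Normal) with h | h
    · exact h
    · exact absurd hdvd ((Fact.out : Nat.Prime 2).coprime_iff_not_dvd.mp
        (Thompson.pPrimeCore_eq_top_iff.mp h).symm)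
  set φ := quotientCenterAut hHL with hφ
  have hgenH : Subgroup.closure {x : H | ∃ k, x ^ 2 ^ k = 1} = ⊤ := by
    rw [eq_top_iff]
    have h1 : pElementsClosure 2 H ≤
        (Subgroup.closure {x : H | ∃ k, x ^ 2 ^ k = 1}).map H.subtype := by
      rw [pElementsClosure, Subgroup.closure_le]
      rintro g ⟨hg, k, hk⟩
      exact ⟨⟨g, hg⟩, Subgroup.subset_closure ⟨k, Subtype.ext (by simpa using hk)⟩, rfl⟩
    intro x _
    obtain ⟨y, hy, he⟩ := h1 (hgen x.2)
    exact Subtype.ext he ▸ hy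
  have hone := eq_one_of_perfect_fixing hZ hc hO'
    (P.mapSurjective (QuotientGroup.mk'_surjective (center ↥L)))
    (Subgroup.isPerfect_iff.mpr hH) hgenH φ ?_
  · intro h hh
    refine mem_centralizer_of_commutator_mem_centralizer (component_commutator_eq_self hL)
      (hHL hh) fun l hl => ?_
    have e := DFunLike.congr_fun (hone ⟨h, hh⟩) (QuotientGroup.mk' (center ↥L) ⟨l, hl⟩)
    let m' : L := ⟨h * l * h⁻¹, (mem_normalizer_iff.mp (hHL hh) l).mp hl⟩
    have e' : QuotientGroup.mk' (center ↥L) m' = QuotientGroup.mk' (center ↥L) ⟨l, hl⟩ := e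
    have hz : m' * (⟨l, hl⟩ : L)⁻¹ ∈ center ↥L := by
      rw [← QuotientGroup.eq_one_iff, ← QuotientGroup.mk'_apply, map_mul, map_inv, e',
        mul_inv_cancel]
    refine mem_centralizer_iff.mpr fun a ha => ?_
    exact congrArg Subtype.val (mem_center_iff.mp hz ⟨a, ha⟩)
  · intro x q hq
    obtain ⟨s, hs, rfl⟩ := hq
    have hsT : (s : G) ∈ T :=
      hSET (hP.le ⟨s, hs, rfl⟩ : (s : G) ∈ SE ⊓ L).1
    have hxs : (x : G) * s * (x : G)⁻¹ = s := by
      rw [← mem_centralizer_iff.mp (localLayerCover_le_centralizer_self hT (hHT x.2)) s hsT,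
        mul_inv_cancel_right]
    exact congrArg (QuotientGroup.mk' (center ↥L))
      (Subtype.ext hxs : (⟨(x : G) * s * (x : G)⁻¹, _⟩ : L) = s)

/-- `L`-balance in a group with trivial core. -/
theorem map_pLayer_normalizer_le_layer (hO : pPrimeCore 2 G = ⊥) (T : Subgroup G)
    (hT : IsPGroup 2 T) :
    (pLayer 2 ↥(Subgroup.normalizer (T : Set G))).map (Subgroup.normalizer (T : Set G)).subtype ≤
      layer G := by
  haveI : Fact (Nat.Prime 2) := ⟨Nat.prime_two⟩
  suffices h : ∀ (k : ℕ) (T : Subgroup G), Nat.card G ≤ Nat.card T + k → IsPGroup 2 T →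
      (pLayer 2 ↥(Subgroup.normalizer (T : Set G))).map (Subgroup.normalizer (T : Set G)).subtype ≤
        layer G from h (Nat.card G) T (Nat.le_add_left _ _) hT
  intro k
  induction k using Nat.strong_induction_on with
  | _ k ih =>
  intro T hk hT
  set N := Subgroup.normalizer (T : Set G) with hN
  set π := QuotientGroup.mk' (pPrimeCore 2 ↥N) with hπ
  set EN := (layer G).subgroupOf N with hEN
  rw [map_le_iff_le_comap, pLayer]
  refine sSup_le fun K hK => ?_
  show K ≤ EN
  have hgen : ∀ g ∈ K, ∀ j, g ^ 2 ^ j = 1 → π g ∈ EN.map π → g ∈ EN := by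
    intro g _ j hj hg
    refine mem_of_mem_sup_of_coprime EN (pPrimeCore 2 ↥N) Thompson.card_pPrimeCore_coprime hj ?_
    rw [← QuotientGroup.ker_mk' (pPrimeCore 2 ↥N), ← Subgroup.comap_map_eq]
    exact hg
  haveI : (EN.map π).Normal :=
    (inferInstance : EN.Normal).map π (QuotientGroup.mk'_surjective _)
  rcases component_le_or_commutator_eq_bot_of_normal hK.2.1 (EN.map π) with hle | hcm
  · refine (isPComponent_eq hK).le.trans ((Subgroup.closure_le _).mpr ?_)
    rintro g ⟨hg, j, hj⟩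
    have hgK : g ∈ K := (isPComponent_eq hK).ge (Subgroup.subset_closure ⟨hg, j, hj⟩)
    exact hgen g hgK j hj (hle ⟨g, hgK, rfl⟩)
  obtain ⟨S, hS, -⟩ := exists_isSylowIn EN (IsPGroup.of_bot (G := ↥N) (p := 2)) bot_le
  set S' := S.map N.subtype with hS'
  have hS'2 : IsPGroup 2 S' := hS.isPGroup.map _
  by_cases hST : S' ≤ T
  · obtain ⟨P, hP⟩ := hT.exists_le_sylow
    have hSE : IsSylowIn 2 ((P : Subgroup G) ⊓ layer G) (layer G) :=
      isSylowIn_inf_of_normal (isSylowIn_top P) le_top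
        (by rw [nrm_eq_top])
    set SE := (P : Subgroup G) ⊓ layer G with hSEdef
    have hSET : SE ≤ T := by
      by_contra hnot
      have hTU : T ⊔ SE ≤ (P : Subgroup G) := sup_le hP inf_le_left
      have hlt := lt_inf_nrm (P.2.to_le hTU) le_sup_left
        (fun h => hnot (h ▸ le_sup_right))
      obtain ⟨x, hx, hxT⟩ := SetLike.exists_of_lt hlt
      have hnorm : T ≤ Subgroup.normalizer (SE : Set G) := by
        refine Coprime.le_normalizer_inf (hP.trans Subgroup.le_normalizer) ?_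
        rw [normalizer_eq_top_iff.mpr (inferInstance : (layer G).Normal)]
        exact le_top
      have hx' : x ∈ ((T ⊔ SE : Subgroup G) : Set G) := hx.1
      rw [coe_mul_of_left_le_normalizer_right T SE hnorm] at hx'
      obtain ⟨t, ht, e, he, rfl⟩ := hx'
      have heN : e ∈ N := (mul_mem_cancel_left (Subgroup.le_normalizer ht)).mp hx.2
      refine hxT (mul_mem ht ?_)
      obtain ⟨j, hj⟩ := (P.2.to_le (inf_le_left : SE ≤ P)) ⟨e, he⟩
      have hord : IsPGroup 2 ↥(Subgroup.zpowers (⟨e, heN⟩ : N)) := by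
        have h1 : orderOf (⟨e, heN⟩ : N) ∣ 2 ^ j := orderOf_dvd_of_pow_eq_one
          (Subtype.ext (by simpa using congrArg Subtype.val hj))
        obtain ⟨i, -, hi⟩ := (Nat.dvd_prime_pow Nat.prime_two).mp h1
        exact IsPGroup.of_card (n := i) (by rw [Nat.card_zpowers, hi])
      obtain ⟨c, -, hc⟩ := hS.exists_cnj_le hord
        (Subgroup.zpowers_le.mpr (show (⟨e, heN⟩ : N) ∈ EN from he.2))
      have h2 : (c : G) * e * (c : G)⁻¹ ∈ T :=
        hST ⟨_, hc ⟨_, Subgroup.mem_zpowers _, rfl⟩, rfl⟩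
      exact (mem_normalizer_iff.mp c.2 e).mpr h2
    rw [hEN, subgroupOf, ← map_le_iff_le_comap]
    refine le_layer_of_sylow_layer_le hZ hO hT
      (by rw [← map_commutator, pComponent_commutator_eq_self hK]) ?_
      (Subgroup.map_mono ((pComponent_le_pLayer hK).trans pLayer_le_layerCover)) hSE hSET
    rw [map_le_iff_le_comap]
    refine (isPComponent_eq hK).le.trans ((Subgroup.closure_le _).mpr ?_)
    rintro g ⟨hg, j, hj⟩
    exact Subgroup.subset_closure ⟨⟨g, (isPComponent_eq hK).ge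
      (Subgroup.subset_closure ⟨hg, j, hj⟩), rfl⟩, j, by
        rw [← map_pow, hj, map_one]⟩
  exfalso
  set M := (K.map π).comap π with hM
  set K₁ := M ⊓ Subgroup.centralizer (S : Set ↥N) with hK₁
  have hcov : ∀ y ∈ K.map π, ∃ x ∈ K₁, π x = y := by
    rintro _ ⟨x, hx, rfl⟩
    have hcent : ∀ s ∈ S, Commute (π s) (π x) := fun s hs =>
      mem_centralizer_iff.mp (commutator_eq_bot_iff_le_centralizer.mp hcm ⟨x, hx, rfl⟩) _
        ⟨s, hS.le hs, rfl⟩
    have hxn : π x ∈ Subgroup.normalizer (S.map π : Set _) := by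
      refine Subgroup.centralizer_le_normalizer _ (mem_centralizer_iff.mpr ?_)
      rintro _ ⟨s, hs, rfl⟩
      exact hcent s hs
    obtain ⟨r, hr, hrx⟩ := exists_mem_normalizer_of_mem_normalizer_map (pPrimeCore 2 ↥N)
      Thompson.card_pPrimeCore_coprime hS.isPGroup hxn
    have hπr : π (r * x) = π x := by
      rw [map_mul, hπ, QuotientGroup.mk'_apply (pPrimeCore 2 ↥N) r,
        (QuotientGroup.eq_one_iff r).mpr hr, one_mul]
    refine ⟨r * x, ⟨?_, mem_centralizer_iff.mpr fun s (hs : s ∈ S) => ?_⟩, hπr⟩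
    · show π (r * x) ∈ K.map π
      exact hπr ▸ ⟨x, hx, rfl⟩
    · have h1 : (r * x) * s * (r * x)⁻¹ * s⁻¹ ∈ S ⊓ pPrimeCore 2 ↥N := by
        refine ⟨S.mul_mem ((mem_normalizer_iff.mp hrx s).mp hs) (S.inv_mem hs), ?_⟩
        show _ ∈ pPrimeCore 2 ↥N
        rw [← QuotientGroup.eq_one_iff, ← QuotientGroup.mk'_apply, ← hπ]
        rw [map_mul, map_mul, map_mul, map_inv, map_inv, hπr, ← (hcent s hs).eq]
        group
      rw [Thompson.inf_eq_bot_of_isPGroup_of_coprime hS.isPGroup
        Thompson.card_pPrimeCore_coprime, Subgroup.mem_bot, mul_inv_eq_one,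
        mul_inv_eq_iff_eq_mul] at h1
      exact h1.symm
  set T₁ := T ⊔ S' with hT₁
  have hT₁2 : IsPGroup 2 T₁ :=
    hT.to_sup_of_normal_left' hS'2 (Subgroup.map_subtype_le S)
  have hcard : Nat.card T < Nat.card T₁ := by
    refine lt_of_le_of_ne (Subgroup.card_le_of_le le_sup_left) fun he => hST ?_
    rw [Subgroup.eq_of_le_of_card_ge (le_sup_left : T ≤ T₁) he.ge]
    exact le_sup_right
  have hT₁G : Nat.card T₁ ≤ Nat.card G := Subgroup.card_le_card_group T₁
  set N₁ := Subgroup.normalizer (T₁ : Set G) with hN₁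
  have hIH := ih (Nat.card G - Nat.card T₁) (by omega) T₁ (by omega) hT₁2
  set C₁ := Subgroup.centralizer (T₁ : Set G) with hC₁
  have hC₁N : C₁ ≤ N :=
    (Subgroup.centralizer_le (show (T : Set G) ⊆ T₁ from le_sup_left (a := T) (b := S'))).trans (Subgroup.centralizer_le_normalizer _)
  set MG := M.map N.subtype with hMG
  have hMT : MG ≤ Subgroup.centralizer (T : Set G) := by
    refine le_trans (Subgroup.map_mono ?_) (localLayerCover_le_centralizer_self hT)
    exact Subgroup.comap_mono (component_le_layer hK.2.1)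
  set J := (MG ⊓ C₁).subgroupOf N₁ with hJ
  have hJsn : J.IsSubnormal := by
    have hle : C₁ ≤ N₁ := Subgroup.centralizer_le_normalizer _
    have hCn : (C₁.subgroupOf N₁).Normal :=
      (normal_subgroupOf_iff_le_normalizer hle).mpr
        (Coprime.le_normalizer_centralizer le_rfl)
    refine Subgroup.IsSubnormal.trans (K := C₁.subgroupOf N₁)
      (Subgroup.comap_mono inf_le_right) ?_ hCn.isSubnormal
    have h := (hK.2.1.1.comap π).comap (Subgroup.inclusion hC₁N)
    have h2 := h.comap (Subgroup.subgroupOfEquivOfLe hle).toMonoidHom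
    convert h2 using 1
    ext x
    simp only [hJ, hMG, mem_subgroupOf, Subgroup.mem_comap, mem_inf]
    constructor
    · rintro ⟨⟨y, hy, he⟩, -⟩
      have : y = Subgroup.inclusion hC₁N ((Subgroup.subgroupOfEquivOfLe hle) x) := Subtype.ext he
      exact this ▸ hy
    · intro hx
      exact ⟨⟨_, hx, rfl⟩, x.2⟩
  let f₀ : J →* ↥N := (Subgroup.inclusion hC₁N).comp
    ((N₁.subtype.comp J.subtype).codRestrict C₁ fun x => x.2.2)
  have hf₀M : ∀ x, π (f₀ x) ∈ K.map π := fun x => by
    obtain ⟨y, hy, he⟩ := x.2.1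
    have : y = f₀ x := Subtype.ext he
    exact this ▸ hy
  let f : J →* ↥(K.map π) := (π.comp f₀).codRestrict _ hf₀M
  have hf : Function.Surjective f := by
    rintro ⟨y, hy⟩
    obtain ⟨x, ⟨hxM, hxS⟩, rfl⟩ := hcov y hy
    have hxC : (x : G) ∈ C₁ := by
      have h1 : T₁ ≤ Subgroup.centralizer ({(x : G)} : Set G) := by
        refine sup_le (fun t ht => mem_centralizer_singleton_iff.mpr
          (mem_centralizer_iff.mp (hMT ⟨x, hxM, rfl⟩) t ht)) ?_
        rintro _ ⟨s, hs, rfl⟩
        exact mem_centralizer_singleton_iff.mpr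
          (congrArg Subtype.val (mem_centralizer_iff.mp hxS s hs))
      exact mem_centralizer_iff.mpr fun t ht => mem_centralizer_singleton_iff.mp (h1 ht)
    exact ⟨⟨⟨x, Subgroup.centralizer_le_normalizer _ hxC⟩, ⟨x, hxM, rfl⟩, hxC⟩, Subtype.ext rfl⟩
  have hf₀ : Function.Injective f₀ := fun a b hab =>
    Subtype.ext (Subtype.ext (show ((f₀ a : N) : G) = f₀ b from congrArg Subtype.val hab))
  have hker : (Nat.card f.ker).Coprime 2 := by
    have hle : f.ker ≤ (pPrimeCore 2 ↥N).comap f₀ := fun x hx =>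
      (QuotientGroup.eq_one_iff (f₀ x)).mp (congrArg Subtype.val (MonoidHom.mem_ker.mp hx))
    exact (Thompson.card_pPrimeCore_coprime (p := 2) (G := ↥N)).coprime_dvd_left
      ((Subgroup.card_dvd_of_le hle).trans (Subgroup.card_comap_dvd_of_injective _ f₀ hf₀))
  have hJle := le_layerCover_of_isSubnormal (p := 2) hJsn hK.2.1.2 f hf hker
  obtain ⟨a, ha, j, haj⟩ := exists_noncentral_pElement (p := 2) hK.2.1.2
    (dvd_card_component Thompson.pPrimeCore_quotient_pPrimeCore hK.2.1)
  obtain ⟨b, rfl⟩ := hf a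
  obtain ⟨m, i, hm, hbm, hfm⟩ := exists_pPart_lift (p := 2) f b
  refine ha (mem_of_pow_mem_of_orderOf haj hm ?_)
  rw [← hfm]
  have hbm' : ((b ^ m : J) : N₁) ^ 2 ^ i = 1 := by rw [← Subgroup.coe_pow, hbm, Subgroup.coe_one]
  have hE : ((b ^ m : J) : G) ∈ layer G :=
    hIH ⟨_, mem_pLayer_of_mem_layerCover hbm' (hJle (b ^ m).2), rfl⟩
  have hD : (f (b ^ m) : ↥N ⧸ pPrimeCore 2 ↥N) ∈ EN.map π := ⟨f₀ (b ^ m), hE, rfl⟩
  refine mem_center_iff.mpr fun z => Subtype.ext ?_
  exact (mem_centralizer_iff.mp (commutator_eq_bot_iff_le_centralizer.mp hcm z.2) _ hD).symm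

/-- **`L`-balance**: `L_{2'}(C_X(T)) ≤ L_{2'}(X)`. -/
theorem map_pLayer_centralizer_le (T : Subgroup G) (hT : IsPGroup 2 T) :
    (pLayer 2 ↥(Subgroup.centralizer (T : Set G))).map
      (Subgroup.centralizer (T : Set G)).subtype ≤ pLayer 2 G := by
  haveI : Fact (Nat.Prime 2) := ⟨Nat.prime_two⟩
  set C := Subgroup.centralizer (T : Set G) with hC
  set N := Subgroup.normalizer (T : Set G) with hN
  have hCN : C ≤ N := Subgroup.centralizer_le_normalizer _
  have hn : (C.subgroupOf N).Normal :=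
    (normal_subgroupOf_iff_le_normalizer hCN).mpr (Coprime.le_normalizer_centralizer le_rfl)
  have h1 := map_pLayer_normalizer_le_of_quotient hT
    (map_pLayer_normalizer_le_layer hZ Thompson.pPrimeCore_quotient_pPrimeCore _ (hT.map _))
  rw [map_le_iff_le_comap]
  refine pLayer_le_of_forall fun g hg ⟨k, hgk⟩ => ?_
  let e := Subgroup.subgroupOfEquivOfLe hCN
  have hg' : e.symm g ∈ layerCover 2 ↥(C.subgroupOf N) :=
    map_layerCover_le e.symm.toMonoidHom e.symm.surjective ⟨g, pLayer_le_layerCover hg, rfl⟩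
  have hgk' : (e.symm g) ^ 2 ^ k = 1 := by rw [← map_pow, hgk, map_one]
  have h2 := map_pLayer_isSubnormal_le (p := 2) hn.isSubnormal
    ⟨_, mem_pLayer_of_mem_layerCover hgk' hg', rfl⟩
  have hgk'' : ((e.symm g : C.subgroupOf N) : N) ^ 2 ^ k = 1 := by
    rw [← Subgroup.coe_pow, hgk', Subgroup.coe_one]
  exact h1 ⟨_, mem_pLayer_of_mem_layerCover hgk'' h2, rfl⟩

end Two

end Cfsg.Agent.Components
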