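import Cfsg.Prelude.Def_Balance
import Cfsg.Agent.Signal38.Basic
import Cfsg.Agent.H40.Hyperplane
import Mathlib.GroupTheory.Solvable
import Mathlib.GroupTheory.Sylow

/-!
# The signalizer functor of a `k`-balanced group
-/

set_option autoImplicit false
set_option linter.style.haveILetI false

namespace Cfsg.Agent.Components

open Subgroup
open scoped commutatorElement

variable {G : Type*} [Group G]

/-- Commutators of closures land in a subgroup normalized by the generators. -/
theorem commutator_closure_mem {s : Set G} {T : Subgroup G}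
    (hs : s ⊆ (Subgroup.normalizer (T : Set G) : Subgroup G))
    (h : ∀ u ∈ s, ∀ v ∈ s, ⁅u, v⁆ ∈ T) :
    ⁅closure s, closure s⁆ ≤ T := by
  have hN : closure s ≤ Subgroup.normalizer (T : Set G) := (closure_le _).mpr hs
  have aux : ∀ v : G, (∀ u ∈ s, ⁅u, v⁆ ∈ T) → ∀ x ∈ closure s, ⁅x, v⁆ ∈ T := by
    intro v hv x hx
    induction hx using closure_induction with
    | mem x hx => exact hv x hx
    | one => simp
    | mul x y hx hy ihx ihy =>
      have e : ⁅x * y, v⁆ = x * ⁅y, v⁆ * x⁻¹ * ⁅x, v⁆ := by simp only [commutatorElement_def]; group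
      rw [e]
      exact mul_mem ((mem_normalizer_iff.mp (hN hx) _).mp ihy) ihx
    | inv x hx ihx =>
      have e : ⁅x⁻¹, v⁆ = x⁻¹ * ⁅x, v⁆⁻¹ * x := by simp only [commutatorElement_def]; group
      rw [e]
      have := (mem_normalizer_iff.mp (hN (inv_mem hx)) _).mp (inv_mem ihx)
      simpa using this
  rw [commutator_le]
  intro x hx y hy
  refine aux y (fun u hu => ?_) x hx
  rw [← commutatorElement_inv]
  refine inv_mem (aux u (fun v hv => ?_) y hy)
  exact h v hv u hu

section Delta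

variable {p k : ℕ} {A : Subgroup G}

theorem signalizerDelta_anti {D B : Subgroup G} (h : D ≤ B) :
    signalizerDelta p B ≤ signalizerDelta p D :=
  le_iInf fun ⟨a, ha, ha1⟩ => iInf_le_of_le ⟨a, h ha, ha1⟩ le_rfl

theorem signalizerDelta_le {D : Subgroup G} {d : G} (hd : d ∈ D) (hd1 : d ≠ 1) :
    signalizerDelta p D ≤ centralizerPPrimeCore p d :=
  iInf_le_of_le ⟨d, hd, hd1⟩ le_rfl

theorem le_normalizer_signalizerDelta {D : Subgroup G} (hA : IsElementaryAbelian p A) (hD : D ≤ A) :
    A ≤ Subgroup.normalizer (signalizerDelta p D : Set G) := by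
  refine Coprime.le_normalizer_of_conj_mem fun b hb x hx => Subgroup.mem_iInf.mpr ?_
  rintro ⟨d, hd, hd1⟩
  have hbd : b ∈ Subgroup.centralizer ({d} : Set G) :=
    mem_centralizer_singleton_iff.mpr (congrArg Subtype.val
      (hA.1.is_comm.comm (⟨b, hb⟩ : A) ⟨d, hD hd⟩) :)
  exact (mem_normalizer_iff.mp (Signal38.centralizer_le_normalizer_centralizerPPrimeCore p d hbd) x).mp
    (signalizerDelta_le hd hd1 hx)

variable [Finite G] [hp : Fact p.Prime]

theorem signalizerDelta_inf_centralizer_le (hbal : IsKBalanced p k G)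
    (hA : IsElementaryAbelian p A) {D B : Subgroup G} (hD : D ≤ A) (hDk : p ^ k ≤ Nat.card D)
    (hB : B ≤ A) :
    signalizerDelta p D ⊓ Subgroup.centralizer (B : Set G) ≤ signalizerDelta p B := by
  haveI := hA.1
  obtain ⟨m, hm⟩ := IsPGroup.iff_card.mp ((Signal38.isPGroup_of_elementary hA).to_le hD)
  have hkm : k ≤ m := (Nat.pow_le_pow_iff_right hp.out.one_lt).mp (hm ▸ hDk)
  obtain ⟨K, hK⟩ := Sylow.exists_subgroup_card_pow_prime (G := D) p (n := k)
    (hm ▸ pow_dvd_pow p hkm)
  have hK' : K.map D.subtype ≤ D := Subgroup.map_subtype_le _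
  have hKc : Nat.card (K.map D.subtype : Subgroup G) = p ^ k := by
    rw [Subgroup.card_map_of_injective D.subtype_injective, hK]
  have hKe : IsElementaryAbelian p (K.map D.subtype : Subgroup G) := by
    refine ⟨⟨⟨fun u v => ?_⟩⟩, fun u hu => hA.2 u (hD (hK' hu))⟩
    exact Subtype.ext (congrArg Subtype.val
      (hA.1.is_comm.comm (⟨(u : G), hD (hK' u.2)⟩ : A) ⟨(v : G), hD (hK' v.2)⟩) :)
  rintro x ⟨hx, hxB⟩
  refine Subgroup.mem_iInf.mpr ?_
  rintro ⟨e, he, he1⟩
  refine hbal _ hKe hKc e (orderOf_eq_prime (hA.2 e (hB he)) he1) (fun u hu => ?_)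
    ⟨signalizerDelta_anti hK' hx, ?_⟩
  · exact congrArg Subtype.val (hA.1.is_comm.comm (⟨u, hD (hK' hu)⟩ : A) ⟨e, hB he⟩)
  · exact mem_centralizer_singleton_iff.mpr (mem_centralizer_iff.mp hxB e he).symm

theorem signalizerDelta_coprime (hA : IsElementaryAbelian p A) (hk : 1 ≤ k) {D : Subgroup G}
    (hDk : p ^ k ≤ Nat.card D) : (Nat.card (signalizerDelta p D)).Coprime p := by
  have h1 : 1 < Nat.card D :=
    lt_of_lt_of_le (Nat.one_lt_pow (by omega) hp.out.one_lt) hDk
  haveI : Nontrivial D := Finite.one_lt_card_iff_nontrivial.mp h1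
  obtain ⟨⟨d, hd⟩, hd1⟩ := exists_ne (1 : D)
  exact (Signal38.centralizerPPrimeCore_card_coprime p d).coprime_dvd_left
    (Subgroup.card_dvd_of_le (signalizerDelta_le hd fun e => hd1 (Subtype.ext e)))

end Delta

variable [Finite G] {p k : ℕ} [hp : Fact p.Prime] {A : Subgroup G}

/-- The value at `a` of the functor of a `k`-balanced group. -/
abbrev kTheta (p k : ℕ) (A : Subgroup G) (a : G) : Subgroup G :=
  ⨆ D : {D : Subgroup G // D ≤ A ∧ Nat.card ↥D = p ^ k},
    signalizerDelta p (D : Subgroup G) ⊓ Subgroup.centralizer {a}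

theorem kTheta_le_core (hbal : IsKBalanced p k G) (hA : IsElementaryAbelian p A) {a : G}
    (ha : a ∈ A) (ha1 : a ≠ 1) : kTheta p k A a ≤ centralizerPPrimeCore p a := by
  refine iSup_le ?_
  rintro ⟨D, hDA, hDc⟩
  refine hbal D ⟨⟨⟨fun u v => ?_⟩⟩, fun u hu => hA.2 u (hDA hu)⟩ hDc a
    (orderOf_eq_prime (hA.2 a ha) ha1)
    (fun u hu => congrArg Subtype.val (hA.1.is_comm.comm (⟨u, hDA hu⟩ : A) ⟨a, ha⟩))
  exact Subtype.ext (congrArg Subtype.val
    (hA.1.is_comm.comm (⟨(u : G), hDA u.2⟩ : A) ⟨(v : G), hDA v.2⟩) :)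

theorem mem_kTheta_of_mem_delta (hA : IsElementaryAbelian p A) {a x : G} {B : Subgroup G}
    (hB : B ≤ A) (hBk : p ^ k ≤ Nat.card B) (hx : x ∈ signalizerDelta p B)
    (hxa : x ∈ Subgroup.centralizer ({a} : Set G)) : x ∈ kTheta p k A a := by
  obtain ⟨m, hm⟩ := IsPGroup.iff_card.mp ((Signal38.isPGroup_of_elementary hA).to_le hB)
  have hkm : k ≤ m := (Nat.pow_le_pow_iff_right hp.out.one_lt).mp (hm ▸ hBk)
  obtain ⟨K, hK⟩ := Sylow.exists_subgroup_card_pow_prime (G := B) p (n := k)
    (hm ▸ pow_dvd_pow p hkm)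
  have hK' : K.map B.subtype ≤ B := Subgroup.map_subtype_le _
  have hc : Nat.card (K.map B.subtype : Subgroup G) = p ^ k := by
    rw [Subgroup.card_map_of_injective B.subtype_injective, hK]
  have hmem : x ∈ signalizerDelta p (K.map B.subtype) ⊓ Subgroup.centralizer {a} :=
    Subgroup.mem_inf.mpr ⟨signalizerDelta_anti hK' hx, hxa⟩
  let D : {D : Subgroup G // D ≤ A ∧ Nat.card ↥D = p ^ k} := ⟨K.map B.subtype, hK'.trans hB, hc⟩
  have hle : signalizerDelta p (D : Subgroup G) ⊓ Subgroup.centralizer {a} ≤ kTheta p k A a :=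
    le_iSup (fun D : {D : Subgroup G // D ≤ A ∧ Nat.card ↥D = p ^ k} =>
      signalizerDelta p (D : Subgroup G) ⊓ Subgroup.centralizer {a}) D
  exact hle hmem

theorem le_normalizer_kTheta (hA : IsElementaryAbelian p A) {a : G} (ha : a ∈ A) :
    A ≤ Subgroup.normalizer (kTheta p k A a : Set G) := by
  intro b hb
  rw [← map_conj_eq_iff_mem_normalizer, Subgroup.map_iSup]
  refine iSup_congr fun D => ?_
  rw [Subgroup.map_inf _ _ _ (MulAut.conj b).injective,
    map_conj_eq_iff_mem_normalizer.mpr (le_normalizer_signalizerDelta hA D.2.1 hb),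
    map_conj_eq_iff_mem_normalizer.mpr (Subgroup.le_normalizer ?_)]
  exact mem_centralizer_singleton_iff.mpr (congrArg Subtype.val
    (hA.1.is_comm.comm (⟨b, hb⟩ : A) ⟨a, ha⟩) :)

/-- The generators of `θ(a)`: elements of `Δ(B) ∩ C(B)` for `B` of index at most `p`. -/
def kGenerators (p : ℕ) (A : Subgroup G) (a : G) : Set G :=
  {x | ∃ B : Subgroup G, B ≤ A ∧ a ∈ B ∧ Nat.card A ≤ Nat.card B * p ∧
    x ∈ signalizerDelta p B ∧ x ∈ Subgroup.centralizer (B : Set G)}

theorem card_le_mul_of_relIndex {B : Subgroup G} (hBA : B ≤ A) (hB : B.relIndex A ≤ p) :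
    Nat.card A ≤ Nat.card B * p := by
  have h := Subgroup.relIndex_mul_relIndex ⊥ B A bot_le hBA
  rw [Subgroup.relIndex_bot_left, Subgroup.relIndex_bot_left] at h
  rw [← h]
  exact Nat.mul_le_mul_left _ hB

theorem le_closure_kGenerators (hk : 1 ≤ k) (hbal : IsKBalanced p k G)
    (hA : IsElementaryAbelian p A) {a : G} (ha : a ∈ A) {D H : Subgroup G} (hD : D ≤ A)
    (hDk : p ^ k ≤ Nat.card D) (hH : H ≤ signalizerDelta p D ⊓ Subgroup.centralizer {a})
    (hAH : A ≤ Subgroup.normalizer (H : Set G)) :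
    H ≤ closure (kGenerators p A a ∩ (H : Set G)) := by
  have hcop : ¬ p ∣ Nat.card H := (hp.out.coprime_iff_not_dvd).mp
    (((signalizerDelta_coprime hA hk hDk).coprime_dvd_left
      (Subgroup.card_dvd_of_le (hH.trans inf_le_left))).symm)
  refine (H40.le_iSup_hyperplane hA hcop hAH).trans (iSup_le ?_)
  rintro ⟨B', hB'A, hB'i⟩ x hx
  obtain ⟨hxH, hxB'⟩ := Subgroup.mem_inf.mp hx
  let B := B' ⊔ Subgroup.zpowers a
  have hBA : B ≤ A := sup_le hB'A (Subgroup.zpowers_le.mpr ha)
  have hxB : x ∈ Subgroup.centralizer (B : Set G) := by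
    have h : B ≤ Subgroup.centralizer ({x} : Set G) := by
      refine sup_le (fun e he => ?_) (Subgroup.zpowers_le.mpr ?_)
      · exact mem_centralizer_singleton_iff.mpr (mem_centralizer_iff.mp hxB' e he)
      · exact mem_centralizer_singleton_iff.mpr
          (mem_centralizer_singleton_iff.mp (Subgroup.mem_inf.mp (hH hxH)).2).symm
    exact mem_centralizer_iff.mpr fun e he => mem_centralizer_singleton_iff.mp (h he)
  refine subset_closure ⟨⟨B, hBA, Subgroup.mem_sup_right (Subgroup.mem_zpowers a), ?_,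
    signalizerDelta_inf_centralizer_le hbal hA hD hDk hBA ⟨(hH hxH).1, hxB⟩, hxB⟩, hxH⟩
  exact (card_le_mul_of_relIndex hB'A hB'i).trans
    (Nat.mul_le_mul_right _ (Subgroup.card_le_of_le le_sup_left))

/-- The derived series of `θ(a)` inside `G`. -/
def kSeries (p k : ℕ) (A : Subgroup G) (a : G) (n : ℕ) : Subgroup G :=
  (derivedSeries ↥(kTheta p k A a) n).map (kTheta p k A a).subtype

theorem kSeries_zero {a : G} : kSeries p k A a 0 = kTheta p k A a := by
  rw [kSeries, derivedSeries_zero, ← MonoidHom.range_eq_map, Subgroup.range_subtype]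

theorem kSeries_succ {a : G} (n : ℕ) :
    kSeries p k A a (n + 1) = ⁅kSeries p k A a n, kSeries p k A a n⁆ := by
  rw [kSeries, kSeries, derivedSeries_succ, Subgroup.map_commutator]

theorem le_normalizer_kSeries {a : G} {M : Subgroup G}
    (hM : M ≤ Subgroup.normalizer (kTheta p k A a : Set G)) (n : ℕ) :
    M ≤ Subgroup.normalizer (kSeries p k A a n : Set G) := by
  induction n with
  | zero => rwa [kSeries_zero]
  | succ n ih =>
    intro m hm
    rw [← map_conj_eq_iff_mem_normalizer, kSeries_succ, Subgroup.map_commutator,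
      map_conj_eq_iff_mem_normalizer.mpr (ih hm)]

theorem card_pow_le_of_two (hAk : p ^ (k + 2) ≤ Nat.card A) {B : Subgroup G}
    (h : Nat.card A ≤ Nat.card B * p) : p ^ (k + 1) ≤ Nat.card B := by
  refine Nat.le_of_mul_le_mul_right ?_ hp.out.pos
  calc p ^ (k + 1) * p = p ^ (k + 2) := (pow_succ _ _).symm
    _ ≤ _ := hAk.trans h

theorem card_pow_le_inf (hAk : p ^ (k + 2) ≤ Nat.card A) {B₁ B₂ : Subgroup G}
    (h1A : B₁ ≤ A) (h2A : B₂ ≤ A)
    (h₁ : Nat.card A ≤ Nat.card B₁ * p) (h₂ : Nat.card A ≤ Nat.card B₂ * p) :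
    p ^ k ≤ Nat.card (B₁ ⊓ B₂ : Subgroup G) := by
  have key : ∀ B : Subgroup G, B ≤ A → Nat.card A ≤ Nat.card B * p → B.relIndex A ≤ p := by
    intro B hBA hB
    have h := Subgroup.relIndex_mul_relIndex ⊥ B A bot_le hBA
    rw [Subgroup.relIndex_bot_left, Subgroup.relIndex_bot_left] at h
    exact Nat.le_of_mul_le_mul_left (h.trans_le hB) Nat.card_pos
  have h3 : (B₁ ⊓ B₂).relIndex A ≤ p * p :=
    Subgroup.relIndex_inf_le.trans (Nat.mul_le_mul (key _ h1A h₁) (key _ h2A h₂))
  have h := Subgroup.relIndex_mul_relIndex ⊥ (B₁ ⊓ B₂) A bot_le (inf_le_left.trans h1A)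
  rw [Subgroup.relIndex_bot_left, Subgroup.relIndex_bot_left] at h
  refine Nat.le_of_mul_le_mul_right ?_ (Nat.mul_pos hp.out.pos hp.out.pos)
  calc p ^ k * (p * p) = p ^ (k + 2) := by rw [pow_add]; ring
    _ ≤ Nat.card A := hAk
    _ ≤ _ := h ▸ Nat.mul_le_mul_left _ h3

theorem kSeries_le_closure (hk : 1 ≤ k) (hbal : IsKBalanced p k G)
    (hA : IsElementaryAbelian p A) (hAk : p ^ (k + 2) ≤ Nat.card A) {a : G} (ha : a ∈ A) (n : ℕ) :
    kSeries p k A a n ≤ closure (kGenerators p A a ∩ (kSeries p k A a n : Set G)) := by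
  set S := kGenerators p A a with hS
  have hNA := le_normalizer_kTheta (k := k) hA ha
  have hC : A ≤ Subgroup.normalizer ((Subgroup.centralizer {a} : Subgroup G) : Set G) := fun b hb =>
    Subgroup.le_normalizer (mem_centralizer_singleton_iff.mpr (congrArg Subtype.val
      (hA.1.is_comm.comm (⟨b, hb⟩ : A) ⟨a, ha⟩) :))
  induction n with
  | zero =>
    rw [kSeries_zero]
    refine iSup_le fun D => ?_
    refine (le_closure_kGenerators hk hbal hA ha D.2.1 D.2.2.ge le_rfl
      (Coprime.le_normalizer_inf (le_normalizer_signalizerDelta hA D.2.1) hC)).trans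
        (Subgroup.closure_mono (Set.inter_subset_inter_right _ ?_))
    exact le_iSup (fun D : {D : Subgroup G // D ≤ A ∧ Nat.card ↥D = p ^ k} =>
      signalizerDelta p (D : Subgroup G) ⊓ Subgroup.centralizer {a}) D
  | succ n ih =>
    set F := kSeries p k A a (n + 1) with hF
    set T := closure (S ∩ (F : Set G)) with hT
    have hpair : ∀ u ∈ S, ∀ v ∈ S, ⁅u, v⁆ ∈ F → ⁅u, v⁆ ∈ T := by
      rintro u ⟨B₁, h1A, ha₁, h1c, hu, huC⟩ v ⟨B₂, h2A, ha₂, h2c, hv, hvC⟩ huv
      have hua : u ∈ Subgroup.centralizer ({a} : Set G) :=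
        mem_centralizer_singleton_iff.mpr (mem_centralizer_iff.mp huC a ha₁).symm
      have hva : v ∈ Subgroup.centralizer ({a} : Set G) :=
        mem_centralizer_singleton_iff.mpr (mem_centralizer_iff.mp hvC a ha₂).symm
      have hu' := signalizerDelta_anti (inf_le_left : B₁ ⊓ B₂ ≤ B₁) hu
      have hv' := signalizerDelta_anti (inf_le_right : B₁ ⊓ B₂ ≤ B₂) hv
      refine Subgroup.closure_mono (Set.inter_subset_inter_right _ ?_)
        (le_closure_kGenerators hk hbal hA ha
          (D := B₁ ⊓ B₂) (H := signalizerDelta p (B₁ ⊓ B₂) ⊓ Subgroup.centralizer {a} ⊓ F)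
          (inf_le_left.trans h1A) (card_pow_le_inf hAk h1A h2A h1c h2c) inf_le_left
          (Coprime.le_normalizer_inf (Coprime.le_normalizer_inf
            (le_normalizer_signalizerDelta hA (inf_le_left.trans h1A)) hC)
            (le_normalizer_kSeries hNA _)) ⟨⟨?_, ?_⟩, huv⟩)
      · exact inf_le_right
      · exact Subgroup.mul_mem _ (Subgroup.mul_mem _ (Subgroup.mul_mem _ hu' hv') (Subgroup.inv_mem _ hu')) (Subgroup.inv_mem _ hv')
      · exact Subgroup.mul_mem _ (Subgroup.mul_mem _ (Subgroup.mul_mem _ hua hva) (Subgroup.inv_mem _ hua)) (Subgroup.inv_mem _ hva)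
    have hSX : S ⊆ (kTheta p k A a : Set G) := by
      rintro u ⟨B, hBA, haB, hBc, hu, huC⟩
      exact mem_kTheta_of_mem_delta hA hBA
        ((Nat.pow_le_pow_right hp.out.pos (Nat.le_succ k)).trans (card_pow_le_of_two hAk hBc)) hu
        (mem_centralizer_singleton_iff.mpr (mem_centralizer_iff.mp huC a haB).symm)
    have hSN : S ⊆ (Subgroup.normalizer (T : Set G) : Subgroup G) := by
      intro u hu
      have hle : T.map (MulAut.conj u).toMonoidHom ≤ T := by
        rw [hT, MonoidHom.map_closure, Subgroup.closure_le]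
        rintro _ ⟨t, ⟨htS, htF⟩, rfl⟩
        have hutF : u * t * u⁻¹ ∈ F := (mem_normalizer_iff.mp
          (le_normalizer_kSeries Subgroup.le_normalizer _ (hSX hu)) t).mp htF
        have hcF : ⁅u, t⁆ ∈ F := mul_mem hutF (inv_mem htF)
        have := mul_mem (hpair u hu t htS hcF) (Subgroup.subset_closure ⟨htS, htF⟩ : t ∈ T)
        simpa [commutatorElement_def, mul_assoc] using this
      rw [SetLike.mem_coe, ← map_conj_eq_iff_mem_normalizer]
      exact Subgroup.eq_of_le_of_card_ge hle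
        (Subgroup.card_map_of_injective (MulAut.conj u).injective).ge
    rw [hF, kSeries_succ]
    refine (Subgroup.commutator_mono ih ih).trans
      (commutator_closure_mem (fun u hu => hSN hu.1) fun u hu v hv => ?_)
    refine hpair u hu.1 v hv.1 ?_
    rw [hF, kSeries_succ]
    exact commutator_mem_commutator hu.2 hv.2

theorem kSeries_inf_centralizer_le_aux (hk : 1 ≤ k) (hbal : IsKBalanced p k G)
    (hA : IsElementaryAbelian p A) (hAk : p ^ (k + 2) ≤ Nat.card A) {a : G} (ha : a ∈ A)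
    (ha1 : a ≠ 1) {B : Subgroup G} (hB : B ≤ A) (n : ℕ)
    (ih : kSeries p k A a (n + 1) ⊓ Subgroup.centralizer (B : Set G) ≤ signalizerDelta p B) :
    kSeries p k A a n ⊓ Subgroup.centralizer (B : Set G) ≤ signalizerDelta p B := by
  classical
  haveI := hA.1
  rintro y ⟨hyF, hyB⟩
  set F := kSeries p k A a n with hF
  set F' := kSeries p k A a (n + 1) with hF'
  have hFF' : F' ≤ F := by rw [hF', kSeries_succ]; exact commutator_le_self _
  set U := signalizerDelta p B ⊓ Subgroup.centralizer (B : Set G) ⊓ F with hU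
  set W := U ⊔ F' with hW
  have hWF : W ≤ F := sup_le inf_le_right hFF'
  have hFX : F ≤ kTheta p k A a := Subgroup.map_subtype_le _
  have hXcop : (Nat.card (kTheta p k A a)).Coprime p :=
    (Signal38.centralizerPPrimeCore_card_coprime p a).coprime_dvd_left
      (Subgroup.card_dvd_of_le (kTheta_le_core hbal hA ha ha1))
  have hAF : A ≤ Subgroup.normalizer (F : Set G) :=
    le_normalizer_kSeries (le_normalizer_kTheta hA ha) n
  have hBW : B ≤ Subgroup.normalizer (W : Set G) := by
    intro b hb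
    rw [← map_conj_eq_iff_mem_normalizer, hW, Subgroup.map_sup,
      map_conj_eq_iff_mem_normalizer.mpr (le_normalizer_kSeries (le_normalizer_kTheta hA ha) (n + 1)
        (hB hb))]
    congr 1
    rw [map_conj_eq_iff_mem_normalizer]
    refine mem_normalizer_iff.mpr fun x => ?_
    have hfix : ∀ z : G, z ∈ U → b * z * b⁻¹ = z := by
      intro z hz
      rw [mem_centralizer_iff.mp (Subgroup.mem_inf.mp (Subgroup.mem_inf.mp hz).1).2 b hb]
      group
    constructor
    · intro hx
      rw [hfix x hx]; exact hx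
    · intro hx
      have h1 := hfix _ hx
      have : b * x * b⁻¹ = x := by
        have h2 := congrArg (fun z => b⁻¹ * z * b) h1
        simpa [mul_assoc] using h2
      rwa [this] at hx
  -- the abelian quotient
  have hcomm : _root_.commutator ↥F ≤ W.subgroupOf F := by
    show _root_.commutator ↥F ≤ W.comap F.subtype
    rw [← Subgroup.map_le_iff_le_comap]
    rw [_root_.commutator_def, Subgroup.map_commutator, ← MonoidHom.range_eq_map, Subgroup.range_subtype]
    rw [hF, ← kSeries_succ, ← hF']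
    exact le_sup_right
  haveI hWn : (W.subgroupOf F).Normal := Subgroup.Normal.of_commutator_le (G := ↥F) hcomm
  let q := QuotientGroup.mk' (W.subgroupOf F)
  haveI hQc : IsMulCommutative (↥F ⧸ W.subgroupOf F) :=
    Subgroup.Normal.quotient_commutative_iff_commutator_le.mpr hcomm
  letI : CommGroup (↥F ⧸ W.subgroupOf F) :=
    { (inferInstance : Group (↥F ⧸ W.subgroupOf F)) with mul_comm := fun u v => hQc.is_comm.comm u v }
  haveI : Fintype B := Fintype.ofFinite B
  have hcmem : ∀ b : B, ∀ z : ↥F, (b : G) * z * (b : G)⁻¹ ∈ F := fun b z =>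
    (mem_normalizer_iff.mp (hAF (hB b.2)) (z : G)).mp z.2
  let c : B → ↥F →* ↥F := fun b => MonoidHom.mk' (fun z => ⟨_, hcmem b z⟩) (fun u v => Subtype.ext (by simp))
  have hcW : ∀ b : B, W.subgroupOf F ≤ (W.subgroupOf F).comap (c b) := fun b z hz =>
    (mem_normalizer_iff.mp (hBW b.2) (z : G)).mp hz
  let N : ↥F →* ↥F ⧸ W.subgroupOf F :=
    MonoidHom.mk' (fun z => ∏ b : B, q (c b z)) (fun u v => by
      simp only [map_mul, Finset.prod_mul_distrib])
  have hN1 : ∀ x : ↥F, (x : G) ∈ kGenerators p A a → N x = 1 := by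
    rintro x ⟨D, hDA, haD, hDc, hxD, hxC⟩
    have hDk : p ^ k ≤ Nat.card D :=
      (Nat.pow_le_pow_right hp.out.pos (Nat.le_succ k)).trans (card_pow_le_of_two hAk hDc)
    set H := signalizerDelta p D ⊓ Subgroup.centralizer {a} ⊓ F with hH
    have hAH : A ≤ Subgroup.normalizer (H : Set G) :=
      Coprime.le_normalizer_inf (Coprime.le_normalizer_inf (le_normalizer_signalizerDelta hA hDA)
        (fun b hb => Subgroup.le_normalizer (mem_centralizer_singleton_iff.mpr (congrArg Subtype.val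
          (hA.1.is_comm.comm (⟨b, hb⟩ : A) ⟨a, ha⟩) :)))) hAF
    have hxH : (x : G) ∈ H := Subgroup.mem_inf.mpr ⟨Subgroup.mem_inf.mpr ⟨hxD,
      mem_centralizer_singleton_iff.mpr (mem_centralizer_iff.mp hxC a haD).symm⟩, x.2⟩
    -- the norm lies in the image of `H` and is fixed by `B`
    obtain ⟨w, hwH, hwe⟩ : N x ∈ (H.subgroupOf F).map q := by
      refine Subgroup.prod_mem _ fun b _ => ⟨c b x, ?_, rfl⟩
      exact (mem_normalizer_iff.mp (hAH (hB b.2)) (x : G)).mp hxH
    have hfix : ∀ b : B, q (c b w) = q w := by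
      intro b
      let Φ := QuotientGroup.map (W.subgroupOf F) (W.subgroupOf F) (c b) (hcW b)
      have h1 : ∀ z, Φ (q z) = q (c b z) := fun z => rfl
      rw [← h1 w, hwe]
      show Φ (∏ d : B, q (c d x)) = ∏ d : B, q (c d x)
      rw [map_prod]
      refine Fintype.prod_equiv (Equiv.mulLeft b) _ _ fun d => ?_
      rw [h1]
      refine congrArg q (Subtype.ext ?_)
      simp [c, mul_assoc]
    have hcopHW : (Nat.card B).Coprime (Nat.card (H ⊓ W : Subgroup G)) := by
      obtain ⟨i, hi⟩ := IsPGroup.iff_card.mp ((Signal38.isPGroup_of_elementary hA).to_le hB)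
      rw [hi]
      exact ((hXcop.coprime_dvd_left (Subgroup.card_dvd_of_le
        ((inf_le_right.trans hWF).trans hFX))).symm).pow_left _
    obtain ⟨n', hn', hwn⟩ := Coprime.exists_fixed_in_coset B (H ⊓ W)
      (Coprime.le_normalizer_inf (hB.trans hAH) hBW) hcopHW
      (Or.inl (Signal38.isSolvable_elementary (p := p) ⟨hA.1, hA.2⟩ |> Coprime.solvable_of_le hB))
      (w : G) (fun b hb => by
        refine Subgroup.mem_inf.mpr ⟨mul_mem (inv_mem hwH)
          ((mem_normalizer_iff.mp (hAH (hB hb)) (w : G)).mp hwH), ?_⟩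
        exact Subgroup.mem_subgroupOf.mp (QuotientGroup.eq.mp (hfix ⟨b, hb⟩).symm))
    have hwU : (w : G) * n' ∈ U := by
      obtain ⟨hn1, hn2⟩ := Subgroup.mem_inf.mp hn'
      have hwnH : (w : G) * n' ∈ H := mul_mem hwH hn1
      exact Subgroup.mem_inf.mpr ⟨Subgroup.mem_inf.mpr
        ⟨signalizerDelta_inf_centralizer_le hbal hA hDA hDk hB
          ⟨(Subgroup.mem_inf.mp (Subgroup.mem_inf.mp hwnH).1).1, hwn⟩, hwn⟩,
        (Subgroup.mem_inf.mp hwnH).2⟩
    have hwW : (w : G) ∈ W := by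
      have := mul_mem (Subgroup.mem_sup_left hwU : (w : G) * n' ∈ W)
        (inv_mem (Subgroup.mem_inf.mp hn').2)
      simpa using this
    rw [← hwe]
    exact (QuotientGroup.eq_one_iff _).mpr hwW
  have hNy : N ⟨y, hyF⟩ = 1 := by
    have hle : F ≤ (N.ker).map F.subtype := by
      refine (kSeries_le_closure hk hbal hA hAk ha n).trans ((Subgroup.closure_le _).mpr ?_)
      rintro x ⟨hxS, hxF⟩
      exact ⟨⟨x, hxF⟩, MonoidHom.mem_ker.mpr (hN1 ⟨x, hxF⟩ hxS), rfl⟩
    obtain ⟨z, hz, hze⟩ := hle hyF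
    obtain rfl : z = ⟨y, hyF⟩ := Subtype.ext hze
    exact hz
  have hNy' : q ⟨y, hyF⟩ ^ Nat.card B = 1 := by
    have h : N ⟨y, hyF⟩ = ∏ b : B, q ⟨y, hyF⟩ := by
      refine Finset.prod_congr rfl fun b _ => congrArg q (Subtype.ext ?_)
      show (b : G) * y * (b : G)⁻¹ = y
      rw [mem_centralizer_iff.mp hyB b b.2]
      group
    rw [hNy, Finset.prod_const, Finset.card_univ, ← Nat.card_eq_fintype_card] at h
    exact h.symm
  have hyW : y ∈ W := by
    have hcop : (Nat.card B).Coprime (orderOf (q ⟨y, hyF⟩)) := by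
      obtain ⟨i, hi⟩ := IsPGroup.iff_card.mp ((Signal38.isPGroup_of_elementary hA).to_le hB)
      rw [hi]
      exact ((hXcop.coprime_dvd_left ((orderOf_map_dvd q _).trans
        ((_root_.orderOf_dvd_natCard _).trans (Subgroup.card_dvd_of_le hFX)))).symm).pow_left _
    have := Nat.eq_one_of_dvd_coprimes hcop (orderOf_dvd_of_pow_eq_one hNy') dvd_rfl
    have h1 : q ⟨y, hyF⟩ = 1 := orderOf_eq_one_iff.mp this
    exact Subgroup.mem_subgroupOf.mp ((QuotientGroup.eq_one_iff (⟨y, hyF⟩ : ↥F)).mp h1)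
  -- decompose
  have hUF' : U ≤ Subgroup.normalizer (F' : Set G) := (inf_le_right.trans hFX).trans
    (le_normalizer_kSeries Subgroup.le_normalizer (n + 1))
  have hy' : y ∈ ((U ⊔ F' : Subgroup G) : Set G) := hyW
  rw [Subgroup.coe_mul_of_left_le_normalizer_right U F' hUF'] at hy'
  obtain ⟨u, hu, v, hv, rfl⟩ := hy'
  obtain ⟨hu1, huF⟩ := Subgroup.mem_inf.mp hu
  obtain ⟨huD, huB⟩ := Subgroup.mem_inf.mp hu1
  refine mul_mem huD (ih ⟨hv, ?_⟩)
  have := mul_mem (inv_mem huB) hyB
  simpa using this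

theorem kTheta_inf_centralizer_le (hk : 1 ≤ k) (hbal : IsKBalanced p k G)
    (hA : IsElementaryAbelian p A) (hAk : p ^ (k + 2) ≤ Nat.card A) {a : G} (ha : a ∈ A)
    (ha1 : a ≠ 1) (hs : Group.IsSolvable ↥(centralizerPPrimeCore p a)) {B : Subgroup G}
    (hB : B ≤ A) :
    kTheta p k A a ⊓ Subgroup.centralizer (B : Set G) ≤ signalizerDelta p B := by
  haveI : Group.IsSolvable ↥(kTheta p k A a) :=
    Coprime.solvable_of_le (kTheta_le_core hbal hA ha ha1) hs
  obtain ⟨m, hm⟩ := (Group.isSolvable_def ↥(kTheta p k A a)).mp inferInstance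
  have key : ∀ j n, j + n = m →
      kSeries p k A a n ⊓ Subgroup.centralizer (B : Set G) ≤ signalizerDelta p B := by
    intro j
    induction j with
    | zero =>
      intro n hn
      rw [show n = m by omega, kSeries, hm, Subgroup.map_bot, bot_inf_eq]
      exact bot_le
    | succ j ih =>
      intro n hn
      exact kSeries_inf_centralizer_le_aux hk hbal hA hAk ha ha1 hB n (ih (n + 1) (by omega))
  simpa [kSeries_zero] using key m 0 (by omega)

/-- The functor `a ↦ ⟨Δ(D) ∩ C(a)⟩` of a `k`-balanced group. -/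
theorem isSignalizerFunctor_kTheta (hk : 1 ≤ k) (hbal : IsKBalanced p k G)
    (hA : IsElementaryAbelian p A) (hAk : p ^ (k + 2) ≤ Nat.card A)
    (hs : ∀ a ∈ A, a ≠ 1 → Group.IsSolvable ↥(centralizerPPrimeCore p a)) :
    IsSignalizerFunctor p A (kTheta p k A) := by
  refine ⟨fun a _ _ => iSup_le fun D => inf_le_right, fun a ha ha1 => ?_, fun a ha _ b hb x hx =>
    (mem_normalizer_iff.mp (le_normalizer_kTheta hA ha hb) x).mp hx, fun a ha ha1 b hb hb1 => ?_⟩
  · exact (hp.out.coprime_iff_not_dvd).mp ((Signal38.centralizerPPrimeCore_card_coprime p a).coprime_dvd_left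
      (Subgroup.card_dvd_of_le (kTheta_le_core hbal hA ha ha1))).symm
  set Y := kTheta p k A a ⊓ Subgroup.centralizer {b} with hY
  have hYcop : ¬ p ∣ Nat.card Y := (hp.out.coprime_iff_not_dvd).mp
    ((Signal38.centralizerPPrimeCore_card_coprime p a).coprime_dvd_left
      (Subgroup.card_dvd_of_le (inf_le_left.trans (kTheta_le_core hbal hA ha ha1)))).symm
  have hAY : A ≤ Subgroup.normalizer (Y : Set G) :=
    Coprime.le_normalizer_inf (le_normalizer_kTheta hA ha) fun e he =>
      Subgroup.le_normalizer (mem_centralizer_singleton_iff.mpr (congrArg Subtype.val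
        (hA.1.is_comm.comm (⟨e, he⟩ : A) ⟨b, hb⟩) :))
  refine (H40.le_iSup_hyperplane hA hYcop hAY).trans (iSup_le ?_)
  rintro ⟨B', hB'A, hB'i⟩ x hx
  obtain ⟨⟨hxX, hxb⟩, hxB'⟩ := Subgroup.mem_inf.mp hx
  have hBA : B' ⊔ Subgroup.zpowers b ≤ A := sup_le hB'A (Subgroup.zpowers_le.mpr hb)
  have hxB : x ∈ Subgroup.centralizer ((B' ⊔ Subgroup.zpowers b : Subgroup G) : Set G) := by
    have h : B' ⊔ Subgroup.zpowers b ≤ Subgroup.centralizer ({x} : Set G) := by
      refine sup_le (fun e he => ?_) (Subgroup.zpowers_le.mpr ?_)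
      · exact mem_centralizer_singleton_iff.mpr (mem_centralizer_iff.mp hxB' e he)
      · exact mem_centralizer_singleton_iff.mpr (mem_centralizer_singleton_iff.mp hxb).symm
    exact mem_centralizer_iff.mpr fun e he => mem_centralizer_singleton_iff.mp (h he)
  refine mem_kTheta_of_mem_delta hA hBA ?_
    (kTheta_inf_centralizer_le hk hbal hA hAk ha ha1 (hs a ha ha1) hBA ⟨hxX, hxB⟩) hxb
  exact ((Nat.pow_le_pow_right hp.out.pos (Nat.le_succ k)).trans
    (card_pow_le_of_two hAk (card_le_mul_of_relIndex hB'A hB'i))).trans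
      (Subgroup.card_le_of_le le_sup_left)

end Cfsg.Agent.Components
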