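import Cfsg.Prelude.Def_FusionSystem
import Cfsg.Agent.Fusion91.Core
import Cfsg.Agent.Lib.Components.LBalance
import Cfsg.Agent.Lib.Components.AutSylow

/-!
# Consequences of the `Z*`-theorem for `2`-elements

The `Z*`-theorem is taken as a parameter.
-/

set_option autoImplicit false
set_option linter.style.haveILetI false

namespace Cfsg.Agent.Components

open Subgroup
open Cfsg.Agent.ConjFunctor

universe u

variable (hZ : ZStarProperty.{u}) {G : Type u} [Group G] [Finite G]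

/-- The conjugation property of an isolated element descends modulo an odd normal subgroup. -/
theorem isolated_map_of_odd (S : Sylow 2 G) (O : Subgroup G) [O.Normal]
    (hO : (Nat.card O).Coprime 2) {z : G} (hz : z ∈ S)
    (hiso : ∀ g : G, g * z * g⁻¹ ∈ S → g * z * g⁻¹ = z) (g : G ⧸ O)
    (hg : g * QuotientGroup.mk' O z * g⁻¹ ∈ (S : Subgroup G).map (QuotientGroup.mk' O)) :
    g * QuotientGroup.mk' O z * g⁻¹ = QuotientGroup.mk' O z := by
  obtain ⟨g, rfl⟩ := QuotientGroup.mk'_surjective O g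
  rw [← map_inv, ← map_mul, ← map_mul] at hg ⊢
  set w := g * z * g⁻¹ with hw
  set L := (S : Subgroup G) ⊔ O with hL
  have hwL : w ∈ L := by
    rw [hL, ← QuotientGroup.ker_mk' O, ← Subgroup.comap_map_eq]
    exact hg
  haveI : Fact (Nat.Prime 2) := ⟨Nat.prime_two⟩
  obtain ⟨j, hj⟩ := S.2 ⟨z, hz⟩
  have hord : IsPGroup 2 ↥(Subgroup.zpowers w) := by
    have h1 : orderOf w ∣ 2 ^ j := orderOf_dvd_of_pow_eq_one (by
      rw [hw, conj_pow, show z ^ 2 ^ j = 1 by simpa using congrArg Subtype.val hj]; group)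
    obtain ⟨i, -, hi⟩ := (Nat.dvd_prime_pow Nat.prime_two).mp h1
    exact IsPGroup.of_card (n := i) (by rw [Nat.card_zpowers, hi])
  obtain ⟨x, hx, hxS⟩ := (sylow_isSylowIn S (le_sup_left : (S : Subgroup G) ≤ L)).exists_cnj_le hord
    (Subgroup.zpowers_le.mpr hwL)
  have hxw : x * w * x⁻¹ = z := by
    have h1 : x * g * z * (x * g)⁻¹ ∈ S := by
      have h2 : x * w * x⁻¹ ∈ (S : Subgroup G) := hxS ⟨w, Subgroup.mem_zpowers w, rfl⟩
      rwa [show x * g * z * (x * g)⁻¹ = x * w * x⁻¹ by rw [hw]; group]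
    rw [show x * w * x⁻¹ = x * g * z * (x * g)⁻¹ by rw [hw]; group]
    exact hiso _ h1
  have hzc : ∀ s ∈ (S : Subgroup G), s * z = z * s := fun s hs =>
    mul_inv_eq_iff_eq_mul.mp (hiso s (mul_mem (mul_mem hs hz) (inv_mem hs)))
  have hLc : L.map (QuotientGroup.mk' O) ≤
      Subgroup.centralizer ({QuotientGroup.mk' O z} : Set (G ⧸ O)) := by
    rw [hL, Subgroup.map_sup, QuotientGroup.map_mk'_self, sup_bot_eq]
    rintro _ ⟨s, hs, rfl⟩
    rw [mem_centralizer_singleton_iff, ← map_mul, ← map_mul, hzc s hs]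
  have hxc := mem_centralizer_singleton_iff.mp (hLc ⟨x, hx, rfl⟩)
  rw [show w = x⁻¹ * z * x by rw [← hxw]; group, map_mul, map_mul, map_inv, mul_assoc, ← hxc]
  group

include hZ

/-- If `O(G) = 1`, a `2`-element all of whose powers are isolated in a Sylow subgroup is central. -/
theorem mem_center_of_isolated (hO : pPrimeCore 2 G = ⊥) (S : Sylow 2 G) {z : G} (hz : z ∈ S)
    (hiso : ∀ (i : ℕ) (g : G), g * z ^ i * g⁻¹ ∈ S → g * z ^ i * g⁻¹ = z ^ i) :
    z ∈ center G := by
  haveI : Fact (Nat.Prime 2) := ⟨Nat.prime_two⟩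
  suffices h : ∀ (n : ℕ) (y : G), y ∈ S → y ^ 2 ^ n = 1 →
      (∀ (i : ℕ) (g : G), g * y ^ i * g⁻¹ ∈ S → g * y ^ i * g⁻¹ = y ^ i) → y ∈ center G by
    obtain ⟨n, hn⟩ := S.2 ⟨z, hz⟩
    exact h n z hz (by simpa using congrArg Subtype.val hn) hiso
  intro n
  induction n with
  | zero =>
    intro y _ hy _
    rw [pow_zero, pow_one] at hy
    exact hy ▸ one_mem _
  | succ n ih =>
    intro y hyS hy hyiso
    have hy2 : y ^ 2 ∈ center G := ih (y ^ 2) (pow_mem hyS 2)
      (by rw [← pow_mul, ← pow_succ', hy]) (fun i => by rw [← pow_mul]; exact hyiso (2 * i))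
    set W := Subgroup.zpowers (y ^ 2) with hW
    have hWc : W ≤ center G := Subgroup.zpowers_le.mpr hy2
    haveI : W.Normal := ⟨fun x hx g => by
      rwa [Subgroup.mem_center_iff.mp (hWc hx) g, mul_inv_cancel_right]⟩
    have hWS : W ≤ (S : Subgroup G) := Subgroup.zpowers_le.mpr (pow_mem hyS 2)
    set q := QuotientGroup.mk' W with hq
    have hisoq : ∀ g : G, q (g * y * g⁻¹) ∈ (S : Subgroup G).map q → g * y * g⁻¹ = y := by
      intro g hg
      have h1 : g * y * g⁻¹ ∈ ((S : Subgroup G).map q).comap q := hg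
      rw [Subgroup.comap_map_eq, hq, QuotientGroup.ker_mk', sup_of_le_left hWS] at h1
      have h2 : g * y ^ 1 * g⁻¹ ∈ (S : Subgroup G) := by rwa [pow_one]
      simpa using hyiso 1 g h2
    by_cases hyW : q y = 1
    · exact hWc ((QuotientGroup.eq_one_iff y).mp hyW)
    have hord : orderOf (q y) = 2 := by
      refine orderOf_eq_prime ?_ hyW
      rw [← map_pow, hq, QuotientGroup.mk'_apply, QuotientGroup.eq_one_iff]
      exact Subgroup.mem_zpowers _
    obtain ⟨N, hN, hNodd, hNc⟩ := hZ (G ⧸ W) (S.mapSurjective (QuotientGroup.mk'_surjective W))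
      (q y) hord ⟨y, hyS, rfl⟩ (fun g hg => by
        obtain ⟨g, rfl⟩ := QuotientGroup.mk'_surjective W g
        rw [← map_inv, ← map_mul, ← map_mul] at hg ⊢
        rw [hisoq g hg])
    set M := N.comap q with hM
    haveI : M.Normal := hN.comap q
    have hWM : W ≤ M := fun x hx => by
      show q x ∈ N
      rw [hq, QuotientGroup.mk'_apply, (QuotientGroup.eq_one_iff x).mpr hx]
      exact one_mem _
    have hMW : M ≤ W := by
      rw [← Subgroup.subgroupOf_eq_top]
      refine Thompson.eq_top_of_central_of_coprime_index (p := 2)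
        ((S.2.to_le hWS).comap_subtype) ?_ ?_ ?_
      · intro x hx
        exact mem_center_iff.mpr fun a => Subtype.ext (mem_center_iff.mp (hWc hx) a)
      · rw [← Subgroup.relIndex, ← QuotientGroup.ker_mk' W, Subgroup.relIndex_ker, hM,
          Subgroup.map_comap_eq_self_of_surjective (QuotientGroup.mk'_surjective W)]
        exact Nat.coprime_two_right.mpr hNodd
      · have h1 := Thompson.map_pPrimeCore_normal_le (p := 2) M
        rw [hO, le_bot_iff, Subgroup.map_eq_bot_iff_of_injective _ M.subtype_injective] at h1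
        exact h1
    refine mem_center_iff.mpr fun g => ?_
    have h1 : g * y * g⁻¹ = y := by
      refine hisoq g ⟨y, hyS, ?_⟩
      have h2 : y * g * y⁻¹ * g⁻¹ ∈ W := hMW (by
        show q _ ∈ N
        simp only [map_mul, map_inv]
        exact hNc (q g))
      have h3 : q (y * g * y⁻¹ * g⁻¹) = 1 := (QuotientGroup.eq_one_iff _).mpr h2
      simp only [map_mul, map_inv] at h3 ⊢
      rw [mul_inv_eq_one, mul_inv_eq_iff_eq_mul] at h3
      rw [eq_mul_inv_iff_mul_eq]
      exact h3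
    exact mul_inv_eq_iff_eq_mul.mp h1

/-- The centre of the `2`-fusion system of `G` consists of the elements of `S` central modulo
`O(G)`. -/
theorem groupFusionSystem_center_eq (S : Sylow 2 G) :
    (groupFusionSystem (S : Subgroup G)).center =
      (S : Subgroup G) ⊓
        (center (G ⧸ pPrimeCore 2 G)).comap (QuotientGroup.mk' (pPrimeCore 2 G)) := by
  haveI : Fact (Nat.Prime 2) := ⟨Nat.prime_two⟩
  set F := groupFusionSystem (S : Subgroup G) with hF
  set O := pPrimeCore 2 G with hOdef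
  set π := QuotientGroup.mk' O with hπ
  apply le_antisymm
  · obtain ⟨hle, hext⟩ := Fusion91.isCentral_center F
    intro z hz
    have hiso : ∀ y ∈ F.center, ∀ g : G, g * y * g⁻¹ ∈ S → g * y * g⁻¹ = y := by
      intro y hy g hg
      have hyS := hle hy
      have hmem : ∀ x : Subgroup.zpowers y,
          ((MulAut.conj g).toMonoidHom.comp (Subgroup.zpowers y).subtype) x ∈ (S : Subgroup G) := by
        rintro ⟨_, ⟨i, rfl⟩⟩
        show g * y ^ i * g⁻¹ ∈ (S : Subgroup G)
        rw [← conj_zpow]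
        exact zpow_mem hg i
      obtain ⟨ψ, -, h1, h2⟩ := hext (Subgroup.zpowers y)
        ((MulAut.conj g).toMonoidHom.comp (Subgroup.zpowers y).subtype)
        ⟨Subgroup.zpowers_le.mpr hyS, hmem, g, fun x => rfl⟩
      exact (h1 ⟨y, Subgroup.mem_zpowers y⟩).symm.trans (h2 ⟨y, hy⟩)
    refine ⟨hle hz, ?_⟩
    exact mem_center_of_isolated hZ Thompson.pPrimeCore_quotient_pPrimeCore
      (S.mapSurjective (QuotientGroup.mk'_surjective O)) ⟨z, hle hz, rfl⟩
      (fun i g hg => by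
        rw [← map_pow] at hg ⊢
        exact isolated_map_of_odd S O Thompson.card_pPrimeCore_coprime (pow_mem (hle hz) i)
          (hiso _ (pow_mem hz i)) g hg)
  · set Q := (S : Subgroup G) ⊓ (center (G ⧸ O)).comap π with hQ
    refine le_sSup ⟨inf_le_left, fun P φ hφ => ?_⟩
    obtain ⟨hPS, hφS, g, hg⟩ := hφ
    have hQc : ∀ (x : G) (q : G), q ∈ Q → x * q * x⁻¹ * q⁻¹ ∈ O := fun x q hq => by
      rw [← QuotientGroup.eq_one_iff, ← QuotientGroup.mk'_apply, ← hπ, map_mul, map_mul, map_mul,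
        map_inv, map_inv, Subgroup.mem_center_iff.mp hq.2 (π x)]
      group
    have hSO : (S : Subgroup G) ⊓ O = ⊥ :=
      Thompson.inf_eq_bot_of_isPGroup_of_coprime S.2 Thompson.card_pPrimeCore_coprime
    have hQS : ∀ q ∈ Q, ∀ s ∈ (S : Subgroup G), s * q * s⁻¹ = q := fun q hq s hs => by
      have h1 : s * q * s⁻¹ * q⁻¹ ∈ (S : Subgroup G) ⊓ O :=
        Subgroup.mem_inf.mpr
          ⟨mul_mem (mul_mem (mul_mem hs hq.1) (inv_mem hs)) (inv_mem hq.1), hQc s q hq⟩
      rw [hSO, Subgroup.mem_bot, mul_inv_eq_one] at h1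
      exact h1
    set L := (Q ⊔ O) ⊓ Subgroup.centralizer (P : Set G) with hL
    have hQL : Q ≤ L := le_inf le_sup_left fun q hq =>
      mem_centralizer_iff.mpr fun x hx => mul_inv_eq_iff_eq_mul.mp (hQS q hq x (hPS hx))
    have hL' : cnj g⁻¹ Q ≤ L := by
      rintro _ ⟨q, hq, rfl⟩
      show g⁻¹ * q * g⁻¹⁻¹ ∈ L
      refine ⟨?_, mem_centralizer_iff.mpr fun x hx => ?_⟩
      · have h1 := Subgroup.mul_mem_sup (hQc g⁻¹ q hq) hq
        rw [sup_comm] at h1
        simpa [mul_assoc] using h1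
      · have h2 := hQS q hq _ (hφS ⟨x, hx⟩)
        rw [hg] at h2
        have h3 := congrArg (fun y => g⁻¹ * y * g) (mul_inv_eq_iff_eq_mul.mp h2)
        simpa [mul_assoc] using h3
    have hcard : ∀ R : Subgroup G, IsPGroup 2 R → R ≤ L → Nat.card R ≤ Nat.card Q := by
      intro R hR hRL
      have hinj : Set.InjOn π R := by
        intro a ha b hb hab
        have h1 : a⁻¹ * b ∈ R ⊓ O :=
          Subgroup.mem_inf.mpr ⟨mul_mem (inv_mem ha) hb, QuotientGroup.eq.mp hab⟩
        rw [Thompson.inf_eq_bot_of_isPGroup_of_coprime hR Thompson.card_pPrimeCore_coprime,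
          Subgroup.mem_bot, inv_mul_eq_one] at h1
        exact h1
      calc Nat.card R = Nat.card (π '' (R : Set G)) := (Nat.card_image_of_injOn hinj).symm
        _ ≤ Nat.card (π '' (Q : Set G)) := by
            refine Nat.card_mono (Set.toFinite _) ?_
            rintro _ ⟨x, hx, rfl⟩
            have h1 : π x ∈ (Q ⊔ O).map π := ⟨x, (hRL hx).1, rfl⟩
            rwa [Subgroup.map_sup, hπ, QuotientGroup.map_mk'_self, sup_bot_eq] at h1
        _ ≤ Nat.card Q := Nat.card_image_le (Set.toFinite _)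
    obtain ⟨R₁, hR₁, hQR₁⟩ := exists_isSylowIn L (S.2.to_le inf_le_left : IsPGroup 2 Q) hQL
    have hR₁Q : R₁ = Q :=
      (Subgroup.eq_of_le_of_card_ge hQR₁ (hcard _ hR₁.isPGroup hR₁.le)).symm
    obtain ⟨x, hxL, hx⟩ := (hR₁Q ▸ hR₁).exists_cnj_le
      (isPGroup_cnj (S.2.to_le inf_le_left : IsPGroup 2 Q)) hL'
    have hgx : ∀ q ∈ Q, (g * x⁻¹) * q * (g * x⁻¹)⁻¹ = q := by
      intro q hq
      have he : cnj (x * g⁻¹) Q = Q := by
        rw [← cnj_cnj]
        exact Subgroup.eq_of_le_of_card_ge hx (by rw [card_cnj, card_cnj])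
      have hmem : (g * x⁻¹) * q * (g * x⁻¹)⁻¹ ∈ Q := by
        obtain ⟨r, hr, hre⟩ := he.ge hq
        have h2 : (g * x⁻¹) * q * (g * x⁻¹)⁻¹ = r := by
          rw [← hre]; simp [mul_assoc]
        rw [h2]; exact hr
      have h1 : (g * x⁻¹) * q * (g * x⁻¹)⁻¹ * q⁻¹ ∈ (S : Subgroup G) ⊓ O :=
        Subgroup.mem_inf.mpr ⟨mul_mem hmem.1 (inv_mem hq.1), hQc _ q hq⟩
      rw [hSO, Subgroup.mem_bot, mul_inv_eq_one] at h1
      exact h1
    have hgP : ∀ p ∈ P, (g * x⁻¹) * p * (g * x⁻¹)⁻¹ = g * p * g⁻¹ := fun p hp => by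
      have hxp : x * p = p * x := (mem_centralizer_iff.mp hxL.2 p hp).symm
      calc (g * x⁻¹) * p * (g * x⁻¹)⁻¹ = g * (x⁻¹ * (p * x)) * g⁻¹ := by group
        _ = g * p * g⁻¹ := by rw [← hxp, inv_mul_cancel_left]
    refine ⟨(MulAut.conj (g * x⁻¹)).toMonoidHom.comp (P ⊔ Q).subtype,
      ⟨sup_le hPS inf_le_left, ?_, g * x⁻¹, fun y => rfl⟩, fun p => ?_, fun q => hgx q q.2⟩
    · intro y
      have h : P ⊔ Q ≤ (S : Subgroup G).comap (MulAut.conj (g * x⁻¹)).toMonoidHom := by
        refine sup_le (fun p hp => ?_) fun q hq => ?_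
        · show (g * x⁻¹) * p * (g * x⁻¹)⁻¹ ∈ (S : Subgroup G)
          rw [hgP p hp, ← hg ⟨p, hp⟩]
          exact hφS ⟨p, hp⟩
        · show (g * x⁻¹) * q * (g * x⁻¹)⁻¹ ∈ (S : Subgroup G)
          rw [hgx q hq]
          exact hq.1
      exact h y.2
    · show (g * x⁻¹) * p * (g * x⁻¹)⁻¹ = φ p
      rw [hgP p p.2, hg]

/-- An automorphism of `2`-power order fixing an abelian Sylow `2`-subgroup is inner, if
`Z(G) = 1` and `O(G) = 1`. -/
theorem exists_eq_conj_of_fixing_abelian_sylow (hc : center G = ⊥) (hO : pPrimeCore 2 G = ⊥)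
    (P : Sylow 2 G) (hab : IsMulCommutative (P : Subgroup G)) (α : MulAut G)
    (h2 : ∃ j : ℕ, orderOf α = 2 ^ j) (hfix : ∀ x ∈ (P : Subgroup G), α x = x) :
    ∃ g : G, ∀ x : G, α x = g * x * g⁻¹ := by
  haveI : Fact (Nat.Prime 2) := ⟨Nat.prime_two⟩
  set I := (MulAut.conj : G →* MulAut G).range with hI
  haveI hIn : I.Normal := ⟨by
    rintro _ ⟨g, rfl⟩ f
    exact ⟨f g, (aut_mul_conj f g).symm⟩⟩
  set A := Subgroup.zpowers α with hA
  set Ht := I ⊔ A with hHt
  set Pb := (P : Subgroup G).map MulAut.conj with hPb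
  have hinj := conj_injective_of_center_eq_bot hc
  have hA2 : IsPGroup 2 A := by
    obtain ⟨j, hj⟩ := h2
    exact IsPGroup.of_card (n := j) (by rw [hA, Nat.card_zpowers, hj])
  have hPA : A ≤ Subgroup.centralizer (Pb : Set (MulAut G)) := by
    rw [hA, Subgroup.zpowers_le, mem_centralizer_iff]
    rintro _ ⟨s, hs, rfl⟩
    have h := aut_mul_conj α s
    rw [hfix s hs] at h
    exact (mul_inv_eq_iff_eq_mul.mp h).symm
  set T' := Pb ⊔ A with hT'
  have hT'2 : IsPGroup 2 T' :=
    (P.2.map _).to_sup_of_normal_left' hA2 (hPA.trans (Subgroup.centralizer_le_normalizer _))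
  have hT'le : T' ≤ Ht := sup_le_sup (Subgroup.map_le_range _ _) le_rfl
  let f : G →* Ht := (MulAut.conj : G →* MulAut G).codRestrict Ht fun g => mem_sup_left ⟨g, rfl⟩
  have hf : Function.Injective f := fun g₁ g₂ h => hinj (congrArg Subtype.val h)
  obtain ⟨T, hT⟩ := (hT'2.comap_subtype : IsPGroup 2 ↥(T'.subgroupOf Ht)).exists_le_sylow
  have hTI : ∀ g : G, f g ∈ T → g ∈ (P : Subgroup G) := by
    intro g hg
    have h1 : (P : Subgroup G) = (T : Subgroup Ht).comap f :=
      (P.3 (T.2.comap_of_injective f hf) fun s hs => hT (show MulAut.conj s ∈ T' from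
        mem_sup_left ⟨s, hs, rfl⟩)).symm
    exact h1.ge hg
  have hTeq : (T : Subgroup Ht) ≤ T'.subgroupOf Ht := by
    intro t ht
    have ht' : (t : MulAut G) ∈ ((I ⊔ A : Subgroup (MulAut G)) : Set (MulAut G)) := t.2
    rw [Subgroup.normal_mul] at ht'
    obtain ⟨_, ⟨g, rfl⟩, b, hb, hgb⟩ := ht'
    have hbT : (⟨b, mem_sup_right hb⟩ : Ht) ∈ T := hT (show b ∈ T' from mem_sup_right hb)
    have hgT : f g ∈ T := by
      have e : f g = t * (⟨b, mem_sup_right hb⟩ : Ht)⁻¹ :=
        Subtype.ext (show MulAut.conj g = (t : MulAut G) * b⁻¹ by rw [← hgb, mul_inv_cancel_right])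
      rw [e]
      exact mul_mem ht (inv_mem hbT)
    show (t : MulAut G) ∈ T'
    rw [← hgb]
    exact Subgroup.mul_mem_sup ⟨g, hTI g hgT, rfl⟩ hb
  have hT'ab : IsMulCommutative T' := by
    have hgen : ∀ x ∈ (Pb : Set (MulAut G)) ∪ A, ∀ y ∈ (Pb : Set (MulAut G)) ∪ A,
        x * y = y * x := by
      rintro x (hx | hx) y (hy | hy)
      · obtain ⟨a, ha, rfl⟩ := hx
        obtain ⟨b, hb, rfl⟩ := hy
        rw [← map_mul, ← map_mul]
        exact congrArg MulAut.conj (congrArg Subtype.val (hab.is_comm.comm ⟨a, ha⟩ ⟨b, hb⟩))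
      · exact mem_centralizer_iff.mp (hPA hy) x hx
      · exact (mem_centralizer_iff.mp (hPA hx) y hy).symm
      · obtain ⟨i, rfl⟩ := hx
        obtain ⟨j, rfl⟩ := hy
        exact ((Commute.refl α).zpow_zpow i j).eq
    rw [hT', Subgroup.sup_eq_closure]
    exact Subgroup.isMulCommutative_closure hgen
  haveI hTab : IsMulCommutative (T : Subgroup Ht) := ⟨⟨fun x y => Subtype.ext (Subtype.ext
    (congrArg Subtype.val
      (hT'ab.is_comm.comm ⟨_, hTeq x.2⟩ ⟨_, hTeq y.2⟩) :))⟩⟩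
  set αH : Ht := ⟨α, mem_sup_right (Subgroup.mem_zpowers α)⟩ with hαH
  have hαT : αH ∈ T := hT (show α ∈ T' from mem_sup_right (Subgroup.mem_zpowers α))
  set N := Subgroup.normalizer (T : Set Ht) with hN
  set TN := (T : Subgroup Ht).subgroupOf N with hTN
  letI : CommGroup (T : Subgroup Ht) :=
    { (inferInstance : Group (T : Subgroup Ht)) with mul_comm := fun a b => hTab.is_comm.comm a b }
  let F : N ⧸ TN → (T : Subgroup Ht) := fun x => Quotient.liftOn' x
    (fun n => (⟨n * αH * (n : Ht)⁻¹, (mem_normalizer_iff.mp n.2 αH).mp hαT⟩ : (T : Subgroup Ht)))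
    fun a b hab' => Subtype.ext (by
      rw [QuotientGroup.leftRel_apply] at hab'
      show (a : Ht) * αH * (a : Ht)⁻¹ = b * αH * (b : Ht)⁻¹
      have h : (((a⁻¹ * b : N) : Ht)) * αH = αH * ((a⁻¹ * b : N) : Ht) :=
        congrArg Subtype.val (hTab.is_comm.comm ⟨_, hab'⟩ ⟨_, hαT⟩)
      simp only [Subgroup.coe_mul, InvMemClass.coe_inv] at h
      calc (a : Ht) * αH * (a : Ht)⁻¹ = a * (αH * ((a : Ht)⁻¹ * b)) * (b : Ht)⁻¹ := by group
        _ = _ := by rw [← h]; group)
  letI := Fintype.ofFinite (N ⧸ TN)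
  set β₀ : (T : Subgroup Ht) := ∏ x, F x with hβ₀
  have hfix0 : ∀ n ∈ N, n * (β₀ : Ht) * n⁻¹ = β₀ := by
    intro n hn
    let c : (T : Subgroup Ht) →* (T : Subgroup Ht) :=
      { toFun := fun t => ⟨n * t * n⁻¹, (mem_normalizer_iff.mp hn t).mp t.2⟩
        map_one' := Subtype.ext (by simp)
        map_mul' := fun a b => Subtype.ext (by simp [mul_assoc]) }
    have hF : ∀ x : N ⧸ TN, c (F x) = F ((⟨n, hn⟩ : N) • x) := fun x => by
      induction x using QuotientGroup.induction_on with | H m => ?_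
      refine Subtype.ext ?_
      show n * (m * αH * (m : Ht)⁻¹) * n⁻¹ = (n * m) * αH * (n * m)⁻¹
      group
    have h1 : c β₀ = β₀ := by
      rw [hβ₀, map_prod]
      simp only [hF]
      exact Equiv.prod_comp (MulAction.toPerm (⟨n, hn⟩ : N)) F
    exact congrArg Subtype.val h1
  -- modulo the inner automorphisms `β₀` is `α ^ m`, `m` odd
  set m := Fintype.card (N ⧸ TN) with hm
  set NI := I.subgroupOf Ht with hNI
  haveI : NI.Normal := hIn.comap _
  set qI := QuotientGroup.mk' NI with hqI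
  have hqF : ∀ x, qI (F x : Ht) = qI αH := by
    intro x
    induction x using QuotientGroup.induction_on with | H n => ?_
    have hex : ∀ y : Ht, ∃ i : ℤ, qI y = qI αH ^ i := fun y => by
      have hy : (y : MulAut G) ∈ ((I ⊔ A : Subgroup (MulAut G)) : Set (MulAut G)) := y.2
      rw [Subgroup.normal_mul] at hy
      obtain ⟨j, hj, b, ⟨i, rfl⟩, hjb⟩ := hy
      refine ⟨i, ?_⟩
      have hy' : y = ⟨j, mem_sup_left hj⟩ * αH ^ i :=
        Subtype.ext (by rw [Subgroup.coe_mul, SubgroupClass.coe_zpow]; exact hjb.symm)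
      rw [hy', map_mul, map_zpow,
        show qI ⟨j, mem_sup_left hj⟩ = 1 from (QuotientGroup.eq_one_iff _).mpr hj, one_mul]
    obtain ⟨i, hi⟩ := hex (n : Ht)
    show qI ((n : Ht) * αH * (n : Ht)⁻¹) = qI αH
    rw [map_mul, map_mul, map_inv, hi, ((Commute.refl (qI αH)).zpow_left i).eq,
      mul_inv_cancel_right]
  have hqβ₀ : qI (β₀ : Ht) = qI αH ^ m := by
    have : ((qI.comp (T : Subgroup Ht).subtype).comp (MonoidHom.id _)) β₀ = qI αH ^ m := by
      classical
      have hzero : ∀ (s : Finset (N ⧸ TN)), qI ((∏ x ∈ s, F x : (T : Subgroup Ht)) : Ht) =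
          qI αH ^ s.card := by
        intro s
        induction s using Finset.induction with
        | empty => simp
        | @insert a s ha ih =>
          rw [Finset.prod_insert ha, Subgroup.coe_mul, map_mul, hqF, ih, Finset.card_insert_of_notMem ha,
            pow_succ']
      exact hzero Finset.univ
    exact this
  have hmodd : ¬ 2 ∣ m := by
    rw [hm, ← Nat.card_eq_fintype_card, ← Subgroup.index, hTN, ← Subgroup.relIndex]
    exact fun h => T.not_dvd_index
      (h.trans (Subgroup.relIndex_dvd_index_of_le Subgroup.le_normalizer))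
  obtain ⟨j, hj⟩ := h2
  obtain ⟨k, hk⟩ : ∃ k : ℕ, α ^ (m * k) = α := by
    obtain ⟨k, -, hk⟩ := Nat.exists_mul_mod_eq_of_coprime 1
      (((Nat.prime_two.coprime_iff_not_dvd).mpr hmodd).symm.pow_right j : Nat.Coprime m (2 ^ j))
      (pow_ne_zero j two_ne_zero)
    refine ⟨k, ?_⟩
    conv_rhs => rw [← pow_one α]
    exact pow_eq_pow_iff_modEq.mpr (hj ▸ hk)
  set β : Ht := (β₀ : Ht) ^ k with hβ
  have hαk : αH ^ (m * k) = αH := Subtype.ext (by rw [SubgroupClass.coe_pow]; exact hk)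
  have hβI : αH * β⁻¹ ∈ NI := by
    rw [← QuotientGroup.eq_one_iff, ← QuotientGroup.mk'_apply, ← hqI, map_mul, map_inv, hβ,
      map_pow, hqβ₀, ← pow_mul, ← map_pow, hαk, mul_inv_cancel]
  have hOH : pPrimeCore 2 Ht = ⊥ := by
    have hodd : (Nat.card (pPrimeCore 2 Ht)).Coprime 2 := Thompson.card_pPrimeCore_coprime
    have hcomap : (pPrimeCore 2 Ht).comap f = ⊥ := by
      rw [eq_bot_iff, ← hO]
      exact Thompson.le_pPrimeCore inferInstance
        (hodd.coprime_dvd_left (Subgroup.card_comap_dvd_of_injective _ f hf))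
    rw [Subgroup.eq_bot_iff_forall]
    intro x hx
    refine Subtype.ext (MulEquiv.ext fun g => ?_)
    have h1 : (x : MulAut G) g * g⁻¹ ∈ (pPrimeCore 2 Ht).comap f := by
      have e : f ((x : MulAut G) g * g⁻¹) = x * (f g * x⁻¹ * (f g)⁻¹) := by
        refine Subtype.ext ?_
        show MulAut.conj ((x : MulAut G) g * g⁻¹) =
          (x : MulAut G) * (MulAut.conj g * (x : MulAut G)⁻¹ * (MulAut.conj g)⁻¹)
        rw [map_mul, map_inv, ← aut_mul_conj]
        group
      show f _ ∈ pPrimeCore 2 Ht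
      rw [e]
      exact mul_mem hx ((inferInstance : (pPrimeCore 2 Ht).Normal).conj_mem _ (inv_mem hx) _)
    rw [hcomap, Subgroup.mem_bot] at h1
    exact mul_inv_eq_one.mp h1
  have hβc : β ∈ center Ht := by
    refine mem_center_of_isolated hZ hOH T (pow_mem β₀.2 k) fun i g hg => ?_
    have hβi : β ^ i ∈ T := pow_mem (pow_mem β₀.2 k) i
    obtain ⟨n, hn, hne⟩ :=
      T.conj_eq_normalizer_conj_of_mem (β ^ i) g⁻¹ hβi (by rwa [inv_inv])
    rw [inv_inv] at hne
    rw [hne, hβ, ← pow_mul]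
    have h2 := congrArg (fun y => y ^ (k * i)) (hfix0 n⁻¹ (inv_mem hn))
    rw [conj_pow, inv_inv] at h2
    exact h2
  have hβ1 : (β : MulAut G) = 1 := by
    ext g
    refine hinj ?_
    rw [← aut_mul_conj]
    have := congrArg Subtype.val (mem_center_iff.mp hβc (f g))
    show (β : MulAut G) * MulAut.conj g * (β : MulAut G)⁻¹ = MulAut.conj g
    rw [mul_inv_eq_iff_eq_mul]
    exact this.symm
  have hmem : α ∈ I := by
    have h : (αH : MulAut G) * (β : MulAut G)⁻¹ ∈ I := hβI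
    rwa [hβ1, inv_one, mul_one] at h
  obtain ⟨g, hg⟩ := hmem
  exact ⟨g, fun x => by rw [← hg]; rfl⟩

end Cfsg.Agent.Components
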