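import Cfsg.Prelude.Def_TwoFusion
import Cfsg.Agent.Lib.Components.ZStarTwo

/-!
# Strongly closed `2`-subgroups centralize the core-free subgroups they normalize and miss

The `Z*`-theorem is taken as a parameter.
-/

set_option autoImplicit false
set_option linter.style.haveILetI false

namespace Cfsg.Agent.Components

open Subgroup
open scoped commutatorElement

universe u

variable (hZ : ZStarProperty.{u})
include hZ

/-- If `X = HA` with `H` normal, `O(H) = 1`, `A` a `2`-group meeting `H` trivially, and conjugates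
of elements of `A` in `2`-groups containing `A` lie in `A`, then `A` centralizes `H`. -/
theorem commutator_eq_bot_of_closed_complement : ∀ (n : ℕ) {X : Type u} [Group X] [Finite X]
    (H A : Subgroup X) [H.Normal], Nat.card A ≤ n → H ⊔ A = ⊤ → A ⊓ H = ⊥ →
    pPrimeCore 2 ↥H = ⊥ → IsPGroup 2 A →
    (∀ P : Subgroup X, IsPGroup 2 P → A ≤ P → ∀ a ∈ A, ∀ g : X, g * a * g⁻¹ ∈ P → g * a * g⁻¹ ∈ A) →
    ⁅A, H⁆ = ⊥ := by
  intro n
  induction n with
  | zero =>
    intro X _ _ H A _ hA _ _ _ _ _
    exact absurd hA (not_le.mpr Nat.card_pos)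
  | succ n ih =>
    intro X _ _ H A _ hAn htop hdisj hOH hA2 hcl
    haveI : Fact (Nat.Prime 2) := ⟨Nat.prime_two⟩
    rcases eq_or_ne A ⊥ with rfl | hA
    · exact Subgroup.commutator_bot_left H
    obtain ⟨P, hP⟩ := hA2.exists_le_sylow
    -- the commutators of `X` with central elements of `A` lie in `H`
    have hmodH : ∀ g : X, ∃ h ∈ H, ∃ a ∈ A, g = h * a := by
      intro g
      have hg : g ∈ ((H ⊔ A : Subgroup X) : Set X) := by rw [htop]; exact Subgroup.mem_top g
      rw [Subgroup.normal_mul] at hg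
      obtain ⟨h, hh, a, ha, rfl⟩ := hg
      exact ⟨h, hh, a, ha, rfl⟩
    have hdisj' : ∀ x : X, x ∈ A → x ∈ H → x = 1 := fun x hxA hxH => by
      rw [← Subgroup.mem_bot, ← hdisj]
      exact Subgroup.mem_inf.mpr ⟨hxA, hxH⟩
    have hO : pPrimeCore 2 X = ⊥ := by
      set M := pPrimeCore 2 X with hM
      have h1 : M ⊓ H = ⊥ := by
        have h2 : (M.subgroupOf H) ≤ pPrimeCore 2 ↥H := Thompson.subgroupOf_pPrimeCore_le H
        rw [hOH, le_bot_iff, Subgroup.subgroupOf_eq_bot] at h2
        exact disjoint_iff.mp h2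
      have h2 : M ≤ H := by
        intro m hm
        obtain ⟨h, hh, a, ha, hma⟩ := hmodH m
        have hord : orderOf (QuotientGroup.mk' H m) ∣ Nat.card M :=
          (orderOf_map_dvd _ m).trans (Subgroup.orderOf_dvd_natCard M hm)
        have he : QuotientGroup.mk' H m = QuotientGroup.mk' H a := by
          rw [hma, map_mul, show QuotientGroup.mk' H h = 1 from
            (QuotientGroup.eq_one_iff h).mpr hh, one_mul]
        obtain ⟨j, hj⟩ := hA2 ⟨a, ha⟩
        have hord' : orderOf (QuotientGroup.mk' H m) ∣ 2 ^ j := by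
          rw [he]
          exact orderOf_dvd_of_pow_eq_one (by
            rw [← map_pow, show a ^ 2 ^ j = 1 by simpa using congrArg Subtype.val hj, map_one])
        have h3 := Nat.eq_one_of_dvd_coprimes
          ((Thompson.card_pPrimeCore_coprime (p := 2) (G := X)).pow_right j) hord hord'
        rwa [orderOf_eq_one_iff, QuotientGroup.mk'_apply, QuotientGroup.eq_one_iff] at h3
      rw [← h1]
      exact (inf_eq_left.mpr h2).symm
    set Z := (center ↥A).map A.subtype with hZdef
    have hZA : Z ≤ A := Subgroup.map_subtype_le _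
    have hZc : Z ≤ center X := by
      rintro _ ⟨z, hz, rfl⟩
      refine mem_center_of_isolated hZ hO P (hP z.2) fun i g hg => ?_
      have hzi : ((z : A) : X) ^ i ∈ A := pow_mem z.2 i
      have h1 := hcl P P.2 hP _ hzi g hg
      have h2 : g * (z : X) ^ i * g⁻¹ * ((z : X) ^ i)⁻¹ ∈ H := by
        obtain ⟨h, hh, a, ha, rfl⟩ := hmodH g
        have hza : a * (z : X) ^ i * a⁻¹ = (z : X) ^ i := by
          have h3 : ((⟨a, ha⟩ : A) * z ^ i) = z ^ i * ⟨a, ha⟩ :=
            mem_center_iff.mp (pow_mem hz i) ⟨a, ha⟩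
          exact mul_inv_eq_iff_eq_mul.mpr (congrArg Subtype.val h3)
        have e : h * a * (z : X) ^ i * (h * a)⁻¹ * ((z : X) ^ i)⁻¹ =
            h * ((z : X) ^ i * h⁻¹ * ((z : X) ^ i)⁻¹) := by
          calc h * a * (z : X) ^ i * (h * a)⁻¹ * ((z : X) ^ i)⁻¹
              = h * (a * (z : X) ^ i * a⁻¹) * h⁻¹ * ((z : X) ^ i)⁻¹ := by group
            _ = _ := by rw [hza]; group
        rw [e]
        exact mul_mem hh ((inferInstance : H.Normal).conj_mem _ (inv_mem hh) _)
      exact mul_inv_eq_one.mp (hdisj' _ (mul_mem h1 (inv_mem hzi)) h2)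
    haveI : Z.Normal := ⟨fun x hx g => by
      rwa [Subgroup.mem_center_iff.mp (hZc hx) g, mul_inv_cancel_right]⟩
    set q := QuotientGroup.mk' Z with hq
    haveI : (H.map q).Normal :=
      (inferInstance : H.Normal).map q (QuotientGroup.mk'_surjective Z)
    have hlt : Nat.card (A.map q) ≤ n := by
      haveI : Nontrivial A := (Subgroup.nontrivial_iff_ne_bot A).mpr hA
      haveI := hA2.center_nontrivial
      have h1 : 1 < Nat.card Z := by
        rw [hZdef, ← Nat.card_congr ((center ↥A).equivMapOfInjective _ A.subtype_injective).toEquiv]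
        exact Finite.one_lt_card
      have h2 : Nat.card Z * Nat.card (A.map q) = Nat.card A := by
        rw [← Thompson.relIndex_eq_card_map_mk', ← Subgroup.relIndex_bot_left Z,
          ← Subgroup.relIndex_bot_left A]
        exact Subgroup.relIndex_mul_relIndex ⊥ Z A bot_le hZA
      have h3 : 0 < Nat.card (A.map q) := Nat.card_pos
      nlinarith
    have hres := ih (H.map q) (A.map q) hlt
      (by rw [← Subgroup.map_sup, htop,
        Subgroup.map_top_of_surjective q (QuotientGroup.mk'_surjective Z)])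
      (by
        rw [Subgroup.eq_bot_iff_forall]
        rintro _ ⟨⟨a, ha, rfl⟩, ⟨h, hh, he⟩⟩
        have h1 : h⁻¹ * a ∈ Z := QuotientGroup.eq.mp he
        have hhA : h ∈ A := inv_mem_iff.mp ((mul_mem_cancel_right ha).mp (hZA h1))
        rw [← he, hdisj' h hhA hh, map_one])
      (by
        have hinj : Function.Injective (q.subgroupMap H) := by
          rw [← MonoidHom.ker_eq_bot_iff, Subgroup.eq_bot_iff_forall]
          intro x hx
          exact Subtype.ext (hdisj' _ (hZA ((QuotientGroup.eq_one_iff (x : X)).mp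
            (congrArg Subtype.val (MonoidHom.mem_ker.mp hx)))) x.2)
        let e : ↥H ≃* ↥(H.map q) :=
          MulEquiv.ofBijective _ ⟨hinj, q.subgroupMap_surjective H⟩
        rw [← Thompson.map_pPrimeCore_equiv e, hOH, Subgroup.map_bot])
      (hA2.map q)
      (by
        rintro Pb hPb hAP _ ⟨a, ha, rfl⟩ g hg
        obtain ⟨g, rfl⟩ := QuotientGroup.mk'_surjective Z g
        rw [← map_inv, ← map_mul, ← map_mul] at hg ⊢
        refine Subgroup.mem_map_of_mem q (hcl (Pb.comap q) ?_ (fun x hx => hAP ⟨x, hx, rfl⟩) a ha g hg)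
        refine hPb.comap_of_ker_isPGroup q ?_
        rw [hq, QuotientGroup.ker_mk']
        exact hA2.to_le hZA)
    rw [← Subgroup.map_commutator, Subgroup.map_eq_bot_iff, hq, QuotientGroup.ker_mk'] at hres
    rw [← le_bot_iff, ← hdisj]
    exact le_inf (hres.trans hZA) (Subgroup.commutator_le_right A H)

/-- A strongly closed `2`-subgroup centralizes every subgroup `H` with `O(H) = 1` which it
normalizes and meets trivially. -/
theorem le_centralizer_of_isStronglyClosed {G : Type u} [Group G] [Finite G] (S : Sylow 2 G)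
    {A H : Subgroup G} (hA : IsStronglyClosed A (S : Subgroup G))
    (hAH : A ≤ Subgroup.normalizer (H : Set G)) (hO : pPrimeCore 2 ↥H = ⊥) (hdisj : A ⊓ H = ⊥) :
    A ≤ Subgroup.centralizer (H : Set G) := by
  haveI : Fact (Nat.Prime 2) := ⟨Nat.prime_two⟩
  set X := H ⊔ A with hX
  haveI : (H.subgroupOf X).Normal :=
    (normal_subgroupOf_iff_le_normalizer le_sup_left).mpr (sup_le Subgroup.le_normalizer hAH)
  have hcl : ∀ P : Subgroup G, IsPGroup 2 P → A ≤ P → ∀ a ∈ A, ∀ g : G,
      g * a * g⁻¹ ∈ P → g * a * g⁻¹ ∈ A := by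
    intro P hP hAP a ha g hg
    obtain ⟨k, hk⟩ := ConjFunctor.exists_cnj_le_sylow S hP
    have hkA : ConjFunctor.cnj k A = A := Subgroup.eq_of_le_of_card_ge
      (by rintro _ ⟨x, hx, rfl⟩; exact hA.2 x hx k (hk ⟨x, hAP hx, rfl⟩))
      (by rw [ConjFunctor.card_cnj])
    have e : k * (g * a * g⁻¹) * k⁻¹ = k * g * a * (k * g)⁻¹ := by group
    have h1 : k * g * a * (k * g)⁻¹ ∈ (S : Subgroup G) := e ▸ hk ⟨_, hg, rfl⟩
    obtain ⟨b, hb, hbe⟩ := hkA.ge (hA.2 a ha _ h1)
    have : b = g * a * g⁻¹ :=
      (MulAut.conj k).injective (hbe.trans e.symm)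
    exact this ▸ hb
  have h := commutator_eq_bot_of_closed_complement hZ (Nat.card (A.subgroupOf X))
    (H.subgroupOf X) (A.subgroupOf X) le_rfl
    (by
      rw [← Subgroup.subgroupOf_sup le_sup_left le_sup_right]
      exact Subgroup.subgroupOf_eq_top.mpr le_rfl)
    (by
      rw [Subgroup.eq_bot_iff_forall]
      intro x hx
      exact Subtype.ext ((Subgroup.eq_bot_iff_forall _).mp hdisj _ ⟨hx.1, hx.2⟩))
    (by
      rw [← Thompson.map_pPrimeCore_equiv (Subgroup.subgroupOfEquivOfLe le_sup_left).symm, hO,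
        Subgroup.map_bot])
    (((S.2.to_le hA.1) : IsPGroup 2 A).comap_subtype)
    (fun P hP hAP a ha g hg => by
      have hle : A ≤ P.map X.subtype := fun x hx =>
        ⟨⟨x, mem_sup_right hx⟩, hAP hx, rfl⟩
      exact hcl _ (hP.map _) hle a ha g ⟨_, hg, rfl⟩)
  have h2 := congrArg (Subgroup.map X.subtype) h
  rw [Subgroup.map_commutator, map_subgroupOf_eq_of_le le_sup_right,
    map_subgroupOf_eq_of_le le_sup_left, Subgroup.map_bot,
    commutator_eq_bot_iff_le_centralizer] at h2
  exact h2

end Cfsg.Agent.Components
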